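import Cfsg.Agent.BlkC.SubContrib

/-!
# Sums over sections of `p`-elements and Brauer's count `k(B) = ∑ l(b)` (owner: helper4)
-/

set_option autoImplicit false
set_option linter.style.haveILetI false
set_option linter.unusedSectionVars false

namespace Cfsg.Agent.H4

open scoped ComplexConjugate
open Cfsg Cfsg.Agent.CharBase Cfsg.Agent.Blk Cfsg.Agent.BlkInd Cfsg.Agent.BlkC

universe u

section Section

variable {G : Type u} [Group G] [Fintype G] {p : ℕ} [hp : Fact p.Prime]

/-- number of pairs `(h, s)` with `h (x s) h⁻¹ = g` -/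
theorem card_pairs_eq {x : G} (hx : ∃ k : ℕ, orderOf x = p ^ k) {C : Subgroup G} [Fintype C]
    (hC : C = Subgroup.centralizer ({x} : Set G)) (g : G)
    [DecidablePred fun a : G × C => ¬ p ∣ orderOf a.2 ∧ a.1 * (x * (a.2 : G)) * a.1⁻¹ = g]
    [Decidable (∃ h : G, IsPPart p g (h * x * h⁻¹))] :
    (Finset.univ.filter fun a : G × C => ¬ p ∣ orderOf a.2 ∧
      a.1 * (x * (a.2 : G)) * a.1⁻¹ = g).card =
      if ∃ h : G, IsPPart p g (h * x * h⁻¹) then Nat.card C else 0 := by
  classical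
  have hcomm : ∀ k : C, (k : G) * x = x * k := fun k =>
    Subgroup.mem_centralizer_singleton_iff.mp (hC.le k.2)
  have hpart : ∀ (h : G) (s : C), ¬ p ∣ orderOf s → IsPPart p (h * (x * (s : G)) * h⁻¹) (h * x * h⁻¹) := by
    intro h s hs
    have h0 : IsPPart p (x * (s : G)) x :=
      ⟨(s : G), rfl, (hcomm s).symm, hx, by rw [Subgroup.orderOf_coe]; exact hs⟩
    exact isPPart_conj h0 h
  split_ifs with hex
  · obtain ⟨h₀, hh₀⟩ := hex
    obtain ⟨y, hy1, hy2, -, hy3⟩ := hh₀
    -- `g = h₀ x h₀⁻¹ y`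
    rw [Nat.card_eq_fintype_card, ← Finset.card_univ]
    symm
    have hs₀ : h₀⁻¹ * y * h₀ ∈ C := by
      rw [hC, Subgroup.mem_centralizer_singleton_iff]
      have h1 : h₀ * x * h₀⁻¹ * y = y * (h₀ * x * h₀⁻¹) := hy2
      calc h₀⁻¹ * y * h₀ * x = h₀⁻¹ * (y * (h₀ * x * h₀⁻¹)) * h₀ := by group
        _ = h₀⁻¹ * (h₀ * x * h₀⁻¹ * y) * h₀ := by rw [h1]
        _ = _ := by group
    refine Finset.card_bij (fun (c : C) _ => ((h₀ * (c : G), c⁻¹ * ⟨_, hs₀⟩ * c) : G × C)) ?_ ?_ ?_
    · intro c _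
      rw [Finset.mem_filter]
      refine ⟨Finset.mem_univ _, ?_, ?_⟩
      · have h1 : orderOf (c⁻¹ * ⟨_, hs₀⟩ * c) = orderOf y := by
          rw [← Subgroup.orderOf_coe]
          push_cast
          have h2 := orderOf_injective (MulAut.conj ((c : G)⁻¹ * h₀⁻¹)).toMonoidHom
            (MulAut.conj ((c : G)⁻¹ * h₀⁻¹)).injective y
          rw [← h2]
          congr 1
          change _ = ((c : G)⁻¹ * h₀⁻¹) * y * ((c : G)⁻¹ * h₀⁻¹)⁻¹
          group
        rw [h1]; exact hy3
      · push_cast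
        rw [← hy1]
        calc h₀ * (c : G) * (x * ((c : G)⁻¹ * (h₀⁻¹ * y * h₀) * (c : G))) * (h₀ * (c : G))⁻¹
            = h₀ * ((c : G) * x) * (c : G)⁻¹ * (h₀⁻¹ * y * h₀) * h₀⁻¹ := by group
          _ = h₀ * (x * (c : G)) * (c : G)⁻¹ * (h₀⁻¹ * y * h₀) * h₀⁻¹ := by rw [hcomm c]
          _ = _ := by group
    · intro c _ c' _ h
      have h1 := congrArg Prod.fst h
      exact Subtype.ext (mul_left_cancel h1)
    · rintro ⟨h, s⟩ ha
      rw [Finset.mem_filter] at ha
      obtain ⟨-, hs, hg⟩ := ha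
      simp only at hs hg
      have h1 := hpart h s hs
      rw [hg] at h1
      have h2 : IsPPart p g (h₀ * x * h₀⁻¹) := ⟨y, hy1, hy2, by
        obtain ⟨k, hk⟩ := hx
        refine ⟨k, ?_⟩
        rw [← hk]
        exact orderOf_injective (MulAut.conj h₀).toMonoidHom (MulAut.conj h₀).injective x, hy3⟩
      have h3 : h * x * h⁻¹ = h₀ * x * h₀⁻¹ := isPPart_unique hp.out h1 h2
      have hc : h₀⁻¹ * h ∈ C := by
        rw [hC, Subgroup.mem_centralizer_singleton_iff]
        calc h₀⁻¹ * h * x = h₀⁻¹ * (h * x * h⁻¹) * h := by group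
          _ = h₀⁻¹ * (h₀ * x * h₀⁻¹) * h := by rw [h3]
          _ = _ := by group
      refine ⟨⟨_, hc⟩, Finset.mem_univ _, ?_⟩
      have h4 : h * (s : G) * h⁻¹ = y := by
        have h5 : h * x * h⁻¹ * (h * (s : G) * h⁻¹) = h₀ * x * h₀⁻¹ * y := by
          rw [hy1, ← hg]; group
        rw [h3] at h5
        exact mul_left_cancel h5
      refine Prod.ext ?_ (Subtype.ext ?_)
      · change h₀ * (h₀⁻¹ * h) = h
        group
      · push_cast
        rw [← h4]
        group
  · rw [Finset.card_eq_zero, Finset.filter_eq_empty_iff]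
    rintro ⟨h, s⟩ _ ⟨hs, hg⟩
    apply hex
    refine ⟨h, ?_⟩
    have := hpart h s hs
    rwa [hg] at this

/-- **sum over the section of a `p`-element** -/
theorem sum_section_eq {x : G} (hx : ∃ k : ℕ, orderOf x = p ^ k) {C : Subgroup G} [Fintype C]
    (hC : C = Subgroup.centralizer ({x} : Set G)) (f : G → ℂ) (hf : ∀ g h : G, f (h * g * h⁻¹) = f g)
    [∀ s : C, Decidable (p ∣ orderOf s)] [∀ g : G, Decidable (∃ h : G, IsPPart p g (h * x * h⁻¹))] :
    (Nat.card C : ℂ)⁻¹ * ∑ s : C, (if p ∣ orderOf s then 0 else f (x * (s : G))) =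
      (Nat.card G : ℂ)⁻¹ * ∑ g : G, (if ∃ h : G, IsPPart p g (h * x * h⁻¹) then f g else 0) := by
  classical
  have hG : (Nat.card G : ℂ) ≠ 0 := by exact_mod_cast Nat.card_pos.ne'
  have hCc : (Nat.card C : ℂ) ≠ 0 := by exact_mod_cast Nat.card_pos.ne'
  set S : Finset (G × C) := Finset.univ.filter fun a : G × C => ¬ p ∣ orderOf a.2 with hS
  have h1 : ∑ a ∈ S, f (a.1 * (x * (a.2 : G)) * a.1⁻¹) =
      (Nat.card G : ℂ) * ∑ s : C, (if p ∣ orderOf s then 0 else f (x * (s : G))) := by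
    rw [hS, Finset.sum_filter, Fintype.sum_prod_type, Finset.sum_congr rfl fun h _ =>
      Finset.sum_congr rfl fun s _ => show (if ¬ p ∣ orderOf ((h, s) : G × C).2 then
        f (((h, s) : G × C).1 * (x * (((h, s) : G × C).2 : G)) * (((h, s) : G × C).1)⁻¹) else 0) =
        (if p ∣ orderOf s then 0 else f (x * (s : G))) by
          simp only [ite_not]; rw [hf]]
    rw [Finset.sum_const, Finset.card_univ, ← Nat.card_eq_fintype_card, nsmul_eq_mul]
  have h2 : ∑ a ∈ S, f (a.1 * (x * (a.2 : G)) * a.1⁻¹) =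
      (Nat.card C : ℂ) * ∑ g : G, (if ∃ h : G, IsPPart p g (h * x * h⁻¹) then f g else 0) := by
    rw [← Finset.sum_fiberwise_of_maps_to (g := fun a : G × C => a.1 * (x * (a.2 : G)) * a.1⁻¹)
      (t := Finset.univ) (fun _ _ => Finset.mem_univ _), Finset.mul_sum]
    refine Finset.sum_congr rfl fun g _ => ?_
    rw [Finset.sum_congr rfl (g := fun _ => f g) fun a ha => by
      rw [(Finset.mem_filter.mp ha).2], Finset.sum_const, hS, Finset.filter_filter,
      card_pairs_eq hx hC g, nsmul_eq_mul]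
    split_ifs <;> simp
  rw [inv_mul_eq_iff_eq_mul₀ hCc, ← mul_assoc, mul_comm (Nat.card C : ℂ), mul_assoc, ← h2, h1,
    inv_mul_cancel_left₀ hG]

/-- the whole group is the disjoint union of the sections -/
theorem sum_sections {X : Finset G} (_hX : ∀ x ∈ X, ∃ k : ℕ, orderOf x = p ^ k)
    (hXrep : ∀ g : G, (∃ k : ℕ, orderOf g = p ^ k) → ∃! x, x ∈ X ∧ IsConj g x) (f : G → ℂ)
    [∀ x g : G, Decidable (∃ h : G, IsPPart p g (h * x * h⁻¹))] :
    ∑ x ∈ X, ∑ g : G, (if ∃ h : G, IsPPart p g (h * x * h⁻¹) then f g else 0) = ∑ g : G, f g := by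
  classical
  rw [Finset.sum_comm]
  refine Finset.sum_congr rfl fun g _ => ?_
  obtain ⟨u, hu⟩ := exists_isPPart hp.out g
  obtain ⟨x, ⟨hxX, hxu⟩, huniq⟩ := hXrep u (by obtain ⟨_, _, _, h, _⟩ := hu; exact h)
  rw [Finset.sum_eq_single x]
  · rw [if_pos]
    obtain ⟨h, hh⟩ := isConj_iff.mp hxu.symm
    exact ⟨h, by rw [hh]; exact hu⟩
  · intro x' hx' hne
    rw [if_neg]
    rintro ⟨h, hh⟩
    apply hne
    apply huniq
    refine ⟨hx', ?_⟩
    have := isPPart_unique hp.out hu hh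
    rw [this]
    exact (isConj_iff.mpr ⟨h, rfl⟩).symm
  · intro h; exact absurd hxX h

/-- a set of representatives of the conjugacy classes of nontrivial `p`-elements -/
structure IsNTRep (p : ℕ) (X : Finset G) : Prop where
  pel : ∀ x ∈ X, ∃ k : ℕ, orderOf x = p ^ k
  ne_one : ∀ x ∈ X, x ≠ 1
  rep : ∀ g : G, (∃ k : ℕ, orderOf g = p ^ k) → g ≠ 1 → ∃! x, x ∈ X ∧ IsConj g x

variable (G p) in
omit hp in
theorem exists_isNTRep : ∃ X : Finset G, IsNTRep p X := by
  classical
  set S : Finset (ConjClasses G) := (Finset.univ.filter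
    fun g : G => (∃ k : ℕ, orderOf g = p ^ k) ∧ g ≠ 1).image ConjClasses.mk with hS
  have hout : ∀ c : ConjClasses G, ConjClasses.mk (Quotient.out c) = c := fun c => Quotient.out_eq c
  have hkey : ∀ c ∈ S, (∃ k : ℕ, orderOf (Quotient.out c) = p ^ k) ∧ Quotient.out c ≠ 1 := by
    intro c hc
    obtain ⟨g, hg, rfl⟩ := Finset.mem_image.mp hc
    rw [Finset.mem_filter] at hg
    have h1 : IsConj (Quotient.out (ConjClasses.mk g)) g :=
      ConjClasses.mk_eq_mk_iff_isConj.mp (hout _)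
    obtain ⟨h, hh⟩ := isConj_iff.mp h1
    refine ⟨?_, ?_⟩
    · obtain ⟨k, hk⟩ := hg.2.1
      refine ⟨k, ?_⟩
      rw [← hk]
      have h2 := orderOf_injective (MulAut.conj h).toMonoidHom (MulAut.conj h).injective
        (Quotient.out (ConjClasses.mk g) : G)
      change orderOf (h * Quotient.out (ConjClasses.mk g) * h⁻¹) = _ at h2
      rw [← h2, hh]
    · intro h0
      rw [h0, mul_one, mul_inv_cancel] at hh
      exact hg.2.2 hh.symm
  refine ⟨S.image Quotient.out, ?_, ?_, ?_⟩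
  · intro x hx
    obtain ⟨c, hc, rfl⟩ := Finset.mem_image.mp hx
    exact (hkey c hc).1
  · intro x hx
    obtain ⟨c, hc, rfl⟩ := Finset.mem_image.mp hx
    exact (hkey c hc).2
  · intro g hg hg1
    have hmem : ConjClasses.mk g ∈ S := by
      rw [hS]
      exact Finset.mem_image.mpr ⟨g, Finset.mem_filter.mpr ⟨Finset.mem_univ _, hg, hg1⟩, rfl⟩
    refine ⟨Quotient.out (ConjClasses.mk g), ⟨Finset.mem_image_of_mem _ hmem, ?_⟩, ?_⟩
    · exact (ConjClasses.mk_eq_mk_iff_isConj.mp (hout _)).symm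
    · rintro x ⟨hx, hgx⟩
      obtain ⟨c, -, rfl⟩ := Finset.mem_image.mp hx
      have : c = ConjClasses.mk g := by
        rw [← hout c]
        exact ConjClasses.mk_eq_mk_iff_isConj.mpr hgx.symm
      rw [this]

/-- the `p`-singular elements are the disjoint union of the sections -/
theorem sum_singular {X : Finset G} (hX : IsNTRep p X) (f : G → ℂ)
    [∀ x g : G, Decidable (∃ h : G, IsPPart p g (h * x * h⁻¹))] [∀ g : G, Decidable (p ∣ orderOf g)] :
    ∑ x ∈ X, ∑ g : G, (if ∃ h : G, IsPPart p g (h * x * h⁻¹) then f g else 0) =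
      ∑ g : G, (if p ∣ orderOf g then f g else 0) := by
  classical
  rw [Finset.sum_comm]
  refine Finset.sum_congr rfl fun g _ => ?_
  obtain ⟨u, hu⟩ := exists_isPPart hp.out g
  have hu1 : u = 1 ↔ ¬ p ∣ orderOf g := by
    constructor
    · rintro rfl
      obtain ⟨y, hy, -, -, hy2⟩ := hu
      rw [one_mul] at hy
      rwa [← hy]
    · intro h
      refine isPPart_unique hp.out hu ⟨g, one_mul g, Commute.one_left g, ⟨0, by simp⟩, h⟩
  by_cases hg : p ∣ orderOf g
  · rw [if_pos hg]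
    have hne : u ≠ 1 := fun h => hu1.mp h hg
    obtain ⟨x, ⟨hxX, hxu⟩, huniq⟩ := hX.rep u (by obtain ⟨_, _, _, h, _⟩ := hu; exact h) hne
    rw [Finset.sum_eq_single x]
    · rw [if_pos]
      obtain ⟨h, hh⟩ := isConj_iff.mp hxu.symm
      exact ⟨h, by rw [hh]; exact hu⟩
    · intro x' hx' hne
      rw [if_neg]
      rintro ⟨h, hh⟩
      apply hne
      apply huniq
      refine ⟨hx', ?_⟩
      have := isPPart_unique hp.out hu hh
      rw [this]
      exact (isConj_iff.mpr ⟨h, rfl⟩).symm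
    · intro h; exact absurd hxX h
  · rw [if_neg hg]
    refine Finset.sum_eq_zero fun x hx => if_neg ?_
    rintro ⟨h, hh⟩
    have h1 := isPPart_unique hp.out hu hh
    rw [hu1.mpr hg] at h1
    apply hX.ne_one x hx
    calc x = h⁻¹ * (h * x * h⁻¹) * h := by group
      _ = 1 := by rw [← h1]; group

end Section

section Blocks

variable {G : Type u} [Group G] [Fintype G] {p : ℕ} [hp : Fact p.Prime] {M : Ideal AlgInt}
variable {C : Subgroup G} [Fintype C]

/-- the blocks of `C` inducing `B` -/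
noncomputable def indB (M : Ideal AlgInt) (C : Subgroup G) (B : Set (IrrCharacter G)) :
    Finset (Set (IrrCharacter C)) := (Set.toFinite {b | IsInducedBlock M C b B}).toFinset

omit hp [Fintype C] in
@[simp] theorem mem_indB {B : Set (IrrCharacter G)} {b : Set (IrrCharacter C)} :
    b ∈ indB M C B ↔ IsInducedBlock M C b B := Set.Finite.mem_toFinset _

/-- **second main theorem**: values on the section of `x` are the sum of the parts of the blocks
inducing `B`. -/
theorem sum_dpart (hM : IsPModular p M) {x : G}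
    (hx : ∃ k : ℕ, orderOf x = p ^ k) (hC : C = Subgroup.centralizer ({x} : Set G))
    {B : Set (IrrCharacter G)} (hB : IsPBlock M B) {χ : IrrCharacter G} (hχ : χ ∈ B) {y : C}
    (hy : ¬ p ∣ orderOf y) :
    ∑ b ∈ indB M C B, dpart p x b (χ : G → ℂ) y = (χ : G → ℂ) (x * (y : G)) := by
  classical
  haveI := isPrime_of_isPModular hM
  haveI := Fintype.ofFinite (IrrCharacter C)
  set T : Finset (Set (IrrCharacter C)) :=
    Finset.univ.image fun η : IrrCharacter C => blockOf M (η : C → ℂ) with hT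
  have hsub : indB M C B ⊆ T := by
    intro b hb
    rw [mem_indB] at hb
    obtain ⟨η, hη⟩ := hb.1
    rw [hT, Finset.mem_image]
    exact ⟨η, Finset.mem_univ _, hη.symm⟩
  have h1 : ∑ b ∈ indB M C B, dpart p x b (χ : G → ℂ) y = ∑ b ∈ T, dpart p x b (χ : G → ℂ) y := by
    refine Finset.sum_subset hsub fun b hb hnb => ?_
    rw [hT, Finset.mem_image] at hb
    obtain ⟨η, -, rfl⟩ := hb
    obtain ⟨B', hB'⟩ := exists_induced hM hx hC (isPBlock_blockOf (M := M) η)
    have hne : B' ≠ B := by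
      rintro rfl
      exact hnb (mem_indB.mpr hB')
    rw [dpart_eq_zero_of_notMem hM hx hC hB' (fun h => hne (isPBlock_eq_of_mem hB'.2.1 hB h hχ))]
    rfl
  rw [h1]
  have h2 : ∀ b ∈ T, dpart p x b (χ : G → ℂ) y =
      ∑ η ∈ Finset.univ.filter (fun η : IrrCharacter C => blockOf M (η : C → ℂ) = b),
        dco x (χ : G → ℂ) η * (η : C → ℂ) y := by
    intro b hb
    rw [dpart_eq_sum x b _ hy]
    refine Finset.sum_congr ?_ fun _ _ => rfl
    ext η
    rw [mem_Bfin, Finset.mem_filter]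
    rw [hT, Finset.mem_image] at hb
    obtain ⟨η', -, rfl⟩ := hb
    constructor
    · intro h
      refine ⟨Finset.mem_univ _, ?_⟩
      exact isPBlock_eq_of_mem (isPBlock_blockOf _) (isPBlock_blockOf _) (mem_blockOf_self η) h
    · rintro ⟨-, h⟩
      rw [← h]; exact mem_blockOf_self η
  rw [Finset.sum_congr rfl h2, Finset.sum_fiberwise_of_maps_to (fun η _ => by
    rw [hT]; exact Finset.mem_image_of_mem _ (Finset.mem_univ _))]
  exact (classFun_apply_eq_sum (classFun_translate hC (irr_isClassFunction χ)) y).symm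

/-- parts for different blocks are orthogonal -/
theorem sum_dpart_mul_dpart (hM : IsPModular p M) {x : G}
    {b b' : Set (IrrCharacter C)} (hb : IsPBlock M b) (hb' : IsPBlock M b') (hne : b ≠ b')
    (χ ψ : G → ℂ) :
    ∑ s : C, dpart p x b χ s * conj (dpart p x b' ψ s) = 0 := by
  classical
  haveI := isPrime_of_isPModular hM
  have hCc : (Nat.card C : ℂ) ≠ 0 := by exact_mod_cast Nat.card_pos.ne'
  have h1 : ∀ s : C, dpart p x b χ s * conj (dpart p x b' ψ s) =
      ∑ η ∈ Bfin b, ∑ η' ∈ Bfin b', dco x χ η * conj (dco x ψ η') *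
        ((η : C → ℂ) s * regConj p (η' : C → ℂ) s) := by
    intro s
    by_cases hs : p ∣ orderOf s
    · rw [dpart_of_sing χ hs, zero_mul]
      symm
      refine Finset.sum_eq_zero fun η _ => Finset.sum_eq_zero fun η' _ => ?_
      simp [regConj, hs]
    · rw [dpart_eq_sum x b χ hs, dpart_eq_sum x b' ψ hs, map_sum, Finset.sum_mul_sum]
      refine Finset.sum_congr rfl fun η _ => Finset.sum_congr rfl fun η' _ => ?_
      rw [map_mul]
      simp only [regConj, if_neg hs]
      ring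
  rw [Finset.sum_congr rfl fun s _ => h1 s, Finset.sum_comm]
  refine Finset.sum_eq_zero fun η hη => ?_
  rw [Finset.sum_comm]
  refine Finset.sum_eq_zero fun η' hη' => ?_
  rw [← Finset.mul_sum]
  apply mul_eq_zero_of_right
  have h2 : regInner p (η : C → ℂ) (η' : C → ℂ) = 0 := by
    apply regInner_eq_zero hM
    intro h
    exact hne (isPBlock_eq_of_mem hb hb' (mem_of_sameBlock hb (mem_Bfin.mp hη) h) (mem_Bfin.mp hη'))
  unfold regInner at h2
  rcases mul_eq_zero.mp h2 with h | h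
  · exact absurd h (inv_ne_zero hCc)
  · exact h

open Classical in
/-- sum of the contributions of all subsections with first component `x` -/
theorem sum_indB_sc (hM : IsPModular p M) {x : G}
    (hx : ∃ k : ℕ, orderOf x = p ^ k) (hC : C = Subgroup.centralizer ({x} : Set G))
    {B : Set (IrrCharacter G)} (hB : IsPBlock M B) {χ ψ : IrrCharacter G} (hχ : χ ∈ B) (hψ : ψ ∈ B) :
    ∑ b ∈ indB M C B, sc p x b (χ : G → ℂ) (ψ : G → ℂ) =
      (Nat.card G : ℂ)⁻¹ * ∑ g : G, (if ∃ h : G, IsPPart p g (h * x * h⁻¹) then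
        (χ : G → ℂ) g * conj ((ψ : G → ℂ) g) else 0) := by
  rw [← sum_section_eq hx hC (fun g => (χ : G → ℂ) g * conj ((ψ : G → ℂ) g)) (fun g h => by
    show (χ : G → ℂ) (h * g * h⁻¹) * conj ((ψ : G → ℂ) (h * g * h⁻¹)) = _
    rw [irr_isClassFunction χ g h, irr_isClassFunction ψ g h])]
  unfold sc
  rw [← Finset.mul_sum, Finset.sum_comm]
  congr 1
  -- insert the vanishing cross terms
  have h1 : ∑ s : C, (if p ∣ orderOf s then 0 else
      (χ : G → ℂ) (x * (s : G)) * conj ((ψ : G → ℂ) (x * (s : G)))) =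
      ∑ s : C, ∑ b ∈ indB M C B, ∑ b' ∈ indB M C B,
        dpart p x b (χ : G → ℂ) s * conj (dpart p x b' (ψ : G → ℂ) s) := by
    refine Finset.sum_congr rfl fun s _ => ?_
    by_cases hs : p ∣ orderOf s
    · rw [if_pos hs]
      symm
      refine Finset.sum_eq_zero fun b _ => Finset.sum_eq_zero fun b' _ => ?_
      rw [dpart_of_sing _ hs, zero_mul]
    · rw [if_neg hs, ← sum_dpart hM hx hC hB hχ hs, ← sum_dpart hM hx hC hB hψ hs, map_sum,
        Finset.sum_mul_sum]
  rw [h1, Finset.sum_comm, Finset.sum_comm (s := Finset.univ)]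
  refine Finset.sum_congr rfl fun b hb => ?_
  rw [Finset.sum_comm, Finset.sum_eq_single b]
  · intro b' hb' hne
    exact sum_dpart_mul_dpart hM (mem_indB.mp hb).1 (mem_indB.mp hb').1 (Ne.symm hne) _ _
  · intro h; exact absurd hb h

/-- **Brauer's count** (finset form) -/
theorem card_eq_sum_blockRank (hM : IsPModular p M)
    {B : Set (IrrCharacter G)} (hB : IsPBlock M B) {X : Finset G}
    (hX : ∀ x ∈ X, ∃ k : ℕ, orderOf x = p ^ k)
    (hXrep : ∀ g : G, (∃ k : ℕ, orderOf g = p ^ k) → ∃! x, x ∈ X ∧ IsConj g x) :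
    Nat.card B = ∑ x ∈ X, ∑ b ∈ indB M (Subgroup.centralizer ({x} : Set G)) B, blockRank p b := by
  classical
  haveI : ∀ x : G, Fintype (Subgroup.centralizer ({x} : Set G)) := fun x => Fintype.ofFinite _
  have hG : (Nat.card G : ℂ) ≠ 0 := by exact_mod_cast Nat.card_pos.ne'
  have h1 : ((∑ x ∈ X, ∑ b ∈ indB M (Subgroup.centralizer ({x} : Set G)) B, blockRank p b : ℕ) : ℂ) =
      ∑ χ ∈ Bfin B, ∑ x ∈ X, ∑ b ∈ indB M (Subgroup.centralizer ({x} : Set G)) B,
        sc p x b (χ : G → ℂ) (χ : G → ℂ) := by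
    push_cast
    rw [Finset.sum_comm]
    refine Finset.sum_congr rfl fun x hx => ?_
    rw [Finset.sum_comm]
    refine Finset.sum_congr rfl fun b hb => ?_
    exact (sum_sc_self hM (hX x hx) rfl (mem_indB.mp hb)).symm
  have h2 : ∀ χ ∈ Bfin B, ∑ x ∈ X, ∑ b ∈ indB M (Subgroup.centralizer ({x} : Set G)) B,
        sc p x b (χ : G → ℂ) (χ : G → ℂ) = 1 := by
    intro χ hχ
    rw [Finset.sum_congr rfl fun x hx => sum_indB_sc hM (hX x hx) rfl hB (mem_Bfin.mp hχ)
      (mem_Bfin.mp hχ), ← Finset.mul_sum, sum_sections hX hXrep]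
    exact classInner_irr_self χ
  rw [Finset.sum_congr rfl h2, Finset.sum_const, nsmul_eq_mul, mul_one] at h1
  rw [natCard_eq_Bfin]
  exact_mod_cast h1.symm

theorem charConj_mul_sum (hM : IsPModular p M)
    {B : Set (IrrCharacter G)} (hB : IsPBlock M B) {X : Finset G} (hX : IsNTRep p X)
    {χ ψ : IrrCharacter G} (hχ : χ ∈ B) (hψ : ψ ∈ B)
    [∀ x : G, Fintype (Subgroup.centralizer ({x} : Set G))] :
    regInner p (χ : G → ℂ) (ψ : G → ℂ) +
      ∑ x ∈ X, ∑ b ∈ indB M (Subgroup.centralizer ({x} : Set G)) B,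
        sc p x b (χ : G → ℂ) (ψ : G → ℂ) = classInner (χ : G → ℂ) (ψ : G → ℂ) := by
  classical
  rw [Finset.sum_congr rfl fun x hx => sum_indB_sc hM (hX.pel x hx) rfl hB hχ hψ,
    ← Finset.mul_sum, sum_singular hX]
  unfold regInner classInner
  rw [← mul_add, ← Finset.sum_add_distrib]
  congr 1
  refine Finset.sum_congr rfl fun g _ => ?_
  unfold regConj
  split_ifs <;> simp

/-- **Brauer's count**: `k(B) = l(B) + ∑_{(x, b), x ≠ 1} l(b)`. -/
theorem card_eq_add_sum (hM : IsPModular p M)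
    {B : Set (IrrCharacter G)} (hB : IsPBlock M B) {X : Finset G} (hX : IsNTRep p X) :
    Nat.card B = blockRank p B +
      ∑ x ∈ X, ∑ b ∈ indB M (Subgroup.centralizer ({x} : Set G)) B, blockRank p b := by
  classical
  haveI : ∀ x : G, Fintype (Subgroup.centralizer ({x} : Set G)) := fun x => Fintype.ofFinite _
  have h1 : ((∑ x ∈ X, ∑ b ∈ indB M (Subgroup.centralizer ({x} : Set G)) B, blockRank p b : ℕ) : ℂ) =
      ∑ χ ∈ Bfin B, ∑ x ∈ X, ∑ b ∈ indB M (Subgroup.centralizer ({x} : Set G)) B,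
        sc p x b (χ : G → ℂ) (χ : G → ℂ) := by
    push_cast
    rw [Finset.sum_comm]
    refine Finset.sum_congr rfl fun x hx => ?_
    rw [Finset.sum_comm]
    refine Finset.sum_congr rfl fun b hb => ?_
    exact (sum_sc_self hM (hX.pel x hx) rfl (mem_indB.mp hb)).symm
  have h2 := sum_regInner_self hM hB
  have h3 : ((Bfin B).card : ℂ) = (blockRank p B : ℂ) +
      ((∑ x ∈ X, ∑ b ∈ indB M (Subgroup.centralizer ({x} : Set G)) B, blockRank p b : ℕ) : ℂ) := by
    rw [h1, ← h2, ← Finset.sum_add_distrib, Finset.sum_congr rfl fun χ hχ => (by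
      rw [charConj_mul_sum hM hB hX (mem_Bfin.mp hχ) (mem_Bfin.mp hχ), classInner_irr_self] :
        _ = (1 : ℂ))]
    simp
  rw [natCard_eq_Bfin]
  exact_mod_cast h3

end Blocks

end Cfsg.Agent.H4
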