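import Cfsg.Agent.H75.Tools
import Cfsg.Agent.H33.PairCount

set_option autoImplicit false

/-! Definitions for S2219 (helper4): the configuration `N_G(P)/C_G(P)` a four-group, `|P| = 9`. -/

namespace Cfsg.Agent.H4.K3

open Cfsg Subgroup
open Cfsg.Agent.CharBase

universe u

/-- `P = ⟨k₁⟩ × ⟨k₂⟩` of order 9, `N_G(P)` inducing on `P` exactly the four-group `⟨e₁, e₂⟩`. -/
structure V4Sit {G : Type u} [Group G] (P : Sylow 3 G) (k₁ k₂ e₁ e₂ : G) : Prop where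
  m₁ : k₁ ∈ P
  m₂ : k₂ ∈ P
  o₁ : orderOf k₁ = 3
  o₂ : orderOf k₂ = 3
  comm : k₁ * k₂ = k₂ * k₁
  gen : ∀ x ∈ P, ∃ i j : ℕ, x = k₁ ^ i * k₂ ^ j
  card : Nat.card (P : Subgroup G) = 9
  a₁ : e₁ * k₁ * e₁⁻¹ = k₁⁻¹
  a₂ : e₁ * k₂ * e₁⁻¹ = k₂
  b₁ : e₂ * k₁ * e₂⁻¹ = k₁
  b₂ : e₂ * k₂ * e₂⁻¹ = k₂⁻¹
  nrm : ∀ n ∈ normalizer ((P : Subgroup G) : Set G),
    (n * k₁ * n⁻¹ = k₁ ∨ n * k₁ * n⁻¹ = k₁⁻¹) ∧ (n * k₂ * n⁻¹ = k₂ ∨ n * k₂ * n⁻¹ = k₂⁻¹)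

/-- The output of the block theory in the configuration `V4Sit`. -/
structure Vec {G : Type u} [Group G] [Finite G] [Fintype (IrrCharacter G)]
    (p p' : Fin 3 → IrrCharacter G → ℤ) : Prop where
  gram : ∀ i j, ∑ χ, p i χ * p j χ = if i = j then 3 else 0
  gram' : ∀ i j, ∑ χ, p' i χ * p' j χ = if i = j then 3 else 0
  cross : ∀ i j, ∑ χ, p i χ * p' j χ = 1
  sum : ∀ χ, ∑ i, p i χ = ∑ i, p' i χ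
  one : ∀ i, p i (oneIrr G) = if i = 0 then 1 else 0
  one' : ∀ i, p' i (oneIrr G) = if i = 0 then 1 else 0
  reg : ∀ i (g : G), ¬ 3 ∣ orderOf g → ∑ χ, (p i χ : ℂ) * (χ : G → ℂ) g = 0
  reg' : ∀ i (g : G), ¬ 3 ∣ orderOf g → ∑ χ, (p' i χ : ℂ) * (χ : G → ℂ) g = 0
  md : ∀ χ, ∑ i, p i χ ≠ 0 → (3 : ℤ) ∣ (H75.deg χ : ℤ) - ∑ i, p i χ

/-- a nontrivial element commuting data used in `TRI`: the three-term relation lemma. -/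
def Tri (G : Type u) [Group G] [Finite G] (q b : ℕ) : Prop :=
  ∀ (χ₁ χ₂ : IrrCharacter G) (ε₁ ε₂ : ℤ), (ε₁ = 1 ∨ ε₁ = -1) → (ε₂ = 1 ∨ ε₂ = -1) →
    χ₁ ≠ oneIrr G → χ₂ ≠ oneIrr G → ¬ 3 ∣ H75.deg χ₁ → ¬ 3 ∣ H75.deg χ₂ →
    (∀ g : G, ¬ 3 ∣ orderOf g → 1 + (ε₁ : ℂ) * (χ₁ : G → ℂ) g + (ε₂ : ℂ) * (χ₂ : G → ℂ) g = 0) →
    b = 1 ∧ ((H75.deg χ₁ = q ∧ ∃ i, H75.deg χ₂ = 2 ^ i) ∨ (H75.deg χ₂ = q ∧ ∃ i, H75.deg χ₁ = 2 ^ i))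

/-- the Burnside vanishing statement -/
def Van (G : Type u) [Group G] [Finite G] (q : ℕ) : Prop :=
  ∃ x : G, x ≠ 1 ∧ ¬ 3 ∣ orderOf x ∧
    ∀ (χ : IrrCharacter G) (j : ℕ), χ ≠ oneIrr G → H75.deg χ = q ^ j → (χ : G → ℂ) x = 0

end Cfsg.Agent.H4.K3
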