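import Cfsg.Agent.H4.KleinLoc
import Cfsg.Agent.BlkF.Abel
import Cfsg.Agent.BlkInd.Link
import Cfsg.Agent.BlkF.MajorChar

/-!
# Subsections of blocks with abelian defect group and orbits of the inertial quotient
(owner: helper4)
-/

set_option autoImplicit false
set_option linter.style.haveILetI false
set_option linter.unusedSectionVars false

namespace Cfsg.Agent.H4

open scoped ComplexConjugate
open Cfsg Cfsg.Agent.CharBase Cfsg.Agent.Blk Cfsg.Agent.BlkInd Cfsg.Agent.BlkC Cfsg.Agent.BlkF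

universe u

variable {G : Type u} [Group G] [Fintype G] {p : ℕ} [hp : Fact p.Prime] {M : Ideal AlgInt}
variable {B : Set (IrrCharacter G)}

theorem mpairOf_of_ind [M.IsPrime] (hM : IsPModular p M) {x : G}
    (hx : ∃ k : ℕ, orderOf x = p ^ k) {C : Subgroup G}
    (hC : C = Subgroup.centralizer ({x} : Set G)) {b : Set (IrrCharacter C)}
    (hind : IsInducedBlock M C b B) : MPairOf p (eB M B) (Subgroup.zpowers x) (EB M C b) := by
  have hC' : C = Subgroup.centralizer ((Subgroup.zpowers x : Subgroup G) : Set G) :=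
    hC.trans (centralizer_zpowers_eq x).symm
  subst hC'
  exact BlkF.mpairOf_of_isInducedBlock hM hx hind

theorem ind_of_mpairOf [M.IsPrime] (hM : IsPModular p M) (hB : IsPBlock M B) {x : G}
    (hx : ∃ k : ℕ, orderOf x = p ^ k) {C : Subgroup G}
    (hC : C = Subgroup.centralizer ({x} : Set G)) {b : Set (IrrCharacter C)} (hb : IsPBlock M b)
    (h : MPairOf p (eB M B) (Subgroup.zpowers x) (EB M C b)) : IsInducedBlock M C b B := by
  have hC' : C = Subgroup.centralizer ((Subgroup.zpowers x : Subgroup G) : Set G) :=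
    hC.trans (centralizer_zpowers_eq x).symm
  subst hC'
  exact isInducedBlock_of_brauerElement hM hx ((isBrauerPairOf_iff hM hB hb).mpr h)

theorem cjS_zpowers (g u : G) : cjS g (Subgroup.zpowers u) = Subgroup.zpowers (g * u * g⁻¹) := by
  exact MonoidHom.map_zpowers (MulAut.conj g).toMonoidHom u

theorem sub_ext [M.IsPrime] {s t : Σ x : G, Set (IrrCharacter (Subgroup.centralizer ({x} : Set G)))}
    (hs : IsPBlock M s.2) (ht : IsPBlock M t.2) (h1 : s.1 = t.1)
    (h2 : EB M _ s.2 = EB M _ t.2) : s = t := by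
  obtain ⟨x, b⟩ := s
  obtain ⟨y, c⟩ := t
  simp only at h1
  subst h1
  simp only at h2 hs ht
  rw [EB_injective hs ht h2]

/-- **Subsections and orbits**: for a block with abelian defect group `P` and maximal pair
`(P, e)` the nontrivial subsections (up to conjugacy) correspond to the orbits of the stabilizer
`T` of `e` in `N_G(P)` on `P \ {1}`. -/
theorem exists_phi [M.IsPrime] (hM : IsPModular p M) (hB : IsPBlock M B) {P : Subgroup G}
    {e : MonoidAlgebra (kM M) G} (hmax : haveI := charP_kM hM; MMax p P e)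
    (hPe : MPairOf p (eB M B) P e) (hab : ∀ x ∈ P, ∀ y ∈ P, x * y = y * x)
    {X : Finset G} (hX : IsNTRep p X) :
    ∃ Φ : {u : G // u ∈ P ∧ u ≠ 1} →
        (Σ x : G, Set (IrrCharacter (Subgroup.centralizer ({x} : Set G)))),
      (∀ u, Φ u ∈ subs M X B) ∧ (∀ s ∈ subs M X B, ∃ u, Φ u = s) ∧
      (∀ u v, Φ u = Φ v ↔ ∃ t ∈ stab (Subgroup.normalizer (P : Set G)) e,
        t * (u : G) * t⁻¹ = v) := by
  classical
  haveI := charP_kM hM
  have hPp := hmax.1.isPGroup
  have hle : ∀ u : {u : G // u ∈ P ∧ u ≠ 1}, Subgroup.zpowers (u : G) ≤ P :=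
    fun u => Subgroup.zpowers_le.mpr u.2.1
  have hup : ∀ u : {u : G // u ∈ P ∧ u ≠ 1}, ∃ k : ℕ, orderOf (u : G) = p ^ k := by
    intro u
    obtain ⟨k, hk⟩ := (IsPGroup.iff_orderOf.mp hPp) ⟨u, u.2.1⟩
    exact ⟨k, by rw [← hk, ← Subgroup.orderOf_coe]⟩
  choose f hf hfu using fun u : {u : G // u ∈ P ∧ u ≠ 1} => existsUnique_mle hmax.1 (hle u)
  choose x hx hxu using fun u : {u : G // u ∈ P ∧ u ≠ 1} => hX.rep u (hup u) u.2.2
  choose g hg using fun u : {u : G // u ∈ P ∧ u ≠ 1} => isConj_iff.mp (hx u).2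
  have hpair : ∀ u, MPairOf p (eB M B) (Subgroup.zpowers (x u)) (Blk.cj (g u) (f u)) := by
    intro u
    have h1 := ((hf u).pairOf_iff hmax.1).mp hPe
    have h2 := h1.cj (g u)
    rwa [show (Subgroup.zpowers (u : G)).map (MulAut.conj (g u)).toMonoidHom =
      Subgroup.zpowers (x u) by rw [← hg u]; exact cjS_zpowers _ _] at h2
  have hblk : ∀ u, IsBlk (Subgroup.centralizer ({x u} : Set G)) (Blk.cj (g u) (f u)) := by
    intro u
    have := (hpair u).1.blk
    rwa [centralizer_zpowers_eq] at this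
  choose b hb1 hb2 using fun u => exists_EB (hblk u)
  have hxp : ∀ u, ∃ k : ℕ, orderOf (x u) = p ^ k := fun u => hX.pel _ (hx u).1
  have hind : ∀ u, IsInducedBlock M (Subgroup.centralizer ({x u} : Set G)) (b u) B := by
    intro u
    refine ind_of_mpairOf hM hB (hxp u) rfl (hb1 u) ?_
    rw [hb2]; exact hpair u
  have hfix : ∀ (u) (c : G), c ∈ Subgroup.centralizer ({x u} : Set G) →
      Blk.cj c (Blk.cj (g u) (f u)) = Blk.cj (g u) (f u) := fun u c hc => (hblk u).fixed c hc
  refine ⟨fun u => ⟨x u, b u⟩, fun u => Finset.mem_sigma.mpr ⟨(hx u).1, mem_indB.mpr (hind u)⟩,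
    ?_, ?_⟩
  · -- surjectivity
    intro s hs
    obtain ⟨hs1, hs2⟩ := Finset.mem_sigma.mp hs
    rw [mem_indB] at hs2
    have h1 := mpairOf_of_ind hM (hX.pel _ hs1) rfl hs2
    obtain ⟨h, hh⟩ := hmax.exists_conj_le hPe h1
    have hz : (Subgroup.zpowers s.1).map (MulAut.conj h).toMonoidHom =
        Subgroup.zpowers (h * s.1 * h⁻¹) := cjS_zpowers _ _
    rw [hz] at hh
    have hmem : h * s.1 * h⁻¹ ∈ P := hh.le (Subgroup.mem_zpowers _)
    have hne : h * s.1 * h⁻¹ ≠ 1 := by
      intro h0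
      apply hX.ne_one _ hs1
      calc s.1 = h⁻¹ * (h * s.1 * h⁻¹) * h := by group
        _ = 1 := by rw [h0]; group
    refine ⟨⟨_, hmem, hne⟩, ?_⟩
    set u : {u : G // u ∈ P ∧ u ≠ 1} := ⟨h * s.1 * h⁻¹, hmem, hne⟩ with hu
    have hxs : x u = s.1 := by
      refine (hxu u s.1 ⟨hs1, ?_⟩).symm
      exact (isConj_iff.mpr ⟨h, rfl⟩).symm
    have hfs : f u = Blk.cj h (EB M _ s.2) := (hfu u _ hh).symm
    refine sub_ext (M := M) (hb1 u) hs2.1 hxs ?_
    rw [hb2 u, hfs, cj_cj]
    refine (isBlk_EB hs2.1).fixed _ ?_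
    rw [Subgroup.mem_centralizer_singleton_iff]
    have h3 : g u * (h * s.1 * h⁻¹) * (g u)⁻¹ = s.1 := (hg u).trans hxs
    calc g u * h * s.1 = (g u * (h * s.1 * h⁻¹) * (g u)⁻¹) * (g u * h) := by group
      _ = s.1 * (g u * h) := by rw [h3]
  · intro u v
    constructor
    · intro huv
      have hxx : x u = x v := (Sigma.mk.inj_iff.mp huv).1
      have hbb : Blk.cj (g u) (f u) = Blk.cj (g v) (f v) := by
        rw [← hb2 u, ← hb2 v]
        have : ∀ s t : (Σ x : G, Set (IrrCharacter (Subgroup.centralizer ({x} : Set G)))),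
            s = t → EB M _ s.2 = EB M _ t.2 := by
          rintro s t rfl; rfl
        exact this ⟨x u, b u⟩ ⟨x v, b v⟩ huv
      set h := (g v)⁻¹ * g u with hh
      have huv' : h * (u : G) * h⁻¹ = v := by
        have h1 := hg u
        have h2 := hg v
        rw [hxx, ← h2] at h1
        calc h * (u : G) * h⁻¹ = (g v)⁻¹ * (g u * u * (g u)⁻¹) * g v := by rw [hh]; group
          _ = (g v)⁻¹ * (g v * v * (g v)⁻¹) * g v := by rw [h1]
          _ = v := by group
      have hfv : Blk.cj h (f u) = f v := by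
        have h1 := congrArg (Blk.cj (g v)⁻¹) hbb
        rw [cj_cj, cj_cj, inv_mul_cancel, cj_one_left] at h1
        exact h1
      have hle1 := (hf u).cj h
      rw [show (Subgroup.zpowers (u : G)).map (MulAut.conj h).toMonoidHom =
        Subgroup.zpowers (v : G) by rw [← huv']; exact cjS_zpowers _ _, hfv] at hle1
      have hPCu := le_centralizer_of_comm hab (hle u)
      have hPCv := le_centralizer_of_comm hab (hle v)
      have hP'C : cjS h P ≤ Subgroup.centralizer ((Subgroup.zpowers (v : G) : Subgroup G) : Set G) := by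
        have h1 := map_conj_mono hPCu h
        rw [map_conj_centralizer, show (Subgroup.zpowers (u : G)).map (MulAut.conj h).toMonoidHom =
          Subgroup.zpowers (v : G) by rw [← huv']; exact cjS_zpowers _ _] at h1
        exact h1
      have hn : MNorm p (Subgroup.zpowers (v : G)) (f v) P e :=
        MLe.mnorm (hf v) hmax.1 (hPCv.trans (Blk.centralizer_le_normalizer _))
      have hn' : MNorm p (Subgroup.zpowers (v : G)) (f v) (cjS h P) (Blk.cj h e) :=
        MLe.mnorm hle1 (hmax.1.cj h) (hP'C.trans (Blk.centralizer_le_normalizer _))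
      obtain ⟨c, hc, hle2⟩ := exists_conj_in_centralizer hn.left hPCv hP'C hn hn'
        (isDef_centralizer_of_comm hmax hab (hf v))
      have h1 : cjS c (cjS h P) = P := by
        refine Subgroup.eq_of_le_of_card_ge hle2.le ?_
        rw [Blk.card_map_conj, Blk.card_map_conj]
      have h2 : Blk.cj c (Blk.cj h e) = e := by
        have h3 := hle2
        rw [h1] at h3
        exact h3.eq_of_eq hmax.1
      rw [cjS_cjS] at h1
      rw [cj_cj] at h2
      refine ⟨c * h, ⟨mem_normalizer_of_cjS_eq h1, h2⟩, ?_⟩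
      rw [centralizer_zpowers_eq, Subgroup.mem_centralizer_singleton_iff] at hc
      calc c * h * (u : G) * (c * h)⁻¹ = c * (h * u * h⁻¹) * c⁻¹ := by group
        _ = c * v * c⁻¹ := by rw [huv']
        _ = v := by rw [hc]; group
    · rintro ⟨t, ⟨ht1, ht2⟩, htu⟩
      have hle1 := (hf u).cj t
      rw [show (Subgroup.zpowers (u : G)).map (MulAut.conj t).toMonoidHom =
        Subgroup.zpowers (v : G) by rw [← htu]; exact cjS_zpowers _ _,
        map_conj_of_mem_normalizer ht1, ht2] at hle1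
      have hfv : Blk.cj t (f u) = f v := (hfu v _ hle1)
      have hxx : x u = x v := by
        refine hxu v _ ⟨(hx u).1, ?_⟩
        have : IsConj (u : G) v := isConj_iff.mpr ⟨t, htu⟩
        exact this.symm.trans (hx u).2
      refine sub_ext (M := M) (hb1 u) (hb1 v) hxx ?_
      change EB M _ (b u) = EB M _ (b v)
      rw [hb2, hb2, ← hfv, cj_cj]
      have h1 : Blk.cj (g v * t) (f u) = Blk.cj (g v * t * (g u)⁻¹) (Blk.cj (g u) (f u)) := by
        rw [cj_cj]; congr 1; group
      rw [h1]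
      refine (hfix u _ ?_).symm
      rw [Subgroup.mem_centralizer_singleton_iff]
      have h2 : (g v * t * (g u)⁻¹) * x u * (g v * t * (g u)⁻¹)⁻¹ = x u := by
        rw [← hg u]
        calc (g v * t * (g u)⁻¹) * (g u * u * (g u)⁻¹) * (g v * t * (g u)⁻¹)⁻¹
            = g v * (t * u * t⁻¹) * (g v)⁻¹ := by group
          _ = g v * v * (g v)⁻¹ := by rw [htu]
          _ = g u * u * (g u)⁻¹ := by rw [hg v, hg u, hxx]
      calc (g v * t * (g u)⁻¹) * x u
          = (g v * t * (g u)⁻¹) * x u * (g v * t * (g u)⁻¹)⁻¹ * (g v * t * (g u)⁻¹) := by group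
        _ = x u * (g v * t * (g u)⁻¹) := by rw [h2]

end Cfsg.Agent.H4
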