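import Cfsg.Agent.H4.AbelCount

/-!
# Blocks with abelian defect groups: setup (owner: helper4)
-/

set_option autoImplicit false
set_option linter.style.haveILetI false
set_option linter.unusedSectionVars false

namespace Cfsg.Agent.H4

open scoped ComplexConjugate
open Cfsg Cfsg.Agent.CharBase Cfsg.Agent.Blk Cfsg.Agent.BlkInd Cfsg.Agent.BlkC Cfsg.Agent.BlkF

universe u

variable {G : Type u} [Group G] [Fintype G] {p : ℕ} [hp : Fact p.Prime] {M : Ideal AlgInt}
variable {B : Set (IrrCharacter G)}

/-- a block of `C_G(P)` inducing `B`, `P` abelian -/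
theorem mpairOf_of_ind_comm [M.IsPrime] (hM : IsPModular p M) {P : Subgroup G}
    (hP : IsPGroup p P) (hab : ∀ x ∈ P, ∀ y ∈ P, x * y = y * x)
    {c : Set (IrrCharacter (Subgroup.centralizer (P : Set G)))}
    (hc : IsInducedBlock M (Subgroup.centralizer (P : Set G)) c B) :
    haveI := charP_kM hM
    MPairOf p (eB M B) P (EB M _ c) := by
  classical
  haveI := charP_kM hM
  haveI := Fintype.ofFinite (Subgroup.centralizer (P : Set G))
  have hPC : P ≤ Subgroup.centralizer (P : Set G) := le_centralizer_of_comm hab le_rfl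
  set D := P.subgroupOf (Subgroup.centralizer (P : Set G)) with hD
  have hDm : D.map (Subgroup.centralizer (P : Set G)).subtype = P := map_subgroupOf' hPC
  have hcen : Subgroup.centralizer (D : Set (Subgroup.centralizer (P : Set G))) = ⊤ := by
    rw [eq_top_iff]
    intro y _
    rw [Subgroup.mem_centralizer_iff]
    intro z hz
    have hz' : (z : G) ∈ P := hz
    exact Subtype.ext (Subgroup.mem_centralizer_iff.mp y.2 z hz')
  have hEb := isBlk_eB hc.1
  have hDp : IsPGroup p D := hP.comap_of_injective _ (Subgroup.subtype_injective _)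
  have he : MPairOf p (eB M c) D (eB M c) := by
    refine ⟨⟨hDp, ?_⟩, hEb, ?_⟩
    · rw [hcen]; exact hEb
    · rw [Blk.br, hcen]
      have : Blk.trunc ⊤ (eB M c) = eB M c := by
        apply Blk.ga_ext
        intro g
        rw [Blk.trunc_coeff_of_mem _ (Subgroup.mem_top g)]
      rw [this, hEb.idem]
  have h1 := mpairOf_of_induced hM hc he (by rw [hDm])
  rw [hDm] at h1
  exact h1

/-- the setup for abelian defect groups -/
theorem comm_setup [M.IsPrime] (hM : IsPModular p M) {P : Subgroup G}
    (hPD : IsDefectGroup p M B P) (hab : ∀ x ∈ P, ∀ y ∈ P, x * y = y * x)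
    {c : Set (IrrCharacter (Subgroup.centralizer (P : Set G)))}
    (hc : IsInducedBlock M (Subgroup.centralizer (P : Set G)) c B) :
    haveI := charP_kM hM
    MPairOf p (eB M B) P (EB M _ c) ∧ MMax p P (EB M _ c) ∧
      IsDef p (Subgroup.centralizer (P : Set G)) (EB M _ c) P := by
  haveI := charP_kM hM
  have h1 := mpairOf_of_ind_comm hM (isPGroup_of_isDefectGroup hPD) hab hc
  have hdef := (isDefectGroup_iff hM hc.2.1 P).mp hPD
  have hmax := MPairOf.mmax h1 hdef
  exact ⟨h1, hmax, isDef_centralizer_of_comm hmax hab (MLe.refl _ _)⟩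

/-- the inertial index is prime to `p` -/
theorem not_dvd_inertial [M.IsPrime] (hM : IsPModular p M) {P : Subgroup G}
    {e : MonoidAlgebra (kM M) G} (hmax : haveI := charP_kM hM; MMax p P e)
    (hab : ∀ x ∈ P, ∀ y ∈ P, x * y = y * x) :
    ¬ p ∣ (Subgroup.centralizer (P : Set G)).relIndex
      (stab (Subgroup.normalizer (P : Set G)) e) := by
  haveI := charP_kM hM
  have hPC : P ≤ Subgroup.centralizer (P : Set G) := le_centralizer_of_comm hab le_rfl
  have hT := hmax.isDef_stab
  have hCT : Subgroup.centralizer (P : Set G) ≤ stab (Subgroup.normalizer (P : Set G)) e :=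
    centralizer_le_stab hmax.1.blk
  have hTN : stab (Subgroup.normalizer (P : Set G)) e ≤
      Subgroup.normalizer ((Subgroup.centralizer (P : Set G) : Subgroup G) : Set G) := by
    intro g hg
    exact normalizer_le_normalizer_centralizer P hg.1
  have h1 := not_dvd_relIndex hmax.1.blk (splitBlk hmax.1.blk) hCT hTN
    (fixed_stab _ e) hT
  rwa [sup_eq_right.mpr hPC] at h1

/-- subsections of blocks with abelian defect groups are major -/
theorem sub_defect_comm [M.IsPrime] (hM : IsPModular p M) {P : Subgroup G}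
    (hPD : IsDefectGroup p M B P) (hab : ∀ x ∈ P, ∀ y ∈ P, x * y = y * x)
    {x : G} (hx : ∃ k : ℕ, orderOf x = p ^ k) {C : Subgroup G} [Fintype C]
    (hC : C = Subgroup.centralizer ({x} : Set G)) {b : Set (IrrCharacter C)}
    (hind : IsInducedBlock M C b B) {D : Subgroup C} (hD : IsDefectGroup p M b D) :
    IsDefectGroup p M B (D.map C.subtype) := by
  classical
  have hxD := self_mem_defect hM hx hC hind.1 hD
  have hCC : Subgroup.centralizer ((D.map C.subtype : Subgroup G) : Set G) ≤ C := by
    intro y hy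
    have h0 : y ∈ Subgroup.centralizer ({x} : Set G) := by
      rw [Subgroup.mem_centralizer_singleton_iff]
      exact (Subgroup.mem_centralizer_iff.mp hy x ⟨_, hxD, rfl⟩).symm
    rwa [← hC] at h0
  obtain ⟨D', hD1, hD2, hD3⟩ := exists_defect_centric hM hind hD hCC
  obtain ⟨g, hg⟩ := defectGroup_conj hM hind.2.1 hPD hD1
  have hDc : D' ≤ Subgroup.centralizer (D' : Set G) := by
    intro x hx
    rw [Subgroup.mem_centralizer_iff]
    intro y hy
    rw [← hg] at hx hy
    obtain ⟨x', hx', rfl⟩ := hx
    obtain ⟨y', hy', rfl⟩ := hy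
    rw [← map_mul, ← map_mul]
    congr 1
    exact hab _ hy' _ hx'
  have h1 : D' ≤ D.map C.subtype := by
    refine le_trans ?_ (le_trans hD3 (Subgroup.map_mono inf_le_left))
    exact le_inf le_rfl (hDc.trans (Subgroup.centralizer_le hD2))
  rw [← le_antisymm h1 hD2]
  exact hD1

theorem blockDefect_eq_of_comm [M.IsPrime] (hM : IsPModular p M) {P : Subgroup G}
    (hPD : IsDefectGroup p M B P) (hab : ∀ x ∈ P, ∀ y ∈ P, x * y = y * x)
    {x : G} (hx : ∃ k : ℕ, orderOf x = p ^ k) {C : Subgroup G} [Fintype C]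
    (hC : C = Subgroup.centralizer ({x} : Set G)) {b : Set (IrrCharacter C)}
    (hind : IsInducedBlock M C b B) : blockDefect p b = blockDefect p B := by
  obtain ⟨D, hD⟩ := exists_defectGroup hM hind.1
  have h1 := card_defectGroup hM hind.1 hD
  have h2 := card_defectGroup hM hind.2.1 (sub_defect_comm hM hPD hab hx hC hind hD)
  rw [← Nat.card_congr (D.equivMapOfInjective C.subtype C.subtype_injective).toEquiv, h1] at h2
  exact Nat.pow_right_injective hp.out.two_le h2

/-- properties of elements of one defect group transfer to all -/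
theorem defect_prop (hM : IsPModular p M) {P : Subgroup G} (hPD : IsDefectGroup p M B P)
    (hB : IsPBlock M B) {E : Subgroup G} (hE : IsDefectGroup p M B E) {n : ℕ}
    (hn : ∀ x ∈ P, x ^ n = 1) : ∀ y ∈ E, y ^ n = 1 := by
  haveI := isPrime_of_isPModular hM
  obtain ⟨g, hg⟩ := defectGroup_conj hM hB hPD hE
  intro y hy
  rw [← hg] at hy
  obtain ⟨x, hx, rfl⟩ := hy
  rw [← map_pow, hn x hx, map_one]

section Klein

variable {G : Type u} [Group G] [Fintype G] {M : Ideal AlgInt} {B : Set (IrrCharacter G)}
variable [∀ x : G, Fintype (Subgroup.centralizer ({x} : Set G))]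

/-- blocks with Klein four defect group: all subsections have integral contributions -/
theorem klein_sqData (hM : IsPModular 2 M) (hB : IsPBlock M B) {P : Subgroup G}
    (hPD : IsDefectGroup 2 M B P) (hV : IsKleinFour P) {x : G}
    (hx : ∃ k : ℕ, orderOf x = 2 ^ k) (hx1 : x ≠ 1)
    {b : Set (IrrCharacter (Subgroup.centralizer ({x} : Set G)))}
    (hind : IsInducedBlock M (Subgroup.centralizer ({x} : Set G)) b B) :
    ∃ f, SqData x b B f := by
  classical
  haveI := isPrime_of_isPModular hM
  have hPc : Nat.card P = 4 := hV.card_four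
  have hexp : ∀ y ∈ P, y ^ 2 = 1 := by
    intro y hy
    have h1 : (⟨y, hy⟩ : P) * ⟨y, hy⟩ = 1 := IsKleinFour.mul_self _
    rw [pow_two]; exact congrArg Subtype.val h1
  have hab : ∀ x ∈ P, ∀ y ∈ P, x * y = y * x := by
    intro x hx y hy
    have h1 := hexp _ (P.mul_mem hx hy)
    have h2 := hexp x hx
    have h3 := hexp y hy
    calc x * y = x * (x * y) ^ 2 * y := by rw [h1, mul_one]
      _ = x ^ 2 * (y * x) * y ^ 2 := by simp only [pow_two, mul_assoc]
      _ = y * x := by rw [h2, h3, one_mul, mul_one]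
  have hd : blockDefect 2 B = 2 := by
    have h1 := card_defectGroup hM hB hPD
    rw [hPc] at h1
    have h2 : 2 ^ 2 = 2 ^ blockDefect 2 B := by rw [← h1]; norm_num
    exact (Nat.pow_right_injective (le_refl 2) h2).symm
  have hdb := blockDefect_eq_of_comm hM hPD hab hx rfl hind
  have hexpb : ∀ E, IsDefectGroup 2 M b E → ∀ y ∈ E, y * y = 1 := by
    intro E hE y hy
    have h1 := sub_defect_comm hM hPD hab hx rfl hind hE
    have h2 := defect_prop hM hPD hB h1 hexp (y : G) ⟨y, hy, rfl⟩
    rw [pow_two] at h2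
    exact Subtype.ext h2
  obtain ⟨D, hD⟩ := exists_defectGroup hM hind.1
  have hxx : x * x = 1 :=
    congrArg Subtype.val (hexpb D hD _ (self_mem_defect hM hx rfl hind.1 hD))
  have hx2 : orderOf x = 2 := orderOf_eq_prime (by rw [pow_two]; exact hxx) hx1
  have hxC : x ∈ Subgroup.centralizer ({x} : Set G) := by
    rw [Subgroup.mem_centralizer_singleton_iff]
  obtain ⟨-, hU⟩ := klein_central (G := Subgroup.centralizer ({x} : Set G)) hM hind.1
    (hdb.trans hd) hexpb (z := ⟨x, hxC⟩) (mem_center_self rfl)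
    (by rw [← hx2, ← Subgroup.orderOf_coe])
  obtain ⟨f, hf, -⟩ := sqData_of_unit hM hx2 rfl hind hU hdb (heights_zero hM hB (by omega))
  exact ⟨f, hf⟩

/-- **blocks with Klein four defect groups** -/
theorem klein_defect (hM : IsPModular 2 M) (hB : IsPBlock M B) {P : Subgroup G}
    (hPD : IsDefectGroup 2 M B P) (hV : IsKleinFour P)
    {c : Set (IrrCharacter (Subgroup.centralizer (P : Set G)))}
    (hc : IsInducedBlock M (Subgroup.centralizer (P : Set G)) c B) {T : Subgroup G}
    (hT : ∀ g : G, g ∈ T ↔ (g ∈ Subgroup.normalizer (P : Set G) ∧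
      StabilizesBlock (Subgroup.centralizer (P : Set G)) c g)) :
    ((Subgroup.centralizer (P : Set G)).relIndex T = 1 ∨
      (Subgroup.centralizer (P : Set G)).relIndex T = 3) ∧ Nat.card B = 4 ∧
      blockRank 2 B = (Subgroup.centralizer (P : Set G)).relIndex T := by
  classical
  haveI := isPrime_of_isPModular hM
  haveI := charP_kM hM
  have hPc : Nat.card P = 4 := hV.card_four
  have hexp : ∀ y ∈ P, y ^ 2 = 1 := by
    intro y hy
    have h1 : (⟨y, hy⟩ : P) * ⟨y, hy⟩ = 1 := IsKleinFour.mul_self _
    rw [pow_two]; exact congrArg Subtype.val h1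
  have hab : ∀ x ∈ P, ∀ y ∈ P, x * y = y * x := by
    intro x hx y hy
    have h1 := hexp _ (P.mul_mem hx hy)
    have h2 := hexp x hx
    have h3 := hexp y hy
    calc x * y = x * (x * y) ^ 2 * y := by rw [h1, mul_one]
      _ = x ^ 2 * (y * x) * y ^ 2 := by simp only [pow_two, mul_assoc]
      _ = y * x := by rw [h2, h3, one_mul, mul_one]
  have hd : blockDefect 2 B = 2 := by
    have h1 := card_defectGroup hM hB hPD
    rw [hPc] at h1
    have h2 : 2 ^ 2 = 2 ^ blockDefect 2 B := by rw [← h1]; norm_num
    exact (Nat.pow_right_injective (le_refl 2) h2).symm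
  obtain ⟨hpair, hmax, hdef⟩ := comm_setup hM hPD hab hc
  have hTeq : T = stab (Subgroup.normalizer (P : Set G)) (EB M _ c) := by
    ext g
    rw [hT, mem_stab]
    constructor
    · rintro ⟨h1, h2⟩
      exact ⟨h1, ((stabilizesBlock_iff hc.1 g).mp h2).2⟩
    · rintro ⟨h1, h2⟩
      exact ⟨h1, (stabilizesBlock_iff hc.1 g).mpr
        ⟨normalizer_le_normalizer_centralizer P h1, h2⟩⟩
  obtain ⟨X, hX⟩ := exists_isNTRep (G := G) 2
  obtain ⟨Φ, hΦ1, hΦ2, hΦ3⟩ := exists_phi hM hB hmax hpair hab hX
  rw [← hTeq] at hΦ3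
  obtain ⟨hk, hs, hl, -⟩ := core_two hM hB hd hX fun x hx b hb =>
    klein_sqData hM hB hPD hV (hX.pel _ hx) (hX.ne_one _ hx) (mem_indB.mp hb)
  -- the inertial index
  have hodd : ¬ 2 ∣ (Subgroup.centralizer (P : Set G)).relIndex T := by
    rw [hTeq]; exact not_dvd_inertial hM hmax hab
  have hTN : T ≤ Subgroup.normalizer (P : Set G) := fun g hg => ((hT g).mp hg).1
  have hdvd : (Subgroup.centralizer (P : Set G)).relIndex T ∣ 24 := by
    set ρ : T →* Equiv.Perm P :=
      (MulAut.toPerm P).comp (P.normalizerMonoidHom.comp (Subgroup.inclusion hTN)) with hρ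
    have hker : ρ.ker = (Subgroup.centralizer (P : Set G)).subgroupOf T := by
      ext t
      rw [MonoidHom.mem_ker, Subgroup.mem_subgroupOf, Subgroup.mem_centralizer_iff]
      constructor
      · intro h y hy
        have h1 : (t : G) * y * (t : G)⁻¹ = y :=
          congrArg Subtype.val (Equiv.congr_fun h (⟨y, hy⟩ : P))
        calc y * t = (t : G) * y * (t : G)⁻¹ * t := by rw [h1]
          _ = t * y := by group
      · intro h
        ext y
        change (t : G) * y * (t : G)⁻¹ = y
        rw [← h y y.2]; group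
    have h1 : (Subgroup.centralizer (P : Set G)).relIndex T = Nat.card ρ.range := by
      rw [Subgroup.relIndex, ← hker, Subgroup.index_ker]
    rw [h1]
    have h2 := Subgroup.card_subgroup_dvd_card ρ.range
    have h3 : Nat.card (Equiv.Perm P) = 24 := by
      rw [Nat.card_perm, hPc]; rfl
    rwa [h3] at h2
  have he : (Subgroup.centralizer (P : Set G)).relIndex T = 1 ∨
      (Subgroup.centralizer (P : Set G)).relIndex T = 3 := by
    generalize (Subgroup.centralizer (P : Set G)).relIndex T = e at hdvd hodd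
    have h1 : e ∣ 3 := by
      have h2 : Nat.Coprime e (2 ^ 3) := by
        apply Nat.Coprime.pow_right
        exact ((Nat.Prime.coprime_iff_not_dvd Nat.prime_two).mpr hodd).symm
      have h3 : e ∣ 2 ^ 3 * 3 := by simpa using hdvd
      exact h2.dvd_of_dvd_mul_left h3
    exact (Nat.dvd_prime Nat.prime_three).mp h1
  refine ⟨he, hk, ?_⟩
  -- number of subsections
  have hU3 : Nat.card {u : G // u ∈ P ∧ u ≠ 1} = 3 := by
    change Nat.card ((P : Set G) \ {1} : Set G) = 3
    rw [Nat.card_coe_set_eq, Set.ncard_diff_singleton_of_mem P.one_mem]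
    have : (P : Set G).ncard = 4 := by rw [← Nat.card_coe_set_eq]; exact hPc
    rw [this]
  have himg : subs M X B = Finset.univ.image Φ := by
    ext s
    rw [Finset.mem_image]
    constructor
    · intro h
      obtain ⟨u, hu⟩ := hΦ2 s h
      exact ⟨u, Finset.mem_univ _, hu⟩
    · rintro ⟨u, -, rfl⟩
      exact hΦ1 u
  have hcardle : (subs M X B).card = 3 ↔ Function.Injective Φ := by
    rw [himg, ← hU3, Nat.card_eq_fintype_card, ← Finset.card_univ, Finset.card_image_iff,
      Finset.coe_univ, Set.injOn_univ]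
  have hiff : Function.Injective Φ ↔ T ≤ Subgroup.centralizer (P : Set G) := by
    constructor
    · intro h t ht
      rw [Subgroup.mem_centralizer_iff]
      intro y hy
      by_cases hy1 : y = 1
      · rw [hy1]; group
      · have hmem : t * y * t⁻¹ ∈ P := (Subgroup.mem_normalizer_iff.mp (hTN ht) y).mp hy
        have hne : t * y * t⁻¹ ≠ 1 := by
          intro h0
          apply hy1
          calc y = t⁻¹ * (t * y * t⁻¹) * t := by group
            _ = 1 := by rw [h0]; group
        have h1 : Φ ⟨y, hy, hy1⟩ = Φ ⟨t * y * t⁻¹, hmem, hne⟩ :=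
          (hΦ3 _ _).mpr ⟨t, ht, rfl⟩
        have h2 : y = t * y * t⁻¹ := congrArg Subtype.val (h h1)
        calc y * t = t * y * t⁻¹ * t := by rw [← h2]
          _ = t * y := by group
    · intro h u v huv
      obtain ⟨t, ht, htu⟩ := (hΦ3 u v).mp huv
      apply Subtype.ext
      rw [← htu, ← Subgroup.mem_centralizer_iff.mp (h ht) u u.2.1]
      group
  rcases he with h1 | h3
  · have h4 : (subs M X B).card = 3 := by
      rw [hcardle, hiff]
      exact Subgroup.relIndex_eq_one.mp h1
    omega
  · have h4 : (subs M X B).card ≠ 3 := by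
      rw [Ne, hcardle, hiff]
      intro h5
      have := Subgroup.relIndex_eq_one.mpr h5
      omega
    omega

end Klein

end Cfsg.Agent.H4
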