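import Cfsg.Agent.H4.RankLoc
import Cfsg.Agent.BlkF.MajorChar
import Cfsg.Agent.BlkInd.DefectApp2
import Cfsg.Agent.Char.BrauerInduction

/-!
# Subsections with central defect group (owner: helper4)
-/

set_option autoImplicit false
set_option linter.style.haveILetI false
set_option linter.unusedSectionVars false

namespace Cfsg.Agent.H4

open scoped ComplexConjugate
open Cfsg Cfsg.Agent.CharBase Cfsg.Agent.Blk Cfsg.Agent.BlkInd Cfsg.Agent.BlkC

universe u

variable {G : Type u} [Group G] [Fintype G] {p : ℕ} [hp : Fact p.Prime] {M : Ideal AlgInt}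

theorem sup_centralizer_of_central {D : Subgroup G} (hDZ : D ≤ Subgroup.center G) :
    D ⊔ Subgroup.centralizer (D : Set G) = ⊤ := by
  rw [eq_top_iff]
  refine le_trans ?_ le_sup_right
  intro g _
  rw [Subgroup.mem_centralizer_iff]
  intro h hh
  exact ((Subgroup.mem_center_iff.mp (hDZ hh)) g).symm

theorem irr_one_of_comm {D : Type u} [Group D] [Finite D] (hc : ∀ a b : D, a * b = b * a)
    (ζ : IrrCharacter D) : (ζ : D → ℂ) 1 = 1 := by
  haveI := Fintype.ofFinite D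
  exact Cfsg.Agent.Char.BI.irr_comm_degree hc ζ.2

variable {C : Subgroup G} [Fintype C]

/-- block with central defect group: the canonical character -/
theorem exists_canonical {H : Type u} [Group H] [Fintype H] (hM : IsPModular p M)
    {b : Set (IrrCharacter H)} (hb : IsPBlock M b) {D : Subgroup H} (hD : IsDefectGroup p M b D)
    (hDZ : D ≤ Subgroup.center H) :
    ∃ θ ∈ b, (∀ y ∈ D, (θ : H → ℂ) y = (θ : H → ℂ) 1) ∧
      (∀ η ∈ b, ∀ y : H, ¬ p ∣ orderOf y → (η : H → ℂ) y = (θ : H → ℂ) y) ∧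
      (∀ η ∈ b, ∀ ψ ∈ b, (Nat.card D : ℂ) * regInner p (η : H → ℂ) (ψ : H → ℂ) = 1) := by
  classical
  haveI := Fintype.ofFinite D
  haveI := isPrime_of_isPModular hM
  have hG := sup_centralizer_of_central hDZ
  haveI := normal_of_sup hG
  have hDp := isPGroup_of_isDefectGroup hD
  have hcomm : ∀ a b : D, a * b = b * a := fun a b =>
    Subtype.ext ((Subgroup.mem_center_iff.mp (hDZ b.2)) a)
  obtain ⟨θ, hθ, hker⟩ := exists_canon hM hG hDp hb
  have h1 : ∀ η ∈ b, ∀ y : H, ¬ p ∣ orderOf y → (η : H → ℂ) y = (θ : H → ℂ) y := by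
    intro η hη y hy
    obtain ⟨ζ, hζ⟩ := exists_canonMul hM hG hDp hb hD hθ hker hη
    rw [hζ]
    have := canonMul_section (p := p) hG hDp (ζ : D → ℂ) (irr_isCharacter θ) hker 1 hy
    rw [Subgroup.coe_one, one_mul] at this
    rw [this, irr_one_of_comm hcomm ζ, one_mul]
  refine ⟨θ, hθ, hker, h1, fun η hη ψ hψ => ?_⟩
  have h2 := sum_regular_eq hG hDp θ.2 hker
    (fun z hz => vanish_of_normal_defect hM hb hD hθ hz)
  have hH : (Nat.card H : ℂ) ≠ 0 := by exact_mod_cast Nat.card_pos.ne'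
  unfold regInner
  rw [mul_left_comm, inv_mul_eq_iff_eq_mul₀ hH, mul_one, ← h2, Finset.sum_filter]
  congr 1
  refine Finset.sum_congr rfl fun y _ => ?_
  unfold regConj
  by_cases hy : p ∣ orderOf y
  · rw [if_pos hy, mul_zero, if_neg (not_not.mpr hy)]
  · rw [if_neg hy, if_pos hy, h1 η hη y hy, h1 ψ hψ y hy]

/-- all members of `b` agree on `p`-regular elements and `q [η, ψ]⁰ = 1` -/
def UB (p q : ℕ) {H : Type u} [Group H] [Fintype H] (b : Set (IrrCharacter H)) : Prop :=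
  (∀ η ∈ b, ∀ ψ ∈ b, ∀ y : H, ¬ p ∣ orderOf y → (η : H → ℂ) y = (ψ : H → ℂ) y) ∧
    ∀ η ∈ b, ∀ ψ ∈ b, (q : ℂ) * regInner p (η : H → ℂ) (ψ : H → ℂ) = 1

theorem UB_of_central {H : Type u} [Group H] [Fintype H] (hM : IsPModular p M)
    {b : Set (IrrCharacter H)} (hb : IsPBlock M b) {D : Subgroup H} (hD : IsDefectGroup p M b D)
    (hDZ : D ≤ Subgroup.center H) : UB p (Nat.card D) b := by
  obtain ⟨θ, hθ, -, h1, h2⟩ := exists_canonical hM hb hD hDZ
  exact ⟨fun η hη ψ hψ y hy => (h1 η hη y hy).trans (h1 ψ hψ y hy).symm, h2⟩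

theorem UB.rank {H : Type u} [Group H] [Fintype H] {q : ℕ} {b : Set (IrrCharacter H)}
    (hU : UB p q b) (hne : b.Nonempty) : blockRank p b = 1 := by
  obtain ⟨θ, hθ⟩ := hne
  refine blockRank_eq_one_of_prop hθ (pRegularPart_irr_ne_zero hp.out θ) fun χ hχ => ⟨1, ?_⟩
  intro g hg
  rw [one_mul]; exact hU.1 χ hχ θ hθ g hg

/-- data of a subsection `(x, b)` with `b` of unit type -/
theorem unit_data (hM : IsPModular p M) {x : G} (hx : ∃ k : ℕ, orderOf x = p ^ k)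
    (hC : C = Subgroup.centralizer ({x} : Set G)) {b : Set (IrrCharacter C)}
    {B : Set (IrrCharacter G)} (hind : IsInducedBlock M C b B) {q : ℕ} (hU : UB p q b) :
      ∃ d : IrrCharacter G → ℂ, (∀ χ, d χ ∈ cycRing (orderOf x)) ∧
      (∀ θ ∈ b, ∀ (χ : IrrCharacter G) (y : C), ¬ p ∣ orderOf y →
        dpart p x b (χ : G → ℂ) y = d χ * (θ : C → ℂ) y) ∧
      (∀ χ ψ : IrrCharacter G, (q : ℂ) * sc p x b (χ : G → ℂ) (ψ : G → ℂ) =
        d χ * conj (d ψ)) ∧
      ∑ χ ∈ Bfin B, d χ * conj (d χ) = (q : ℂ) := by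
  classical
  haveI := isPrime_of_isPModular hM
  have hd1 : ∀ θ ∈ b, ∀ (χ : IrrCharacter G) (y : C), ¬ p ∣ orderOf y →
        dpart p x b (χ : G → ℂ) y = (∑ η ∈ Bfin b, dco x (χ : G → ℂ) η) * (θ : C → ℂ) y := by
    intro θ hθ χ y hy
    rw [dpart_eq_sum x b _ hy, Finset.sum_mul]
    exact Finset.sum_congr rfl fun η hη => by rw [hU.1 η (mem_Bfin.mp hη) θ hθ y hy]
  have hsc : ∀ χ ψ : IrrCharacter G, (q : ℂ) * sc p x b (χ : G → ℂ) (ψ : G → ℂ) =
        (∑ η ∈ Bfin b, dco x (χ : G → ℂ) η) * conj (∑ η ∈ Bfin b, dco x (ψ : G → ℂ) η) := by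
    intro χ ψ
    rw [sc_eq, Finset.mul_sum, map_sum, Finset.sum_mul_sum]
    refine Finset.sum_congr rfl fun η hη => ?_
    rw [Finset.mul_sum]
    refine Finset.sum_congr rfl fun η' hη' => ?_
    have := hU.2 η (mem_Bfin.mp hη) η' (mem_Bfin.mp hη')
    linear_combination (dco x (χ : G → ℂ) η * conj (dco x (ψ : G → ℂ) η')) * this
  refine ⟨fun χ => ∑ η ∈ Bfin b, dco x (χ : G → ℂ) η, ?_, hd1, hsc, ?_⟩
  · intro χ
    refine Subring.sum_mem _ fun η _ => ?_
    obtain ⟨ω, hω, h⟩ := exists_dco_eq hC χ η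
    rw [h]
    exact Subring.mul_mem _ (Subring.subset_closure hω) (natCast_mem _ _)
  · rw [Finset.sum_congr rfl fun χ _ => (hsc χ χ).symm, ← Finset.mul_sum,
      sum_sc_self hM hx hC hind, hU.rank (isPBlock_nonempty hind.1)]
    simp

theorem exists_int_of_mem_cycRing {n : ℕ} (hn : n ∣ 2) {z : ℂ} (hz : z ∈ cycRing n) :
    ∃ m : ℤ, z = m := by
  unfold cycRing at hz
  induction hz using Subring.closure_induction with
  | mem x hx =>
    have hx' : x ^ n = 1 := hx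
    obtain ⟨k, hk⟩ := hn
    have : x ^ 2 = 1 := by rw [hk, pow_mul, hx', one_pow]
    rcases (sq_eq_one_iff.mp this) with h | h
    · exact ⟨1, by rw [h]; norm_num⟩
    · exact ⟨-1, by rw [h]; norm_num⟩
  | zero => exact ⟨0, by norm_num⟩
  | one => exact ⟨1, by norm_num⟩
  | add x y _ _ h1 h2 =>
    obtain ⟨a, ha⟩ := h1; obtain ⟨b, hb⟩ := h2
    exact ⟨a + b, by rw [ha, hb]; push_cast; rfl⟩
  | neg x _ h => obtain ⟨a, ha⟩ := h; exact ⟨-a, by rw [ha]; push_cast; rfl⟩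
  | mul x y _ _ h1 h2 =>
    obtain ⟨a, ha⟩ := h1; obtain ⟨b, hb⟩ := h2
    exact ⟨a * b, by rw [ha, hb]; push_cast; rfl⟩

/-- the same for an involution: everything is integral -/
theorem unit_data_inv (hM : IsPModular 2 M) {x : G} (hx : orderOf x = 2)
    (hC : C = Subgroup.centralizer ({x} : Set G)) {b : Set (IrrCharacter C)}
    {B : Set (IrrCharacter G)} (hind : IsInducedBlock M C b B) {q : ℕ} (hU : UB 2 q b) :
      ∃ d : IrrCharacter G → ℤ,
      (∀ θ ∈ b, ∀ (χ : IrrCharacter G) (y : C), ¬ 2 ∣ orderOf y →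
        dpart 2 x b (χ : G → ℂ) y = (d χ : ℂ) * (θ : C → ℂ) y) ∧
      (∀ χ ψ : IrrCharacter G, (q : ℂ) * sc 2 x b (χ : G → ℂ) (ψ : G → ℂ) =
        ((d χ * d ψ : ℤ) : ℂ)) ∧
      ∑ χ ∈ Bfin B, (d χ) ^ 2 = (q : ℤ) := by
  obtain ⟨d, hd, h1, h2, h3⟩ :=
    unit_data hM ⟨1, by rw [hx, pow_one]⟩ hC hind hU
  rw [hx] at hd
  choose e he using fun χ => exists_int_of_mem_cycRing (dvd_refl 2) (hd χ)
  refine ⟨e, ?_, ?_, ?_⟩
  · intro θ hθ χ y hy
    rw [h1 θ hθ χ y hy, he]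
  · intro χ ψ
    rw [h2, he, he, map_intCast]; push_cast; rfl
  · have : ((∑ χ ∈ Bfin B, (e χ) ^ 2 : ℤ) : ℂ) = ((q : ℤ) : ℂ) := by
      push_cast
      rw [← h3]
      refine Finset.sum_congr rfl fun χ _ => ?_
      rw [he, map_intCast, sq]
    exact_mod_cast this

end Cfsg.Agent.H4
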