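import Cfsg.Agent.BlkC.AmGm

/-!
# The trace form on `ℤ[ζ_{p^{j+1}}]` (owner: helper4)
-/

set_option autoImplicit false
set_option linter.style.haveILetI false
set_option linter.unusedSectionVars false

namespace Cfsg.Agent.H4

open scoped ComplexConjugate BigOperators
open Cfsg Cfsg.Agent.BlkC

/-- the standard primitive root of unity -/
noncomputable def zt (n : ℕ) : ℂ := Complex.exp (2 * Real.pi * Complex.I / n)

theorem zt_prim {n : ℕ} (hn : n ≠ 0) : IsPrimitiveRoot (zt n) n :=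
  Complex.isPrimitiveRoot_exp n hn

theorem zt_pow_self {n : ℕ} (hn : n ≠ 0) : zt n ^ n = 1 := (zt_prim hn).pow_eq_one

theorem exists_zmod_coeff {n : ℕ} (hn : n ≠ 0) {z : ℂ} (hz : z ∈ cycRing n) :
    haveI : NeZero n := ⟨hn⟩
    ∃ a : ZMod n → ℤ, z = ∑ k : ZMod n, (a k : ℂ) * zt n ^ (k.val) := by
  classical
  haveI : NeZero n := ⟨hn⟩
  unfold cycRing at hz
  induction hz using Subring.closure_induction with
  | mem x hx =>
    obtain ⟨i, hi, hi2⟩ := (zt_prim hn).eq_pow_of_pow_eq_one (show x ^ n = 1 from hx)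
    refine ⟨fun k => if k = (i : ZMod n) then 1 else 0, ?_⟩
    rw [Finset.sum_eq_single (i : ZMod n)]
    · beta_reduce
      rw [if_pos rfl, Int.cast_one, one_mul, ZMod.val_natCast_of_lt hi, hi2]
    · intro k _ hk; beta_reduce; rw [if_neg hk, Int.cast_zero, zero_mul]
    · intro h; exact absurd (Finset.mem_univ _) h
  | zero => exact ⟨0, by simp⟩
  | one =>
    refine ⟨fun k => if k = 0 then 1 else 0, ?_⟩
    rw [Finset.sum_eq_single (0 : ZMod n)]
    · simp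
    · intro k _ hk; beta_reduce; rw [if_neg hk, Int.cast_zero, zero_mul]
    · intro h; exact absurd (Finset.mem_univ _) h
  | add x y _ _ h1 h2 =>
    obtain ⟨a, ha⟩ := h1; obtain ⟨b, hb⟩ := h2
    refine ⟨a + b, ?_⟩
    rw [ha, hb, ← Finset.sum_add_distrib]
    refine Finset.sum_congr rfl fun k _ => ?_
    rw [Pi.add_apply, Int.cast_add, add_mul]
  | neg x _ h =>
    obtain ⟨a, ha⟩ := h
    refine ⟨-a, ?_⟩
    rw [ha, ← Finset.sum_neg_distrib]
    refine Finset.sum_congr rfl fun k _ => ?_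
    rw [Pi.neg_apply, Int.cast_neg, neg_mul]
  | mul x y _ _ h1 h2 =>
    obtain ⟨a, ha⟩ := h1; obtain ⟨b, hb⟩ := h2
    refine ⟨fun m => ∑ k : ZMod n, a k * b (m - k), ?_⟩
    have hadd : ∀ k l : ZMod n, zt n ^ ((k + l).val) = zt n ^ k.val * zt n ^ l.val := by
      intro k l
      rw [ZMod.val_add, ← pow_add, ← pow_eq_pow_mod _ (zt_pow_self hn)]
    rw [ha, hb, Finset.sum_mul_sum]
    calc ∑ k : ZMod n, ∑ l : ZMod n, (a k : ℂ) * zt n ^ k.val * ((b l : ℂ) * zt n ^ l.val)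
        = ∑ k : ZMod n, ∑ m : ZMod n, ((a k * b (m - k) : ℤ) : ℂ) * zt n ^ m.val := by
          refine Finset.sum_congr rfl fun k _ => ?_
          refine Fintype.sum_equiv (Equiv.addLeft k) _ _ fun l => ?_
          rw [Equiv.coe_addLeft, hadd, add_sub_cancel_left]
          push_cast; ring
      _ = _ := by
          rw [Finset.sum_comm]
          refine Finset.sum_congr rfl fun m _ => ?_
          rw [← Finset.sum_mul]
          push_cast; rfl

/-- evaluation of a coefficient array -/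
noncomputable def ev (p j : ℕ) (a : Fin (p ^ j) → Fin p → ℤ) : ℂ :=
  ∑ r : Fin (p ^ j), ∑ s : Fin p, (a r s : ℂ) * zt (p ^ (j + 1)) ^ ((r : ℕ) + p ^ j * (s : ℕ))

variable {p : ℕ} [hp : Fact p.Prime] {j : ℕ}

theorem exists_ev {z : ℂ} (hz : z ∈ cycRing (p ^ (j + 1))) : ∃ a, z = ev p j a := by
  classical
  have hn : p ^ (j + 1) ≠ 0 := pow_ne_zero _ hp.out.ne_zero
  haveI : NeZero (p ^ (j + 1)) := ⟨hn⟩
  obtain ⟨a, ha⟩ := exists_zmod_coeff hn hz
  refine ⟨fun r s => a (((r : ℕ) + p ^ j * (s : ℕ) : ℕ) : ZMod (p ^ (j + 1))), ?_⟩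
  have hlt : ∀ (r : Fin (p ^ j)) (s : Fin p), (r : ℕ) + p ^ j * (s : ℕ) < p ^ (j + 1) := by
    intro r s
    have h1 := r.2
    have h2 := s.2
    calc (r : ℕ) + p ^ j * (s : ℕ) < p ^ j + p ^ j * (s : ℕ) := by omega
      _ = p ^ j * (s + 1) := by ring
      _ ≤ p ^ j * p := Nat.mul_le_mul_left _ h2
      _ = p ^ (j + 1) := (pow_succ p j).symm
  have hpj : 0 < p ^ j := Nat.pos_of_ne_zero (pow_ne_zero _ hp.out.ne_zero)
  rw [ha, ev, ← Fintype.sum_prod_type']
  refine (Finset.sum_bij' (fun (x : Fin (p ^ j) × Fin p) _ =>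
    (((x.1 : ℕ) + p ^ j * (x.2 : ℕ) : ℕ) : ZMod (p ^ (j + 1))))
    (fun (k : ZMod (p ^ (j + 1))) _ => ((⟨k.val % p ^ j, Nat.mod_lt _ hpj⟩ : Fin (p ^ j)),
      (⟨k.val / p ^ j, (Nat.div_lt_iff_lt_mul hpj).mpr (by
        have := ZMod.val_lt k
        rw [mul_comm, ← pow_succ]; exact this)⟩ : Fin p))) ?_ ?_ ?_ ?_ ?_).symm
  · intro x _; exact Finset.mem_univ _
  · intro x _; exact Finset.mem_univ _
  · intro x _
    have h := hlt x.1 x.2
    have h3 := x.1.2
    apply Prod.ext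
    · apply Fin.ext
      change ZMod.val (((x.1 : ℕ) + p ^ j * (x.2 : ℕ) : ℕ) : ZMod (p ^ (j + 1))) % p ^ j = x.1
      rw [ZMod.val_natCast_of_lt h, Nat.add_mul_mod_self_left, Nat.mod_eq_of_lt h3]
    · apply Fin.ext
      change ZMod.val (((x.1 : ℕ) + p ^ j * (x.2 : ℕ) : ℕ) : ZMod (p ^ (j + 1))) / p ^ j = x.2
      rw [ZMod.val_natCast_of_lt h, Nat.add_mul_div_left _ _ hpj, Nat.div_eq_of_lt h3, zero_add]
  · intro k _
    change (((k.val % p ^ j) + p ^ j * (k.val / p ^ j) : ℕ) : ZMod (p ^ (j + 1))) = k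
    rw [Nat.mod_add_div, ZMod.natCast_zmod_val]
  · intro x _
    rw [ZMod.val_natCast_of_lt (hlt x.1 x.2)]

/-- automorphisms -/
noncomputable def sg (n a : ℕ) : ℂ ≃+* ℂ :=
  open Classical in
  if h : n ≠ 0 ∧ a.Coprime n then Classical.choose (Char.exists_aut_pow h.1 h.2)
  else RingEquiv.refl ℂ

theorem sg_spec {n a : ℕ} (hn : n ≠ 0) (ha : a.Coprime n) {ζ : ℂ} (hζ : ζ ^ n = 1) :
    sg n a ζ = ζ ^ a := by
  unfold sg
  rw [dif_pos ⟨hn, ha⟩]
  exact Classical.choose_spec (Char.exists_aut_pow hn ha) ζ hζ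

theorem isPow_sg {n a : ℕ} (hn : n ≠ 0) (ha : a.Coprime n) : IsPow n a (sg n a) :=
  fun _ hζ => sg_spec hn ha hζ

/-- residues prime to `n` -/
def cop (n : ℕ) : Finset ℕ := (Finset.range n).filter fun a => a.Coprime n

/-- the trace -/
noncomputable def Tr (n : ℕ) (z : ℂ) : ℂ := ∑ a ∈ cop n, sg n a z

theorem Tr_add (n : ℕ) (z w : ℂ) : Tr n (z + w) = Tr n z + Tr n w := by
  unfold Tr; rw [← Finset.sum_add_distrib]
  exact Finset.sum_congr rfl fun a _ => map_add _ _ _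

theorem Tr_zero (n : ℕ) : Tr n 0 = 0 := by
  unfold Tr; exact Finset.sum_eq_zero fun a _ => map_zero _

theorem Tr_sub (n : ℕ) (z w : ℂ) : Tr n (z - w) = Tr n z - Tr n w := by
  unfold Tr; rw [← Finset.sum_sub_distrib]
  exact Finset.sum_congr rfl fun a _ => map_sub _ _ _

theorem Tr_neg (n : ℕ) (z : ℂ) : Tr n (-z) = -Tr n z := by
  unfold Tr; rw [← Finset.sum_neg_distrib]
  exact Finset.sum_congr rfl fun a _ => map_neg _ _

theorem Tr_sum {ι : Type*} (n : ℕ) (s : Finset ι) (z : ι → ℂ) :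
    Tr n (∑ i ∈ s, z i) = ∑ i ∈ s, Tr n (z i) := by
  unfold Tr; rw [Finset.sum_comm]
  exact Finset.sum_congr rfl fun a _ => map_sum _ _ _

theorem Tr_int_mul (n : ℕ) (c : ℤ) (z : ℂ) : Tr n (c * z) = c * Tr n z := by
  unfold Tr; rw [Finset.mul_sum]
  exact Finset.sum_congr rfl fun a _ => by rw [map_mul, map_intCast]

theorem Tr_rat_mul (n : ℕ) (c : ℚ) (z : ℂ) : Tr n (c * z) = c * Tr n z := by
  unfold Tr; rw [Finset.mul_sum]
  exact Finset.sum_congr rfl fun a _ => by rw [map_mul, map_ratCast]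

theorem card_cop {j : ℕ} : (cop (p ^ (j + 1))).card = p ^ j * (p - 1) := by
  have h1 := Nat.totient_prime_pow_succ hp.out j
  rw [← h1, Nat.totient_eq_card_coprime]
  congr 1
  ext a
  rw [cop, Finset.mem_filter, Finset.mem_filter, Nat.coprime_comm]

theorem Tr_int (c : ℤ) : Tr (p ^ (j + 1)) (c : ℂ) = (p : ℂ) ^ j * ((p : ℂ) - 1) * c := by
  unfold Tr
  rw [Finset.sum_congr rfl fun a _ => map_intCast (sg _ a) c, Finset.sum_const, card_cop,
    nsmul_eq_mul]
  have : 1 ≤ p := hp.out.one_le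
  push_cast [Nat.cast_sub this]
  ring

/-- Ramanujan sums -/
theorem Tr_root {ω : ℂ} (hω : ω ^ (p ^ (j + 1)) = 1) :
    Tr (p ^ (j + 1)) ω = (p : ℂ) ^ (j + 1) * (if ω = 1 then 1 else 0) -
      (p : ℂ) ^ j * (if ω ^ p = 1 then 1 else 0) := by
  classical
  have hn : p ^ (j + 1) ≠ 0 := pow_ne_zero _ hp.out.ne_zero
  have h1 : Tr (p ^ (j + 1)) ω = ∑ a ∈ cop (p ^ (j + 1)), ω ^ a := by
    unfold Tr
    refine Finset.sum_congr rfl fun a ha => ?_
    exact sg_spec hn (Finset.mem_filter.mp ha).2 hω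
  have hgeom : ∀ (x : ℂ) (m : ℕ), x ^ m = 1 →
      ∑ i ∈ Finset.range m, x ^ i = (m : ℂ) * (if x = 1 then 1 else 0) := by
    intro x m hx
    by_cases h : x = 1
    · rw [if_pos h, mul_one, h]; simp
    · rw [if_neg h, mul_zero, geom_sum_eq h, hx, sub_self, zero_div]
  have h2 : ∑ a ∈ Finset.range (p ^ (j + 1)), ω ^ a = ∑ a ∈ cop (p ^ (j + 1)), ω ^ a +
      ∑ b ∈ Finset.range (p ^ j), (ω ^ p) ^ b := by
    rw [← Finset.sum_filter_add_sum_filter_not (Finset.range (p ^ (j + 1)))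
      (fun a => a.Coprime (p ^ (j + 1)))]
    congr 1
    refine (Finset.sum_bij' (fun b _ => p * b) (fun a _ => a / p) ?_ ?_ ?_ ?_ ?_).symm
    · intro b hb
      rw [Finset.mem_filter, Finset.mem_range]
      refine ⟨?_, ?_⟩
      · rw [pow_succ', Nat.mul_lt_mul_left hp.out.pos]
        exact Finset.mem_range.mp hb
      · intro h
        have h3 : Nat.Coprime (p * b) p := Nat.Coprime.coprime_dvd_right
          (dvd_pow_self p (Nat.succ_ne_zero j)) h
        have h4 : p ∣ Nat.gcd (p * b) p := Nat.dvd_gcd (dvd_mul_right p b) dvd_rfl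
        rw [h3] at h4
        exact hp.out.one_lt.ne' (Nat.dvd_one.mp h4)
    · intro a ha
      rw [Finset.mem_filter, Finset.mem_range] at ha
      rw [Finset.mem_range, Nat.div_lt_iff_lt_mul hp.out.pos, ← pow_succ]
      exact ha.1
    · intro b _
      exact Nat.mul_div_cancel_left b hp.out.pos
    · intro a ha
      rw [Finset.mem_filter, Finset.mem_range] at ha
      have h3 : p ∣ a := by
        by_contra h
        apply ha.2
        exact (Nat.Coprime.pow_right _ ((Nat.Prime.coprime_iff_not_dvd hp.out).mpr h).symm)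
      exact Nat.mul_div_cancel' h3
    · intro b _
      rw [← pow_mul]
  have h5 : (ω ^ p) ^ (p ^ j) = 1 := by rw [← pow_mul, ← pow_succ']; exact hω
  rw [hgeom ω _ hω, hgeom _ _ h5] at h2
  rw [h1, eq_sub_iff_add_eq]
  push_cast at h2
  exact h2.symm

theorem exp_lt (r : Fin (p ^ j)) (s : Fin p) : (r : ℕ) + p ^ j * (s : ℕ) < p ^ (j + 1) := by
  have h1 := r.2
  have h2 := s.2
  calc (r : ℕ) + p ^ j * (s : ℕ) < p ^ j + p ^ j * (s : ℕ) := by omega
    _ = p ^ j * (s + 1) := by ring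
    _ ≤ p ^ j * p := Nat.mul_le_mul_left _ h2
    _ = p ^ (j + 1) := (pow_succ p j).symm

theorem Tr_basis (r r' : Fin (p ^ j)) (s s' : Fin p) :
    Tr (p ^ (j + 1)) (zt (p ^ (j + 1)) ^ ((r : ℕ) + p ^ j * (s : ℕ)) *
      conj (zt (p ^ (j + 1)) ^ ((r' : ℕ) + p ^ j * (s' : ℕ)))) =
      (p : ℂ) ^ (j + 1) * (if r = r' ∧ s = s' then 1 else 0) -
        (p : ℂ) ^ j * (if r = r' then 1 else 0) := by
  classical
  have hn : p ^ (j + 1) ≠ 0 := pow_ne_zero _ hp.out.ne_zero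
  have hpj : p ^ j ≠ 0 := pow_ne_zero _ hp.out.ne_zero
  set ζ := zt (p ^ (j + 1)) with hζ
  have hprim : IsPrimitiveRoot ζ (p ^ (j + 1)) := zt_prim hn
  have hζ0 : ζ ≠ 0 := hprim.ne_zero hn
  have hconj : ∀ k : ℕ, conj (ζ ^ k) = (ζ ^ k)⁻¹ := by
    intro k
    refine (Complex.inv_eq_conj ?_).symm
    rw [norm_pow, hprim.norm'_eq_one hn, one_pow]
  rw [hconj]
  set e := (r : ℕ) + p ^ j * (s : ℕ) with he
  set e' := (r' : ℕ) + p ^ j * (s' : ℕ) with he'
  have hlt : e < p ^ (j + 1) := exp_lt r s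
  have hlt' : e' < p ^ (j + 1) := exp_lt r' s'
  have hroot : (ζ ^ e * (ζ ^ e')⁻¹) ^ (p ^ (j + 1)) = 1 := by
    rw [mul_pow, inv_pow, ← pow_mul, ← pow_mul, mul_comm e, mul_comm e', pow_mul, pow_mul,
      hprim.pow_eq_one, one_pow, one_pow, inv_one, mul_one]
  rw [Tr_root hroot]
  have h1 : (ζ ^ e * (ζ ^ e')⁻¹ = 1) ↔ (r = r' ∧ s = s') := by
    rw [mul_inv_eq_one₀ (pow_ne_zero _ hζ0)]
    constructor
    · intro h
      have h2 := hprim.pow_inj hlt hlt' h
      have h3 : (r : ℕ) = r' := by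
        have := congrArg (fun x => x % p ^ j) h2
        simp only [he, he', Nat.add_mul_mod_self_left, Nat.mod_eq_of_lt r.2,
          Nat.mod_eq_of_lt r'.2] at this
        exact this
      have h4 : (s : ℕ) = s' := by
        rw [he, he', h3] at h2
        exact Nat.eq_of_mul_eq_mul_left (Nat.pos_of_ne_zero hpj) (Nat.add_left_cancel h2)
      exact ⟨Fin.ext h3, Fin.ext h4⟩
    · rintro ⟨h2, h3⟩
      rw [he, he', h2, h3]
  have h2 : ((ζ ^ e * (ζ ^ e')⁻¹) ^ p = 1) ↔ r = r' := by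
    have hprim' : IsPrimitiveRoot (ζ ^ p) (p ^ j) := by
      refine hprim.pow (Nat.pos_of_ne_zero hn) ?_
      rw [pow_succ']
    have h3 : ∀ (r : Fin (p ^ j)) (s : Fin p), (ζ ^ ((r : ℕ) + p ^ j * (s : ℕ))) ^ p =
        (ζ ^ p) ^ (r : ℕ) := by
      intro r s
      rw [← pow_mul, add_mul, pow_add, mul_comm (r : ℕ), pow_mul,
        show p ^ j * (s : ℕ) * p = p ^ (j + 1) * s by ring, pow_mul ζ (p ^ (j + 1)),
        hprim.pow_eq_one, one_pow, mul_one]
    rw [mul_pow, inv_pow, he, he', h3, h3,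
      mul_inv_eq_one₀ (pow_ne_zero _ (pow_ne_zero _ hζ0))]
    constructor
    · intro h
      exact Fin.ext (hprim'.pow_inj r.2 r'.2 h)
    · rintro rfl; rfl
  simp only [h1, h2]

/-- the trace form in coordinates -/
theorem Tr_ev_mul_conj (a b : Fin (p ^ j) → Fin p → ℤ) :
    2 * Tr (p ^ (j + 1)) (ev p j a * conj (ev p j b)) =
      (p : ℂ) ^ j * ((∑ r, ∑ s, ∑ s', (a r s - a r s') * (b r s - b r s') : ℤ) : ℂ) := by
  classical
  have h1 : Tr (p ^ (j + 1)) (ev p j a * conj (ev p j b)) =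
      ∑ r, ∑ s, ∑ r', ∑ s', ((a r s : ℂ) * (b r' s' : ℂ)) *
        ((p : ℂ) ^ (j + 1) * (if r = r' ∧ s = s' then 1 else 0) -
        (p : ℂ) ^ j * (if r = r' then 1 else 0)) := by
    unfold ev
    rw [map_sum, Finset.sum_mul, Tr_sum]
    refine Finset.sum_congr rfl fun r _ => ?_
    rw [Finset.sum_mul, Tr_sum]
    refine Finset.sum_congr rfl fun s _ => ?_
    rw [Finset.mul_sum, Tr_sum]
    refine Finset.sum_congr rfl fun r' _ => ?_
    rw [map_sum, Finset.mul_sum, Tr_sum]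
    refine Finset.sum_congr rfl fun s' _ => ?_
    rw [← Tr_basis r r' s s', map_mul, map_intCast]
    have : ∀ X Y : ℂ, (a r s : ℂ) * X * ((b r' s' : ℂ) * Y) =
        ((a r s * b r' s' : ℤ) : ℂ) * (X * Y) := by
      intro X Y; push_cast; ring
    rw [this, Tr_int_mul]
    push_cast; ring
  have h2 : ∀ r : Fin (p ^ j), ∀ s : Fin p, ∑ r', ∑ s', ((a r s : ℂ) * (b r' s' : ℂ)) *
        ((p : ℂ) ^ (j + 1) * (if r = r' ∧ s = s' then 1 else 0) -
        (p : ℂ) ^ j * (if r = r' then 1 else 0)) =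
      (p : ℂ) ^ j * ((p : ℂ) * ((a r s : ℂ) * b r s) - ∑ s', (a r s : ℂ) * b r s') := by
    intro r s
    rw [Finset.sum_eq_single r]
    · have : ∀ s' : Fin p, ((a r s : ℂ) * (b r s' : ℂ)) *
        ((p : ℂ) ^ (j + 1) * (if r = r ∧ s = s' then 1 else 0) -
        (p : ℂ) ^ j * (if r = r then 1 else 0)) =
          (if s = s' then (p : ℂ) ^ (j + 1) * ((a r s : ℂ) * b r s') else 0) -
            (p : ℂ) ^ j * ((a r s : ℂ) * b r s') := by
        intro s'
        by_cases h : s = s'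
        · simp only [h, and_self, if_true]; ring
        · simp only [h, and_false, if_false, if_true]; ring
      rw [Finset.sum_congr rfl fun s' _ => this s', Finset.sum_sub_distrib,
        Finset.sum_ite_eq, if_pos (Finset.mem_univ _), ← Finset.mul_sum]
      ring
    · intro r' _ hr
      refine Finset.sum_eq_zero fun s' _ => ?_
      rw [if_neg (fun h => hr h.1.symm), if_neg (fun h => hr h.symm)]; ring
    · intro h; exact absurd (Finset.mem_univ _) h
  rw [h1, Finset.sum_congr rfl fun r _ => Finset.sum_congr rfl fun s _ => h2 r s]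
  push_cast
  rw [Finset.mul_sum, Finset.mul_sum]
  refine Finset.sum_congr rfl fun r _ => ?_
  have h3 : ∑ s : Fin p, ∑ s' : Fin p, ((a r s : ℂ) - a r s') * ((b r s : ℂ) - b r s') =
      2 * ((p : ℂ) * ∑ s, (a r s : ℂ) * b r s - ∑ s, ∑ s', (a r s : ℂ) * b r s') := by
    have e1 : ∀ s s' : Fin p, ((a r s : ℂ) - a r s') * ((b r s : ℂ) - b r s') =
        (a r s : ℂ) * b r s + (a r s' : ℂ) * b r s' - (a r s : ℂ) * b r s' -
          (a r s' : ℂ) * b r s := by intro s s'; ring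
    simp only [e1, Finset.sum_sub_distrib, Finset.sum_add_distrib, Finset.sum_const,
      Finset.card_univ, Fintype.card_fin, nsmul_eq_mul, ← Finset.mul_sum]
    rw [Finset.sum_comm (f := fun s s' => (a r s' : ℂ) * b r s)]
    simp only [← Finset.mul_sum]
    ring
  rw [h3, Finset.mul_sum Finset.univ (fun s => (a r s : ℂ) * b r s) (p : ℂ),
    ← Finset.sum_sub_distrib, Finset.mul_sum, Finset.mul_sum, Finset.mul_sum]
  refine Finset.sum_congr rfl fun s _ => ?_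
  ring

theorem ev_eq_zero {a : Fin (p ^ j) → Fin p → ℤ} (h : ∀ r s s', a r s = a r s') :
    ev p j a = 0 := by
  have hn : p ^ (j + 1) ≠ 0 := pow_ne_zero _ hp.out.ne_zero
  have hprim : IsPrimitiveRoot (zt (p ^ (j + 1))) (p ^ (j + 1)) := zt_prim hn
  have hprim' : IsPrimitiveRoot (zt (p ^ (j + 1)) ^ (p ^ j)) p :=
    hprim.pow (Nat.pos_of_ne_zero hn) (pow_succ p j)
  unfold ev
  refine Finset.sum_eq_zero fun r _ => ?_
  have h0 : 0 < p := hp.out.pos
  have h1 : ∀ s : Fin p, (a r s : ℂ) * zt (p ^ (j + 1)) ^ ((r : ℕ) + p ^ j * (s : ℕ)) =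
      ((a r ⟨0, h0⟩ : ℂ) * zt (p ^ (j + 1)) ^ (r : ℕ)) *
        (zt (p ^ (j + 1)) ^ (p ^ j)) ^ (s : ℕ) := by
    intro s
    rw [h r s ⟨0, h0⟩, pow_add, pow_mul, mul_assoc]
  rw [Finset.sum_congr rfl fun s _ => h1 s, ← Finset.mul_sum,
    Finset.sum_range (fun s => (zt (p ^ (j + 1)) ^ (p ^ j)) ^ s) |>.symm,
    hprim'.geom_sum_eq_zero hp.out.one_lt, mul_zero]

theorem count_pairs {V : Type*} [AddGroup V] {F : V → ℤ} (h0 : ∀ v, 0 ≤ F v)
    (h1 : ∀ v, v ≠ 0 → 1 ≤ F v) {v : Fin p → V} {i k : Fin p} (hik : v i ≠ v k) :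
    2 * ((p : ℤ) - 1) ≤ ∑ s, ∑ s', F (v s - v s') := by
  classical
  have hne : i ≠ k := fun h => hik (by rw [h])
  have hg1 : ∀ s : Fin p, 1 ≤ ∑ s', F (v s - v s') := by
    intro s
    by_cases h : v s = v i
    · have h2 : 1 ≤ F (v s - v k) := h1 _ (sub_ne_zero.mpr (by rw [h]; exact hik))
      exact h2.trans (Finset.single_le_sum (fun s' _ => h0 (v s - v s')) (Finset.mem_univ k))
    · have h2 : 1 ≤ F (v s - v i) := h1 _ (sub_ne_zero.mpr h)
      exact h2.trans (Finset.single_le_sum (fun s' _ => h0 (v s - v s')) (Finset.mem_univ i))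
  have hg2 : (p : ℤ) ≤ (∑ s', F (v i - v s')) + ∑ s', F (v k - v s') := by
    rw [← Finset.sum_add_distrib]
    have h3 : ∀ s' : Fin p, 1 ≤ F (v i - v s') + F (v k - v s') := by
      intro s'
      by_cases h : v s' = v i
      · have h2 : 1 ≤ F (v k - v s') := h1 _ (sub_ne_zero.mpr (by rw [h]; exact hik.symm))
        have h4 := h0 (v i - v s')
        omega
      · have h2 : 1 ≤ F (v i - v s') := h1 _ (sub_ne_zero.mpr (Ne.symm h))
        have h4 := h0 (v k - v s')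
        omega
    calc (p : ℤ) = ∑ _s' : Fin p, (1 : ℤ) := by simp
      _ ≤ _ := Finset.sum_le_sum fun s' _ => h3 s'
  have h4 : ∑ s, ∑ s', F (v s - v s') = (∑ s', F (v i - v s')) + ((∑ s', F (v k - v s')) +
      ∑ s ∈ (Finset.univ.erase i).erase k, ∑ s', F (v s - v s')) := by
    rw [← Finset.add_sum_erase _ _ (Finset.mem_univ i),
      ← Finset.add_sum_erase _ _ (Finset.mem_erase.mpr ⟨hne.symm, Finset.mem_univ k⟩)]
  have h5 : ((p : ℤ) - 2) ≤ ∑ s ∈ (Finset.univ.erase i).erase k, ∑ s', F (v s - v s') := by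
    have h6 : (((Finset.univ.erase i).erase k).card : ℤ) = (p : ℤ) - 2 := by
      rw [Finset.card_erase_of_mem (Finset.mem_erase.mpr ⟨hne.symm, Finset.mem_univ k⟩),
        Finset.card_erase_of_mem (Finset.mem_univ i), Finset.card_univ, Fintype.card_fin]
      have := hp.out.two_le
      omega
    calc ((p : ℤ) - 2) = ∑ _s ∈ (Finset.univ.erase i).erase k, (1 : ℤ) := by
          rw [Finset.sum_const, nsmul_eq_mul, mul_one, h6]
      _ ≤ _ := Finset.sum_le_sum fun s _ => hg1 s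
  omega

section form

variable {ι : Type*} [Fintype ι]

/-- value of a quadratic form -/
def qf (q : ι → ι → ℤ) (v : ι → ℤ) : ℤ := ∑ i, ∑ k, q i k * (v i * v k)

theorem Tr_form (q : ι → ι → ℤ) (a : ι → Fin (p ^ j) → Fin p → ℤ) :
    2 * Tr (p ^ (j + 1)) (∑ i, ∑ k, (q i k : ℂ) * (ev p j (a i) * conj (ev p j (a k)))) =
      (p : ℂ) ^ j * ((∑ r, ∑ s, ∑ s', qf q (fun i => a i r s - a i r s') : ℤ) : ℂ) := by
  have h1 : ∀ i k, 2 * Tr (p ^ (j + 1)) ((q i k : ℂ) * (ev p j (a i) * conj (ev p j (a k)))) =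
      (p : ℂ) ^ j * ((∑ r, ∑ s, ∑ s', q i k * ((a i r s - a i r s') * (a k r s - a k r s')) : ℤ) : ℂ) := by
    intro i k
    rw [Tr_int_mul, mul_left_comm, Tr_ev_mul_conj]
    simp only [← Finset.mul_sum]
    push_cast; ring
  simp only [Tr_sum, Finset.mul_sum, h1]
  simp only [qf]
  push_cast
  simp only [← Finset.mul_sum]
  congr 1
  calc _ = ∑ i, ∑ r, ∑ k, ∑ s, ∑ s', (q i k : ℂ) * (((a i r s : ℂ) - a i r s') * ((a k r s : ℂ) - a k r s')) := by
        simp only [Finset.mul_sum]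
        refine Finset.sum_congr rfl fun i _ => ?_
        rw [Finset.sum_comm]
    _ = ∑ r, ∑ i, ∑ s, ∑ s', ∑ k, (q i k : ℂ) * (((a i r s : ℂ) - a i r s') * ((a k r s : ℂ) - a k r s')) := by
        rw [Finset.sum_comm]
        refine Finset.sum_congr rfl fun r _ => Finset.sum_congr rfl fun i _ => ?_
        rw [Finset.sum_comm]
        refine Finset.sum_congr rfl fun s _ => ?_
        rw [Finset.sum_comm]
    _ = ∑ r, ∑ s, ∑ s', ∑ i, ∑ k, (q i k : ℂ) * (((a i r s : ℂ) - a i r s') * ((a k r s : ℂ) - a k r s')) := by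
        refine Finset.sum_congr rfl fun r _ => ?_
        rw [Finset.sum_comm]
        refine Finset.sum_congr rfl fun s _ => ?_
        rw [Finset.sum_comm]

/-- lower bound for the trace of a positive definite form -/
theorem exists_form_ge {q : ι → ι → ℤ} (hq : ∀ v : ι → ℤ, v ≠ 0 → 1 ≤ qf q v) {d : ι → ℂ}
    (hd : ∀ i, d i ∈ cycRing (p ^ (j + 1))) :
    ∃ m : ℤ, 2 * Tr (p ^ (j + 1)) (∑ i, ∑ k, (q i k : ℂ) * (d i * conj (d k))) =
      (p : ℂ) ^ j * (m : ℂ) ∧ 0 ≤ m ∧ (d ≠ 0 → 2 * ((p : ℤ) - 1) ≤ m) := by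
  classical
  choose a ha using fun i => exists_ev (hd i)
  have hq0 : ∀ v : ι → ℤ, 0 ≤ qf q v := by
    intro v
    by_cases h : v = 0
    · rw [h]; simp [qf]
    · exact zero_le_one.trans (hq v h)
  refine ⟨∑ r, ∑ s, ∑ s', qf q (fun i => a i r s - a i r s'), ?_, ?_, ?_⟩
  · rw [← Tr_form]
    simp only [ha]
  · exact Finset.sum_nonneg fun r _ => Finset.sum_nonneg fun s _ =>
      Finset.sum_nonneg fun s' _ => hq0 _
  · intro hne
    have h1 : ∃ r s s', (fun i => a i r s) ≠ fun i => a i r s' := by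
      by_contra hcon
      push Not at hcon
      apply hne
      funext i
      rw [Pi.zero_apply, ha i]
      exact ev_eq_zero fun r s s' => congrFun (hcon r s s') i
    obtain ⟨r, s, s', hss⟩ := h1
    have h2 := count_pairs (p := p) (F := qf q) hq0 hq (v := fun s => fun i => a i r s) hss
    refine h2.trans ?_
    exact Finset.single_le_sum (f := fun r => ∑ s, ∑ s', qf q (fun i => a i r s - a i r s'))
      (fun r _ => Finset.sum_nonneg fun s _ => Finset.sum_nonneg fun s' _ => hq0 _)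
      (Finset.mem_univ r)

/-- **counting with quadratic forms** -/
theorem card_le_form {κ : Type*} {q : ι → ι → ℤ} (hq : ∀ v : ι → ℤ, v ≠ 0 → 1 ≤ qf q v)
    (S : Finset κ) (d : κ → ι → ℂ) (hd : ∀ x ∈ S, ∀ i, d x i ∈ cycRing (p ^ (j + 1)))
    (hne : ∀ x ∈ S, d x ≠ 0) {c : ℤ}
    (hc : ∑ x ∈ S, ∑ i, ∑ k, (q i k : ℂ) * (d x i * conj (d x k)) = c) : (S.card : ℤ) ≤ c := by
  classical
  have h1 : ∀ x, ∃ m : ℤ, x ∈ S → 2 * Tr (p ^ (j + 1))
      (∑ i, ∑ k, (q i k : ℂ) * (d x i * conj (d x k))) = (p : ℂ) ^ j * (m : ℂ) ∧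
        2 * ((p : ℤ) - 1) ≤ m := by
    intro x
    by_cases hx : x ∈ S
    · obtain ⟨m, hm, -, hm2⟩ := exists_form_ge hq (hd x hx)
      exact ⟨m, fun _ => ⟨hm, hm2 (hne x hx)⟩⟩
    · exact ⟨0, fun h => absurd h hx⟩
  choose m hm using h1
  have h2 : 2 * ((p : ℂ) ^ j * ((p : ℂ) - 1) * c) = (p : ℂ) ^ j * ((∑ x ∈ S, m x : ℤ) : ℂ) := by
    rw [← Tr_int (p := p) (j := j) c, ← hc, Tr_sum, Finset.mul_sum]
    push_cast
    rw [Finset.mul_sum]
    exact Finset.sum_congr rfl fun x hx => (hm x hx).1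
  have hp0 : (p : ℂ) ^ j ≠ 0 := pow_ne_zero _ (by exact_mod_cast hp.out.ne_zero)
  have h3 : 2 * (((p : ℤ) - 1) * c) = ∑ x ∈ S, m x := by
    have h4 : (p : ℂ) ^ j * (2 * (((p : ℂ) - 1) * c)) =
        (p : ℂ) ^ j * ((∑ x ∈ S, m x : ℤ) : ℂ) := by rw [← h2]; ring
    have h5 := mul_left_cancel₀ hp0 h4
    exact_mod_cast h5
  have h4 : (S.card : ℤ) * (2 * ((p : ℤ) - 1)) ≤ ∑ x ∈ S, m x := by
    rw [← nsmul_eq_mul, ← Finset.sum_const]
    exact Finset.sum_le_sum fun x hx => (hm x hx).2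
  rw [← h3] at h4
  have h5 : (0 : ℤ) < 2 * ((p : ℤ) - 1) := by
    have := hp.out.two_le
    omega
  have h6 : (S.card : ℤ) * (2 * ((p : ℤ) - 1)) ≤ c * (2 * ((p : ℤ) - 1)) := by linarith
  exact le_of_mul_le_mul_right h6 h5

end form

end Cfsg.Agent.H4
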