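import Cfsg.Agent.H4.Cyc
import Cfsg.Agent.BlkC.SubCong

/-!
# Elements of the prime above `p` in `ℤ[ζ_{p^{j+1}}]` (owner: helper4)
-/

set_option autoImplicit false
set_option linter.style.haveILetI false
set_option linter.unusedSectionVars false

namespace Cfsg.Agent.H4

open scoped ComplexConjugate BigOperators
open Cfsg Cfsg.Agent.CharBase Cfsg.Agent.Blk Cfsg.Agent.BlkInd Cfsg.Agent.BlkC

variable {p : ℕ} [hp : Fact p.Prime] {j : ℕ} {M : Ideal AlgInt}

theorem ev_cong (hM : IsPModular p M) (a : Fin (p ^ j) → Fin p → ℤ) :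
    MemLocalIdeal M (ev p j a - ((∑ r, ∑ s, a r s : ℤ) : ℂ)) := by
  haveI := isPrime_of_isPModular hM
  have hn : p ^ (j + 1) ≠ 0 := pow_ne_zero _ hp.out.ne_zero
  unfold ev
  push_cast
  rw [← Finset.sum_sub_distrib]
  refine mli_sum _ _ fun r _ => ?_
  rw [← Finset.sum_sub_distrib]
  refine mli_sum _ _ fun s _ => ?_
  rw [← mul_sub_one]
  refine mli_mul_left (mlr_intCast _) ?_
  refine mli_sub_one_of_pow_eq_one hM (n := j + 1) ?_
  rw [← pow_mul, mul_comm, pow_mul, zt_pow_self hn, one_pow]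

/-- two-coordinate sums -/
theorem two_le_sum_sq {b : Fin p → ℤ} (h0 : ∑ s, b s = 0) (hne : b ≠ 0) :
    2 ≤ ∑ s, b s ^ 2 := by
  classical
  obtain ⟨i, hi⟩ : ∃ i, b i ≠ 0 := by
    by_contra h; push Not at h; exact hne (funext h)
  have h1 : ∃ k ∈ Finset.univ.erase i, b k ≠ 0 := by
    by_contra h
    push Not at h
    rw [← Finset.add_sum_erase _ _ (Finset.mem_univ i), Finset.sum_eq_zero h, add_zero] at h0
    exact hi h0
  obtain ⟨k, hk, hk0⟩ := h1
  rw [← Finset.add_sum_erase _ _ (Finset.mem_univ i)]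
  have h2 : b k ^ 2 ≤ ∑ s ∈ Finset.univ.erase i, b s ^ 2 :=
    Finset.single_le_sum (fun s _ => sq_nonneg (b s)) hk
  have h3 : 0 < b i ^ 2 := by positivity
  have h4 : 0 < b k ^ 2 := by positivity
  omega

theorem lagrange_sq (a : Fin p → ℤ) (c : ℤ) : ∑ s, ∑ s', (a s - a s') ^ 2 =
    2 * (p * ∑ s, (a s - c) ^ 2 - (∑ s, (a s - c)) ^ 2) := by
  have h1 : ∀ s s', (a s - a s') ^ 2 = (a s - c) ^ 2 + (a s' - c) ^ 2 -
      2 * ((a s - c) * (a s' - c)) := by intro s s'; ring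
  simp only [h1, Finset.sum_sub_distrib, Finset.sum_add_distrib, Finset.sum_const,
    Finset.card_univ, Fintype.card_fin, nsmul_eq_mul, ← Finset.mul_sum, ← Finset.sum_mul]
  ring

theorem four_le (a : Fin (p ^ j) → Fin p → ℤ) (hdvd : (p : ℤ) ∣ ∑ r, ∑ s, a r s)
    (hne : ∃ r s s', a r s ≠ a r s') :
    4 * ((p : ℤ) - 1) ≤ ∑ r, ∑ s, ∑ s', (a r s - a r s') ^ 2 := by
  classical
  have hp2 := hp.out.two_le
  have hF0 : ∀ v : ℤ, 0 ≤ v ^ 2 := fun v => sq_nonneg v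
  have hF1 : ∀ v : ℤ, v ≠ 0 → 1 ≤ v ^ 2 := by
    intro v hv
    have : 0 < v ^ 2 := by positivity
    omega
  obtain ⟨r, s, s', hss⟩ := hne
  have hnn : ∀ r, 0 ≤ ∑ s, ∑ s', (a r s - a r s') ^ 2 := fun r =>
    Finset.sum_nonneg fun s _ => Finset.sum_nonneg fun s' _ => sq_nonneg _
  rw [← Finset.add_sum_erase _ _ (Finset.mem_univ r)]
  by_cases h2 : ∃ r' ∈ Finset.univ.erase r, ∃ s s', a r' s ≠ a r' s'
  · obtain ⟨r', hr', t, t', htt⟩ := h2
    have h3 := count_pairs (p := p) hF0 hF1 (v := a r) hss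
    have h4 := count_pairs (p := p) hF0 hF1 (v := a r') htt
    have h5 : ∑ s, ∑ s', (a r' s - a r' s') ^ 2 ≤
        ∑ r ∈ Finset.univ.erase r, ∑ s, ∑ s', (a r s - a r s') ^ 2 :=
      Finset.single_le_sum (f := fun r => ∑ s, ∑ s', (a r s - a r s') ^ 2)
        (fun r _ => hnn r) hr'
    linarith
  · push Not at h2
    have h3 : (p : ℤ) ∣ ∑ s, a r s := by
      rw [← Finset.add_sum_erase _ _ (Finset.mem_univ r)] at hdvd
      refine (Int.dvd_add_left ?_).mp hdvd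
      refine Finset.dvd_sum fun r' hr' => ?_
      refine ⟨a r' s, ?_⟩
      rw [Finset.sum_congr rfl fun t _ => h2 r' hr' t s]
      simp
    obtain ⟨c, hc⟩ := h3
    have h4 : ∑ s, (a r s - c) = 0 := by
      rw [Finset.sum_sub_distrib, hc]; simp
    have h5 : (fun s => a r s - c) ≠ 0 := by
      intro h
      apply hss
      have e1 := congrFun h s
      have e2 := congrFun h s'
      simp only [Pi.zero_apply] at e1 e2
      omega
    have h6 := two_le_sum_sq h4 h5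
    rw [lagrange_sq (a r) c, h4]
    have h7 : 0 ≤ ∑ r ∈ Finset.univ.erase r, ∑ s, ∑ s', (a r s - a r s') ^ 2 :=
      Finset.sum_nonneg fun r _ => hnn r
    have hp0 : (0 : ℤ) < p := by exact_mod_cast hp.out.pos
    nlinarith

/-- nonzero elements of the prime above `p` have average norm at least two -/
theorem exists_sq_ge (hM : IsPModular p M) {d : ℂ} (hd : d ∈ cycRing (p ^ (j + 1))) :
    ∃ m : ℤ, 2 * Tr (p ^ (j + 1)) (d * conj d) = (p : ℂ) ^ j * (m : ℂ) ∧ 0 ≤ m ∧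
      (d ≠ 0 → 2 * ((p : ℤ) - 1) ≤ m) ∧ (d ≠ 0 → MemLocalIdeal M d → 4 * ((p : ℤ) - 1) ≤ m) := by
  classical
  haveI := isPrime_of_isPModular hM
  obtain ⟨a, rfl⟩ := exists_ev hd
  have hF0 : ∀ v : ℤ, 0 ≤ v ^ 2 := fun v => sq_nonneg v
  have hF1 : ∀ v : ℤ, v ≠ 0 → 1 ≤ v ^ 2 := by
    intro v hv
    have : 0 < v ^ 2 := by positivity
    omega
  have hnn : ∀ r, 0 ≤ ∑ s, ∑ s', (a r s - a r s') ^ 2 := fun r =>
    Finset.sum_nonneg fun s _ => Finset.sum_nonneg fun s' _ => sq_nonneg _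
  have hex : ev p j a ≠ 0 → ∃ r s s', a r s ≠ a r s' := by
    intro h
    by_contra hcon
    push Not at hcon
    exact h (ev_eq_zero hcon)
  refine ⟨∑ r, ∑ s, ∑ s', (a r s - a r s') ^ 2, ?_, Finset.sum_nonneg fun r _ => hnn r, ?_, ?_⟩
  · rw [Tr_ev_mul_conj]
    simp only [pow_two]
  · intro h
    obtain ⟨r, s, s', hss⟩ := hex h
    refine (count_pairs (p := p) hF0 hF1 (v := a r) hss).trans ?_
    exact Finset.single_le_sum (f := fun r => ∑ s, ∑ s', (a r s - a r s') ^ 2)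
        (fun r _ => hnn r) (Finset.mem_univ r)
  · intro h hmem
    refine four_le a ?_ (hex h)
    rw [← mli_intCast_iff hM]
    have h1 := ev_cong hM a
    have h2 : ((∑ r, ∑ s, a r s : ℤ) : ℂ) = ev p j a - (ev p j a - ((∑ r, ∑ s, a r s : ℤ) : ℂ)) := by
      ring
    rw [h2]
    exact mli_sub hmem h1

end Cfsg.Agent.H4
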