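import Cfsg.Agent.H67.CopDeg
import Cfsg.Agent.H75.Inflate
import Cfsg.Agent.Char.Correspondence
import Cfsg.Agent.Char.ExtUnique
import Cfsg.Agent.Char.CentralChar
import Cfsg.Agent.BlkC.Basic

/-!
# Derived length of a Sylow `p`-subgroup of a `p`-solvable group (owner: helper4)
-/

set_option autoImplicit false

namespace Cfsg.Agent.H4.DerLen

open Subgroup Cfsg Cfsg.Agent.CharBase Cfsg.Agent.Char Cfsg.Agent.H75
open scoped ComplexConjugate

universe u

section Derived
variable {A B : Type*} [Group A] [Group B]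

theorem derived_of_ker (f : A →* B) (hker : ∀ x ∈ f.ker, ∀ y ∈ f.ker, x * y = y * x) {k : ℕ}
    (hB : derivedSeries B k = ⊥) : derivedSeries A (k + 1) = ⊥ := by
  have h1 : derivedSeries A k ≤ f.ker := by
    have h2 := map_derivedSeries_le_derivedSeries f k
    rw [hB] at h2
    intro x hx
    have h3 := h2 (mem_map_of_mem f hx)
    rwa [mem_bot] at h3
  rw [derivedSeries_succ, eq_bot_iff, commutator_le]
  intro x hx y hy
  rw [mem_bot, commutatorElement_eq_one_iff_mul_comm]
  exact hker x (h1 hx) y (h1 hy)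

theorem derived_of_injective (f : A →* B) (hf : Function.Injective f) {k : ℕ}
    (hB : derivedSeries B k = ⊥) : derivedSeries A k = ⊥ := by
  have h2 := map_derivedSeries_le_derivedSeries f k
  rw [hB] at h2
  rw [eq_bot_iff]
  intro x hx
  have h3 := h2 (mem_map_of_mem f hx)
  rw [mem_bot] at h3 ⊢
  exact hf (by rw [h3, map_one])

theorem derived_mono {k l : ℕ} (hkl : k ≤ l) (h : derivedSeries A k = ⊥) : derivedSeries A l = ⊥ := by
  rw [eq_bot_iff, ← h]
  exact derivedSeries_antitone A hkl

theorem derived_one (h : ∀ x y : A, x * y = y * x) : derivedSeries A 1 = ⊥ := by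
  rw [derivedSeries_one, eq_bot_iff]
  unfold _root_.commutator
  rw [commutator_le]
  intro x _ y _
  rw [mem_bot, commutatorElement_eq_one_iff_mul_comm]
  exact h x y

end Derived

variable {p : ℕ} [hp : Fact p.Prime]

/-- number of irreducible characters of degree divisible by `p` -/
noncomputable def nn (p : ℕ) (G : Type u) [Group G] : ℕ :=
  Nat.card {χ : IrrCharacter G // p ∣ charDegree (χ : G → ℂ)}

section Quot
variable {G : Type u} [Group G] [Finite G] (N : Subgroup G) [hN : N.Normal]

/-- inflation on characters of degree divisible by `p` -/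
noncomputable def infl (χ : {χ : IrrCharacter (G ⧸ N) // p ∣ charDegree (χ : G ⧸ N → ℂ)}) :
    {χ : IrrCharacter G // p ∣ charDegree (χ : G → ℂ)} :=
  ⟨⟨_, isIrrCharacter_inflate N χ.1.2⟩, by
    have := χ.2
    simpa [charDegree] using this⟩

omit hp in
omit [Finite G] in
theorem infl_injective : Function.Injective (infl (p := p) N) := by
  intro χ ψ h
  apply Subtype.ext
  apply Subtype.ext
  funext x
  induction x using QuotientGroup.induction_on with
  | H g => exact congrFun (congrArg (fun z => ((z.1 : IrrCharacter G) : G → ℂ)) h) g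

omit hp in
theorem nn_quot_le : nn p (G ⧸ N) ≤ nn p G :=
  Nat.card_le_card_of_injective _ (infl_injective N)

omit hp in
theorem ker_of_nn_eq (h : nn p (G ⧸ N) = nn p G) (χ : IrrCharacter G)
    (hχ : p ∣ charDegree (χ : G → ℂ)) : ∀ n ∈ N, (χ : G → ℂ) n = (χ : G → ℂ) 1 := by
  classical
  have := Fintype.ofFinite {χ : IrrCharacter (G ⧸ N) // p ∣ charDegree (χ : G ⧸ N → ℂ)}
  have := Fintype.ofFinite {χ : IrrCharacter G // p ∣ charDegree (χ : G → ℂ)}
  have hb : Function.Bijective (infl (p := p) N) := by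
    rw [Fintype.bijective_iff_injective_and_card]
    refine ⟨infl_injective N, ?_⟩
    rw [← Nat.card_eq_fintype_card, ← Nat.card_eq_fintype_card]
    exact h
  obtain ⟨ψ, hψ⟩ := hb.2 ⟨χ, hχ⟩
  intro n hn
  have h2 : (χ : G → ℂ) = fun g => (ψ.1 : G ⧸ N → ℂ) (QuotientGroup.mk g) := by
    have := congrArg (fun z => ((z.1 : IrrCharacter G) : G → ℂ)) hψ
    exact this.symm
  rw [h2]
  exact inflate_ker N _ n hn

end Quot

section Key

variable {G : Type u} [Group G] [Finite G]

/-- All characters over `lam` of `p'`-degree. -/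
theorem key (hsolv : IsPSolvable p G) (N : Subgroup G) [hN : N.Normal] (hNc : ∀ a ∈ N, ∀ b ∈ N, a * b = b * a)
    (hNp : IsPGroup p N) (hN1 : N ≠ ⊥)
    (h : ∀ χ : IrrCharacter G, p ∣ charDegree (χ : G → ℂ) → ∀ n ∈ N, (χ : G → ℂ) n = (χ : G → ℂ) 1)
    (P : Sylow p G) : derivedSeries (P : Subgroup G) 2 = ⊥ := by
  classical
  have : Fintype G := Fintype.ofFinite G
  have : Fintype N := Fintype.ofFinite N
  -- a nontrivial character
  obtain ⟨n₀, hn₀, hn₁⟩ : ∃ n ∈ N, n ≠ 1 := by
    by_contra hcon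
    push Not at hcon
    exact hN1 (eq_bot_iff.mpr fun x hx => mem_bot.mpr (hcon x hx))
  obtain ⟨lam, hlam0⟩ : ∃ χ : IrrCharacter N, (χ : N → ℂ) ⟨n₀, hn₀⟩ ≠ (χ : N → ℂ) 1 := by
    by_contra hcon
    push Not at hcon
    have h1 := isConj_of_irr_eq (G := N) hcon
    obtain ⟨c, hc⟩ := isConj_iff.mp h1
    apply hn₁
    have h2 : (⟨n₀, hn₀⟩ : N) = 1 := by
      have h3 : (⟨n₀, hn₀⟩ : N) = c⁻¹ * 1 * c := by rw [← hc]; group
      rw [h3]; group
    exact congrArg Subtype.val h2
  have hlam1 : (lam : N → ℂ) 1 = 1 := by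
    apply CC.degree_one_of_commutator lam.2
    intro x y
    rw [commutatorElement_eq_one_iff_mul_comm.mpr (Subtype.ext (hNc x x.2 y y.2))]
  have hlc := irr_isCharacter lam
  have hone : classInner (fun _ : N => (1 : ℂ)) (lam : N → ℂ) = 0 := by
    refine classInner_irr_of_ne (χ := oneIrr N) (ψ := lam) ?_
    intro h1
    apply hlam0
    rw [← h1]
    rfl
  -- every character over lam has degree prime to p
  have hover : ∀ χ : G → ℂ, IsIrrCharacter G χ → classInner (fun n : N => χ n) (lam : N → ℂ) ≠ 0 →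
      ¬ p ∣ charDegree χ := by
    intro χ hχ hne hdvd
    apply hne
    have h1 := h ⟨χ, hχ⟩ hdvd
    have h2 : (fun n : N => χ n) = (χ 1) • (fun _ : N => (1 : ℂ)) := by
      funext n
      simpa using h1 n n.2
    rw [h2, CharBase.classInner_smul_left, hone, mul_zero]
  set T := inertia N (lam : N → ℂ) with hT
  have : Fintype T := Fintype.ofFinite T
  have hNT : N ≤ T := le_inertia N (irr_isClassFunction lam)
  obtain ⟨χ, hχ, hne⟩ := exists_over N lam.2
  obtain ⟨ψ, hψ, hind, hψN⟩ := clifford_correspondence N T lam.2 hT hNT hχ hne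
  have hp0 := hover χ hχ hne
  have hdeg : ∀ ξ : T → ℂ, IsIrrCharacter T ξ → charDegree (indFun T ξ) = T.index * charDegree ξ := by
    intro ξ hξ
    apply charDegree_eq
    have h1 : ξ 1 = charDegree ξ := BlkC.charDegree_spec ⟨ξ, hξ⟩
    rw [indFun_one_apply, h1]
    push_cast
    rfl
  have hTp : ¬ p ∣ T.index := by
    intro hd
    apply hp0
    rw [← hind, hdeg ψ hψ]
    exact Dvd.dvd.mul_right hd _
  have hψp : ¬ p ∣ charDegree ψ := by
    intro hd
    apply hp0
    rw [← hind, hdeg ψ hψ]
    exact Dvd.dvd.mul_left hd _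
  -- the normal subgroup inside T
  set N' := N.subgroupOf T with hN'
  have : Fintype N' := Fintype.ofFinite N'
  let e : N' ≃* N := subgroupOfEquivOfLe hNT
  let lam' : N' → ℂ := fun x => (lam : N → ℂ) (e x)
  have hlam' : IsIrrCharacter N' lam' := isIrrCharacter_comp_surjective lam.2 e.toMonoidHom e.surjective
  have hlam'1 : lam' 1 = 1 := by
    show (lam : N → ℂ) (e 1) = 1
    rw [map_one, hlam1]
  have hinv : ∀ t : T, cj N' t lam' = lam' := by
    intro t
    funext x
    have h1 := (mem_inertia_iff N).mp t.2 (e x)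
    rw [cj_apply]
    show (lam : N → ℂ) (e _) = (lam : N → ℂ) (e x)
    rw [← h1]
    rfl
  have hψN' : classInner (fun n : N' => ψ n) lam' = classInner (fun n : N => ψ ⟨n, hNT n.2⟩) (lam : N → ℂ) := by
    have h1 := classInner_comp_equiv e (fun n : N => ψ ⟨n, hNT n.2⟩) (lam : N → ℂ)
    rw [← h1]
    rfl
  have hext : ∃ χ' : T → ℂ, IsIrrCharacter T χ' ∧ ∀ n : N', χ' n = lam' n := by
    refine exists_extension_of_primes_det (N := N') hlam' hinv fun q hq => ?_
    by_cases hqp : q = p
    · subst hqp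
      left
      refine ⟨ψ, charDegree ψ, isCharacter_of_isIrr hψ, hψp, ?_⟩
      have hne' : classInner (fun n : N' => ψ n) lam' ≠ 0 := by
        rw [hψN', hψN]; exact hne
      have h1 := restrict_eq_smul_of_invariant N' hψ hlam' hne' hinv
      have h2 := congrFun h1 1
      rw [Pi.smul_apply, smul_eq_mul, hlam'1, mul_one] at h2
      rw [← h2]
      exact BlkC.charDegree_spec ⟨ψ, hψ⟩
    · right
      refine ⟨1, Nat.card N', 1, by rw [hlam'1]; simp, ?_, ?_⟩
      · rw [one_mul]
        intro hd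
        have h1 : IsPGroup p N' := hNp.of_equiv e.symm
        obtain ⟨k, hk⟩ := h1.exists_card_eq
        rw [hk] at hd
        exact hqp ((Nat.prime_dvd_prime_iff_eq hq hp.out).mp (hq.dvd_of_dvd_pow hd))
      · intro n
        have h1 := detChar_of_hom (linHom (isCharacter_of_isIrr hlam') hlam'1)
        have h2 : ((linHom (isCharacter_of_isIrr hlam') hlam'1 : N' →* ℂ) : N' → ℂ) = lam' := rfl
        rw [h2] at h1
        rw [h1, linChar_pow_card (isCharacter_of_isIrr hlam') hlam'1]
        rfl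
  obtain ⟨μ, hμ, hμN⟩ := hext
  have hμ1 : μ 1 = 1 := by
    have := hμN 1
    rw [hlam'1] at this
    exact this
  have hX : H67.CopDeg.X p (T ⧸ N') := by
    intro β hβ
    have hβi := isIrrCharacter_inflate N' β.2
    have hprod : IsIrrCharacter T (fun t : T => (β : T ⧸ N' → ℂ) (QuotientGroup.mk t) * μ t) := by
      have h1 := isIrrCharacter_hom_mul hβi (linHom (isCharacter_of_isIrr hμ) hμ1)
      have h2 : (fun t : T => (β : T ⧸ N' → ℂ) (QuotientGroup.mk t) * μ t) =
          ((linHom (isCharacter_of_isIrr hμ) hμ1 : T →* ℂ) : T → ℂ) * (fun t : T => (β : T ⧸ N' → ℂ) (QuotientGroup.mk t)) := by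
        funext t
        rw [Pi.mul_apply, mul_comm]
        rfl
      rw [h2]
      exact h1
    have hres : (fun n : N => (fun t : T => (β : T ⧸ N' → ℂ) (QuotientGroup.mk t) * μ t) ⟨n, hNT n.2⟩) =
        ((β : T ⧸ N' → ℂ) 1) • (lam : N → ℂ) := by
      funext n
      have h1 : (QuotientGroup.mk (⟨n, hNT n.2⟩ : T) : T ⧸ N') = 1 := by
        rw [QuotientGroup.eq_one_iff, hN', mem_subgroupOf]
        exact n.2
      have h2 := hμN ⟨⟨n, hNT n.2⟩, mem_subgroupOf.mpr n.2⟩
      rw [Pi.smul_apply, smul_eq_mul]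
      show (β : T ⧸ N' → ℂ) (QuotientGroup.mk (⟨n, hNT n.2⟩ : T)) * μ ⟨n, hNT n.2⟩ = _
      rw [h1, show μ ⟨n, hNT n.2⟩ = (lam : N → ℂ) n from h2]
    have hne2 : classInner (fun n : N => (fun t : T => (β : T ⧸ N' → ℂ) (QuotientGroup.mk t) * μ t) ⟨n, hNT n.2⟩) (lam : N → ℂ) ≠ 0 := by
      rw [hres, CharBase.classInner_smul_left, classInner_irr_self, mul_one]
      exact irr_one_ne_zero β.2
    have hind2 := isIrr_indFun_of_inertia N T lam.2 hT hNT hprod hne2
    have h3 : classInner (fun n : N => indFun T (fun t : T => (β : T ⧸ N' → ℂ) (QuotientGroup.mk t) * μ t) n) (lam : N → ℂ) ≠ 0 := by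
      obtain ⟨χ', hχ', hne'⟩ := exists_over T hprod
      obtain ⟨h5, h6⟩ := correspondence_key N T lam.2 hT hNT hχ' hprod hne' hne2
      rw [h5, ← h6]
      exact hne2
    apply hover _ hind2 h3
    rw [hdeg _ hprod]
    apply Dvd.dvd.mul_left
    have h4 : charDegree (fun t : T => (β : T ⧸ N' → ℂ) (QuotientGroup.mk t) * μ t) = charDegree (β : T ⧸ N' → ℂ) := by
      apply charDegree_eq
      rw [hμ1, mul_one, ← BlkC.charDegree_spec β]
      rfl
    rw [h4]
    exact hβ
  -- conclusion
  obtain ⟨Q⟩ : Nonempty (Sylow p T) := inferInstance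
  have hQab := (H67.CopDeg.main_aux _ (T ⧸ N') rfl (H76.isPSolvable_quotient N' (H76.isPSolvable_subgroup T hsolv)) hX
    (Q.mapSurjective (QuotientGroup.mk'_surjective N'))).2
  have hQ2 : derivedSeries (Q : Subgroup T) 2 = ⊥ := by
    let f : (Q : Subgroup T) →* ((Q : Subgroup T).map (QuotientGroup.mk' N')) :=
      ((QuotientGroup.mk' N').comp (Q : Subgroup T).subtype).codRestrict _ (fun x => mem_map_of_mem _ x.2)
    refine derived_of_ker f ?_ (derived_one ?_)
    · intro x hx y hy
      have h1 : ∀ z ∈ f.ker, ((z : T) : G) ∈ N := by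
        intro z hz
        rw [MonoidHom.mem_ker] at hz
        have h2 := congrArg Subtype.val hz
        have h3 : (QuotientGroup.mk (z : T) : T ⧸ N') = 1 := h2
        rw [QuotientGroup.eq_one_iff, hN', mem_subgroupOf] at h3
        exact h3
      apply Subtype.ext
      apply Subtype.ext
      exact hNc _ (h1 x hx) _ (h1 y hy)
    · intro x y
      apply Subtype.ext
      exact hQab x x.2 y y.2
  -- transfer to P
  have hPQ : IsPGroup p ((Q : Subgroup T).map T.subtype) := Q.isPGroup'.map T.subtype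
  have hidx : ¬ p ∣ ((Q : Subgroup T).map T.subtype).index := by
    rw [index_map_subtype]
    intro hd
    rcases (hp.out.dvd_mul).mp hd with h1 | h1
    · exact Q.not_dvd_index h1
    · exact hTp h1
  let P₁ : Sylow p G := hPQ.toSylow hidx
  let e1 : (P : Subgroup G) ≃* (P₁ : Subgroup G) := Sylow.equiv P P₁
  have e2 : (Q : Subgroup T) ≃* (P₁ : Subgroup G) := (Q : Subgroup T).equivMapOfInjective T.subtype T.subtype_injective
  exact derived_of_injective (e1.trans e2.symm).toMonoidHom (e1.trans e2.symm).injective hQ2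

end Key

theorem main (m : ℕ) : ∀ (G : Type u) [Group G] [Finite G], Nat.card G = m → IsPSolvable p G →
    ∀ P : Sylow p G, derivedSeries (P : Subgroup G) (nn p G + 1) = ⊥ := by
  induction m using Nat.strong_induction_on with
  | _ m ih =>
  intro G _ _ hcard hsolv P
  rcases subsingleton_or_nontrivial G with hs | hnt
  · exact Subsingleton.elim _ _
  have hlt : ∀ N : Subgroup G, N.Normal → N ≠ ⊥ → Nat.card (G ⧸ N) < m := by
    intro N hN hne
    rw [← hcard, N.card_eq_card_quotient_mul_card_subgroup]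
    have h1 : 1 < Nat.card N := (one_lt_card_iff_ne_bot N).mpr hne
    have h2 : 0 < Nat.card (G ⧸ N) := Nat.card_pos
    nlinarith
  -- the restriction of the quotient map to P
  have hstep : ∀ (N : Subgroup G) [N.Normal], N ≠ ⊥ →
      ∃ (B : Type u) (_ : Group B) (f : (P : Subgroup G) →* B), derivedSeries B (nn p (G ⧸ N) + 1) = ⊥ ∧
        ∀ x ∈ f.ker, (x : G) ∈ N := by
    intro N hN hne
    have h1 := ih _ (hlt N hN hne) (G ⧸ N) rfl (H76.isPSolvable_quotient N hsolv)
      (P.mapSurjective (QuotientGroup.mk'_surjective N))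
    refine ⟨((P : Subgroup G).map (QuotientGroup.mk' N) : Subgroup (G ⧸ N)), inferInstance,
      ((QuotientGroup.mk' N).comp (P : Subgroup G).subtype).codRestrict _ (fun x => mem_map_of_mem _ x.2), h1, ?_⟩
    intro z hz
    rw [MonoidHom.mem_ker] at hz
    have h2 := congrArg Subtype.val hz
    have h3 : (QuotientGroup.mk (z : G) : G ⧸ N) = 1 := h2
    rwa [QuotientGroup.eq_one_iff] at h3
  by_cases hN' : pPrimeCore p G = ⊥
  · have hC : pCore p G ≠ ⊥ := (S1901.exists_core_ne_bot hsolv).resolve_right (not_not.mpr hN')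
    set C := pCore p G with hCdef
    have hCp : IsPGroup p C := Solv.pCore_isPGroup p
    set N := (center C).map C.subtype with hNdef
    have hNn : N.Normal := inferInstance
    have hN1 : N ≠ ⊥ := by
      have : Nontrivial C := (nontrivial_iff_ne_bot C).mpr hC
      have hZ := hCp.center_nontrivial
      intro h0
      rw [hNdef, (map_eq_bot_iff_of_injective _ C.subtype_injective)] at h0
      exact (nontrivial_iff_ne_bot _).mp hZ h0
    have hNc : ∀ a ∈ N, ∀ b ∈ N, a * b = b * a := by
      rintro _ ⟨a, ha, rfl⟩ _ ⟨b, hb, rfl⟩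
      exact congrArg C.subtype (mem_center_iff.mp hb a)
    have hNp : IsPGroup p N := (hCp.to_subgroup _).map _
    rcases (nn_quot_le (p := p) N).lt_or_eq with hlt' | heq
    · obtain ⟨B, _, f, hB, hf⟩ := hstep N hN1
      refine derived_mono ?_ (derived_of_ker f (fun x hx y hy => Subtype.ext (hNc _ (hf x hx) _ (hf y hy))) hB)
      omega
    · by_cases h0 : nn p G = 0
      · have hX : H67.CopDeg.X p G := by
          intro χ hχ
          have : Nonempty {χ : IrrCharacter G // p ∣ charDegree (χ : G → ℂ)} := ⟨⟨χ, hχ⟩⟩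
          exact (Nat.card_pos (α := {χ : IrrCharacter G // p ∣ charDegree (χ : G → ℂ)})).ne' h0
        have h1 := (H67.CopDeg.main_aux _ G rfl hsolv hX P).2
        rw [h0]
        exact derived_one fun x y => Subtype.ext (h1 x x.2 y y.2)
      · refine derived_mono ?_ (key hsolv N hNc hNp hN1 (ker_of_nn_eq N heq) P)
        omega
  · obtain ⟨B, _, f, hB, hf⟩ := hstep (pPrimeCore p G) hN'
    have hinj : Function.Injective f := by
      rw [injective_iff_map_eq_one]
      intro x hx
      have h1 : (x : G) ∈ pPrimeCore p G := hf x hx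
      have hNc : (Nat.card (pPrimeCore p G)).Coprime p := Solv.pPrimeCore_card_coprime p
      have hPN : (P : Subgroup G) ⊓ pPrimeCore p G = ⊥ := by
        obtain ⟨j, hj⟩ := P.2.exists_card_eq
        apply inf_eq_bot_of_coprime
        rw [hj]
        exact Nat.Coprime.pow_left j hNc.symm
      have h2 : (x : G) ∈ (P : Subgroup G) ⊓ pPrimeCore p G := mem_inf.mpr ⟨x.2, h1⟩
      rw [hPN, mem_bot] at h2
      exact Subtype.ext h2
    refine derived_mono ?_ (derived_of_injective f hinj hB)
    have := nn_quot_le (p := p) (pPrimeCore p G)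
    omega

end Cfsg.Agent.H4.DerLen
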