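import Cfsg.Agent.H4.Cyc2
import Cfsg.Agent.H4.SecSum
import Cfsg.Agent.BlkF.MajorChar

/-!
# Valuations of contributions (owner: helper4)
-/

set_option autoImplicit false
set_option linter.style.haveILetI false
set_option linter.unusedSectionVars false

namespace Cfsg.Agent.H4

open scoped ComplexConjugate BigOperators
open Cfsg Cfsg.Agent.CharBase Cfsg.Agent.Blk Cfsg.Agent.BlkInd Cfsg.Agent.BlkC

section cyc

variable {p : ℕ} [hp : Fact p.Prime] {j : ℕ}

/-- `ℤ[ζ]` is integrally closed for prime power conductors -/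
theorem mem_cycRing_of_integral {w : ℂ} {c : ℤ} (hc : c ≠ 0)
    (h : (c : ℂ) * w ∈ cycRing (p ^ (j + 1))) (hint : IsIntegral ℤ w) :
    w ∈ cycRing (p ^ (j + 1)) := by
  classical
  set n := p ^ (j + 1) with hn0
  have hn : n ≠ 0 := pow_ne_zero _ hp.out.ne_zero
  have : NeZero n := ⟨hn⟩
  let K := CyclotomicField n ℚ
  have instK : IsCyclotomicExtension {n} ℚ K := CyclotomicField.isCyclotomicExtension n ℚ
  have hζ := IsCyclotomicExtension.zeta_spec n ℚ K
  set ζ := IsCyclotomicExtension.zeta n ℚ K with hζdef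
  obtain ⟨i⟩ : Nonempty (K →ₐ[ℚ] ℂ) := ⟨by
    have : FiniteDimensional ℚ K := IsCyclotomicExtension.finiteDimensional {n} ℚ K
    exact IsAlgClosed.lift⟩
  have hiζ : IsPrimitiveRoot (i ζ) n := hζ.map_of_injective i.injective
  have hmem : (c : ℂ) * w ∈ (i : K →+* ℂ).range := by
    have : Subring.closure {ζ : ℂ | ζ ^ n = 1} ≤ (i : K →+* ℂ).range := by
      rw [Subring.closure_le]
      intro x hx
      obtain ⟨m, -, rfl⟩ := hiζ.eq_pow_of_pow_eq_one hx
      exact ⟨ζ ^ m, by simp⟩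
    exact this h
  obtain ⟨y, hy⟩ := hmem
  have hy' : i y = (c : ℂ) * w := hy
  have hcK : (c : K) ≠ 0 := by exact_mod_cast hc
  have hcC : (c : ℂ) ≠ 0 := by exact_mod_cast hc
  set v : K := (c : K)⁻¹ * y with hv
  have hvw : i v = w := by
    rw [hv, map_mul, map_inv₀, map_intCast, hy', inv_mul_cancel_left₀ hcC]
  have hvint : IsIntegral ℤ v := by
    rw [← hvw] at hint
    exact (isIntegral_algHom_iff (i.restrictScalars ℤ) i.injective).mp hint
  have hcl := IsCyclotomicExtension.Rat.isIntegralClosure_adjoin_singleton_of_prime_pow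
    (p := p) (k := j + 1) (K := K) hζ
  obtain ⟨⟨u, hu⟩, huv⟩ := hcl.isIntegral_iff.mp hvint
  have huv' : u = v := huv
  have hle : Algebra.adjoin ℤ ({ζ} : Set K) ≤
      (subalgebraOfSubring (cycRing n)).comap (i.restrictScalars ℤ) := by
    rw [Algebra.adjoin_le_iff]
    intro x hx
    rw [Set.mem_singleton_iff] at hx
    subst hx
    change i ζ ∈ cycRing n
    exact Subring.subset_closure hiζ.pow_eq_one
  have h1 : i u ∈ cycRing n := hle hu
  rwa [huv', hvw] at h1

end cyc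

universe u

section sec

variable {G : Type u} [Group G] [Fintype G] {p : ℕ} [hp : Fact p.Prime] {M : Ideal AlgInt}
variable {C : Subgroup G} [Fintype C]

theorem dpart_isClass (hM : IsPModular p M) {x : G} {e : Set (IrrCharacter C)}
    (ψ : G → ℂ) (s c : C) : dpart p x e ψ (c * s * c⁻¹) = dpart p x e ψ s := by
  have hord : orderOf (c * s * c⁻¹) = orderOf s :=
    orderOf_injective (MulAut.conj c).toMonoidHom (MulAut.conj c).injective s
  by_cases hs : p ∣ orderOf s
  · rw [dpart_of_sing ψ hs, dpart_of_sing ψ (by rw [hord]; exact hs)]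
  · rw [dpart_eq_sum x e ψ hs, dpart_eq_sum x e ψ (by rw [hord]; exact hs)]
    refine Finset.sum_congr rfl fun η _ => ?_
    rw [irr_isClassFunction η s c]

theorem isIntegral_dco {x : G} (hC : C = Subgroup.centralizer ({x} : Set G))
    (χ : IrrCharacter G) (η : IrrCharacter C) : IsIntegral ℤ (dco x (χ : G → ℂ) η) := by
  obtain ⟨ω, hω, h⟩ := exists_dco_eq hC χ η
  rw [h]
  refine IsIntegral.mul ?_ (isIntegral_int_natCast _)
  exact IsIntegral.of_pow (orderOf_pos x) (by rw [hω]; exact isIntegral_one)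

theorem isIntegral_dpart {x : G} (hC : C = Subgroup.centralizer ({x} : Set G))
    {e : Set (IrrCharacter C)} (ψ : IrrCharacter G) (s : C) :
    IsIntegral ℤ (dpart p x e (ψ : G → ℂ) s) := by
  by_cases hs : p ∣ orderOf s
  · rw [dpart_of_sing _ hs]; exact isIntegral_zero
  · rw [dpart_eq_sum x e _ hs]
    exact IsIntegral.sum _ fun η _ => (isIntegral_dco hC ψ η).mul (isIntegral_of_isCharacter (irr_isCharacter η) s)

open Classical in
/-- the conjugate of the `e`-part of `ψ` on the section of `x`, as a function on `G` -/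
noncomputable def secF (p : ℕ) (x : G) (e : Set (IrrCharacter C)) (ψ : G → ℂ) (g : G) : ℂ :=
  (Nat.card C : ℂ)⁻¹ * ∑ a : G × C, if ¬ p ∣ orderOf a.2 ∧ a.1 * (x * (a.2 : G)) * a.1⁻¹ = g
    then conj (dpart p x e ψ a.2) else 0

theorem secF_class {x : G} (e : Set (IrrCharacter C)) (ψ : G → ℂ) :
    IsClassFunction G (secF p x e ψ) := by
  intro g k
  unfold secF
  congr 1
  refine Fintype.sum_equiv ((Equiv.mulLeft k⁻¹).prodCongr (Equiv.refl C)) _ _ fun a => ?_
  simp only [Equiv.prodCongr_apply, Prod.map_fst, Prod.map_snd, Equiv.coe_mulLeft, Equiv.refl_apply]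
  congr 1
  apply propext
  apply and_congr_right'
  constructor
  · intro h
    calc k⁻¹ * a.1 * (x * (a.2 : G)) * (k⁻¹ * a.1)⁻¹ =
        k⁻¹ * (a.1 * (x * (a.2 : G)) * a.1⁻¹) * k := by group
      _ = g := by rw [h]; group
  · intro h
    have h' : k⁻¹ * a.1 * (x * (a.2 : G)) * (k⁻¹ * a.1)⁻¹ = g := h
    calc a.1 * (x * (a.2 : G)) * a.1⁻¹ =
        k * (k⁻¹ * a.1 * (x * (a.2 : G)) * (k⁻¹ * a.1)⁻¹) * k⁻¹ := by group
      _ = k * g * k⁻¹ := by rw [h']

theorem secF_integral (hM : IsPModular p M) {x : G} (hx : ∃ k : ℕ, orderOf x = p ^ k)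
    (hC : C = Subgroup.centralizer ({x} : Set G)) {e : Set (IrrCharacter C)}
    (ψ : IrrCharacter G) (g : G) : IsIntegral ℤ (secF p x e (ψ : G → ℂ) g) := by
  classical
  have hcomm : ∀ k : C, (k : G) * x = x * k := fun k =>
    Subgroup.mem_centralizer_singleton_iff.mp (hC.le k.2)
  have hpart : ∀ (h : G) (s : C), ¬ p ∣ orderOf s →
      IsPPart p (h * (x * (s : G)) * h⁻¹) (h * x * h⁻¹) := by
    intro h s hs
    have h0 : IsPPart p (x * (s : G)) x :=
      ⟨(s : G), rfl, (hcomm s).symm, hx, by rw [Subgroup.orderOf_coe]; exact hs⟩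
    exact isPPart_conj h0 h
  unfold secF
  rw [← Finset.sum_filter]
  by_cases hne : (Finset.univ.filter fun a : G × C => ¬ p ∣ orderOf a.2 ∧
      a.1 * (x * (a.2 : G)) * a.1⁻¹ = g).Nonempty
  · obtain ⟨a₀, ha₀⟩ := hne
    rw [Finset.mem_filter] at ha₀
    obtain ⟨-, ha1, ha2⟩ := ha₀
    have hex : ∃ h : G, IsPPart p g (h * x * h⁻¹) := ⟨a₀.1, by rw [← ha2]; exact hpart _ _ ha1⟩
    have hcard := card_pairs_eq hx hC g
    rw [if_pos hex] at hcard
    have hval : ∀ a ∈ (Finset.univ.filter fun a : G × C => ¬ p ∣ orderOf a.2 ∧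
        a.1 * (x * (a.2 : G)) * a.1⁻¹ = g), conj (dpart p x e (ψ : G → ℂ) a.2) =
          conj (dpart p x e (ψ : G → ℂ) a₀.2) := by
      intro a ha
      rw [Finset.mem_filter] at ha
      obtain ⟨-, hb1, hb2⟩ := ha
      have e1 := hpart a.1 a.2 hb1
      have e2 := hpart a₀.1 a₀.2 ha1
      rw [hb2] at e1
      rw [ha2] at e2
      have h3 : a.1 * x * a.1⁻¹ = a₀.1 * x * a₀.1⁻¹ := isPPart_unique hp.out e1 e2
      have hc : a₀.1⁻¹ * a.1 ∈ C := by
        apply hC.ge
        rw [Subgroup.mem_centralizer_singleton_iff]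
        calc a₀.1⁻¹ * a.1 * x = a₀.1⁻¹ * (a.1 * x * a.1⁻¹) * a.1 := by group
          _ = a₀.1⁻¹ * (a₀.1 * x * a₀.1⁻¹) * a.1 := by rw [h3]
          _ = _ := by group
      have h4 : a₀.2 = ⟨_, hc⟩ * a.2 * ⟨_, hc⟩⁻¹ := by
        apply Subtype.ext
        push_cast
        have h5 : a₀.1 * x * a₀.1⁻¹ * (a₀.1 * (a₀.2 : G) * a₀.1⁻¹) =
            a.1 * x * a.1⁻¹ * (a.1 * (a.2 : G) * a.1⁻¹) := by
          calc _ = a₀.1 * (x * (a₀.2 : G)) * a₀.1⁻¹ := by group
            _ = a.1 * (x * (a.2 : G)) * a.1⁻¹ := by rw [ha2, hb2]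
            _ = _ := by group
        rw [h3] at h5
        have h6 := mul_left_cancel h5
        calc (a₀.2 : G) = a₀.1⁻¹ * (a₀.1 * (a₀.2 : G) * a₀.1⁻¹) * a₀.1 := by group
          _ = a₀.1⁻¹ * (a.1 * (a.2 : G) * a.1⁻¹) * a₀.1 := by rw [h6]
          _ = _ := by group
      rw [h4, dpart_isClass hM]
    rw [Finset.sum_congr rfl hval, Finset.sum_const, hcard, nsmul_eq_mul, inv_mul_cancel_left₀
      (by exact_mod_cast Nat.card_pos.ne')]
    exact isIntegral_conj (isIntegral_dpart hC ψ _)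
  · rw [Finset.not_nonempty_iff_eq_empty.mp hne, Finset.sum_empty, mul_zero]
    exact isIntegral_zero

/-- the inner product with a section part may be computed with the full function -/
theorem sc_eq_half (hM : IsPModular p M) {x : G} {e : Set (IrrCharacter C)} (he : IsPBlock M e)
    (χ ψ : G → ℂ) : sc p x e χ ψ = (Nat.card C : ℂ)⁻¹ * ∑ s : C,
      χ (x * (s : G)) * conj (dpart p x e ψ s) := by
  classical
  have hCc : (Nat.card C : ℂ) ≠ 0 := by exact_mod_cast Nat.card_pos.ne'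
  unfold sc
  congr 1
  have h1 : ∀ s : C, dpart p x e χ s * conj (dpart p x e ψ s) =
      (Nat.card C : ℂ)⁻¹ * ∑ c : C, (if p ∣ orderOf s then 0 else if p ∣ orderOf c then 0 else
        blockKernel e s c * χ (x * (c : G)) * conj (dpart p x e ψ s)) := by
    intro s
    by_cases hs : p ∣ orderOf s
    · simp [hs, dpart_of_sing _ hs]
    · simp only [if_neg hs]
      rw [dpart_eq hM he χ hs, mul_assoc, Finset.sum_mul]
      congr 1
      refine Finset.sum_congr rfl fun c _ => ?_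
      split_ifs <;> ring
  have h2 : ∀ c : C, χ (x * (c : G)) * conj (dpart p x e ψ c) =
      (Nat.card C : ℂ)⁻¹ * ∑ s : C, (if p ∣ orderOf s then 0 else if p ∣ orderOf c then 0 else
        blockKernel e s c * χ (x * (c : G)) * conj (dpart p x e ψ s)) := by
    intro c
    by_cases hc : p ∣ orderOf c
    · simp [hc, dpart_of_sing _ hc]
    · simp only [if_neg hc]
      rw [← sum_kernel_dpart hM he ψ hc, map_mul, map_inv₀, Complex.conj_natCast, map_sum,
        mul_left_comm, Finset.mul_sum]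
      congr 1
      refine Finset.sum_congr rfl fun s _ => ?_
      by_cases hs : p ∣ orderOf s
      · simp [hs]
      · rw [if_neg hs, if_neg hs, map_mul]
        have : conj (blockKernel e c s) = blockKernel e s c := by
          rw [blockKernel_eq_Bfin, blockKernel_eq_Bfin, map_sum]
          refine Finset.sum_congr rfl fun η _ => ?_
          rw [map_mul, Complex.conj_conj, mul_comm]
        rw [this]; ring
  rw [Finset.sum_congr rfl fun s _ => h1 s, Finset.sum_congr rfl fun s _ => h2 s,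
    ← Finset.mul_sum, ← Finset.mul_sum, Finset.sum_comm]

theorem sum_secF_mul {x : G} {e : Set (IrrCharacter C)} (ψ : G → ℂ)
    (χ : IrrCharacter G) : ∑ g : G, secF p x e ψ g * (χ : G → ℂ) g =
      (Nat.card G : ℂ) * ((Nat.card C : ℂ)⁻¹ * ∑ s : C,
        (χ : G → ℂ) (x * (s : G)) * conj (dpart p x e ψ s)) := by
  classical
  unfold secF
  have h1 : ∀ g : G, (Nat.card C : ℂ)⁻¹ * (∑ a : G × C, if ¬ p ∣ orderOf a.2 ∧
      a.1 * (x * (a.2 : G)) * a.1⁻¹ = g then conj (dpart p x e ψ a.2) else 0) * (χ : G → ℂ) g =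
      (Nat.card C : ℂ)⁻¹ * ∑ a : G × C, if a.1 * (x * (a.2 : G)) * a.1⁻¹ = g then
        (if ¬ p ∣ orderOf a.2 then conj (dpart p x e ψ a.2) * (χ : G → ℂ) (x * (a.2 : G)) else 0)
          else 0 := by
    intro g
    rw [mul_assoc, Finset.sum_mul]
    congr 1
    refine Finset.sum_congr rfl fun a _ => ?_
    by_cases h2 : a.1 * (x * (a.2 : G)) * a.1⁻¹ = g
    · by_cases h3 : p ∣ orderOf a.2
      · simp [h3]
      · rw [if_pos ⟨h3, h2⟩, if_pos h2, if_pos h3, ← h2, irr_isClassFunction χ]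
    · rw [if_neg (fun h => h2 h.2), if_neg h2, zero_mul]
  rw [Finset.sum_congr rfl fun g _ => h1 g, ← Finset.mul_sum, Finset.sum_comm]
  have h2 : ∀ a : G × C, (∑ g : G, if a.1 * (x * (a.2 : G)) * a.1⁻¹ = g then
        (if ¬ p ∣ orderOf a.2 then conj (dpart p x e ψ a.2) * (χ : G → ℂ) (x * (a.2 : G)) else 0)
          else 0) = (χ : G → ℂ) (x * (a.2 : G)) * conj (dpart p x e ψ a.2) := by
    intro a
    rw [Finset.sum_ite_eq, if_pos (Finset.mem_univ _)]
    by_cases h3 : p ∣ orderOf a.2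
    · simp [h3, dpart_of_sing _ h3]
    · rw [if_pos h3]; ring
  rw [Finset.sum_congr rfl fun a _ => h2 a, Fintype.sum_prod_type]
  simp only [Finset.sum_const, Finset.card_univ, nsmul_eq_mul]
  rw [Nat.card_eq_fintype_card (α := G)]
  ring

/-- the central character value attached to a contribution -/
theorem omega_secF (hM : IsPModular p M) {x : G} {e : Set (IrrCharacter C)} (he : IsPBlock M e)
    (χ ψ : IrrCharacter G) : (charDegree (χ : G → ℂ) : ℂ) * omega (χ : G → ℂ)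
      (secF p x e (ψ : G → ℂ)) = (Nat.card G : ℂ) * sc p x e (χ : G → ℂ) (ψ : G → ℂ) := by
  unfold omega
  rw [sum_secF_mul, ← sc_eq_half hM he, charDegree_spec]
  have : (charDegree (χ : G → ℂ) : ℂ) ≠ 0 := by exact_mod_cast (charDegree_pos χ).ne'
  field_simp

end sec

section val

variable {G : Type u} [Group G] [Fintype G] {p : ℕ} [hp : Fact p.Prime] {M : Ideal AlgInt}
variable {C : Subgroup G} [Fintype C] {B : Set (IrrCharacter G)}

variable (p) in
/-- the prime-to-`p` part of the degree -/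
noncomputable def dg' (χ : IrrCharacter G) : ℕ := charDegree (χ : G → ℂ) / p ^ nu p χ

theorem dg'_spec (χ : IrrCharacter G) : p ^ nu p χ * dg' p χ = charDegree (χ : G → ℂ) :=
  Nat.mul_div_cancel' (Nat.ordProj_dvd _ _)

theorem not_dvd_dg' (χ : IrrCharacter G) : ¬ p ∣ dg' p χ :=
  Nat.not_dvd_ordCompl hp.out (charDegree_pos χ).ne'

theorem val_eq (hM : IsPModular p M) {x : G} {e : Set (IrrCharacter C)} (he : IsPBlock M e)
    {χ : IrrCharacter G} (hχ : χ ∈ B) (ψ : IrrCharacter G) :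
    (dg' p χ : ℂ) * (p : ℂ) ^ blockHeight p B (χ : G → ℂ) *
      omega (χ : G → ℂ) (secF p x e (ψ : G → ℂ)) =
    (gp' G p : ℂ) * ((p : ℂ) ^ blockDefect p B * sc p x e (χ : G → ℂ) (ψ : G → ℂ)) := by
  have hp0 : (p : ℂ) ≠ 0 := by exact_mod_cast hp.out.ne_zero
  have h1 := omega_secF hM he (x := x) χ ψ
  have h2 : (charDegree (χ : G → ℂ) : ℂ) = (p : ℂ) ^ nuMin p B *
      (p : ℂ) ^ blockHeight p B (χ : G → ℂ) * (dg' p χ : ℂ) := by
    rw [← dg'_spec (p := p) χ, nu_eq_height_add hχ]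
    push_cast; ring
  have h3 : (Nat.card G : ℂ) = (p : ℂ) ^ nuMin p B * (p : ℂ) ^ blockDefect p B * (gp' G p : ℂ) := by
    rw [← ppow_mul_gp' (G := G) (p := p), ← defect_add_nuMin (p := p) ⟨χ, hχ⟩]
    push_cast; ring
  rw [h2, h3] at h1
  apply mul_left_cancel₀ (pow_ne_zero (nuMin p B) hp0)
  linear_combination h1

theorem omega_secF_int (hM : IsPModular p M) {x : G} (hx : ∃ k : ℕ, orderOf x = p ^ k)
    (hC : C = Subgroup.centralizer ({x} : Set G)) (e : Set (IrrCharacter C))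
    (χ ψ : IrrCharacter G) :
    IsIntegral ℤ (omega (χ : G → ℂ) (secF p x e (ψ : G → ℂ))) :=
  isIntegral_omega χ.2 (secF_class e _) (fun g => secF_integral hM hx hC ψ g)

theorem omega_secF_cong [M.IsPrime] (hM : IsPModular p M) {x : G} (hx : ∃ k : ℕ, orderOf x = p ^ k)
    (hC : C = Subgroup.centralizer ({x} : Set G)) (e : Set (IrrCharacter C))
    (hB : IsPBlock M B) {χ χ' : IrrCharacter G} (hχ : χ ∈ B) (hχ' : χ' ∈ B)
    (ψ : IrrCharacter G) :
    MemLocalIdeal M (omega (χ : G → ℂ) (secF p x e (ψ : G → ℂ))) ↔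
    MemLocalIdeal M (omega (χ' : G → ℂ) (secF p x e (ψ : G → ℂ))) := by
  have h := BlkC.mli_omega_sub (BlkC.sameBlock_of_mem hB hχ hχ') (secF_class (p := p) (x := x) e (ψ : G → ℂ))
    (fun g => mlr_of_isIntegral (secF_integral hM hx hC ψ g))
  constructor
  · intro h1
    have := mli_sub h1 h
    simpa using this
  · intro h1
    have := mli_add h1 h
    simpa using this

theorem not_mli_natCast [M.IsPrime] (hM : IsPModular p M) {n : ℕ} (h : ¬ p ∣ n) :
    ¬ MemLocalIdeal M (n : ℂ) := fun h1 => h ((mli_natCast_iff hM n).mp h1)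

/-- major subsections: the value at height zero characters is a unit -/
theorem omega_secF_unit [M.IsPrime] (hM : IsPModular p M) (hB : IsPBlock M B) {x : G}
    (hx : ∃ k : ℕ, orderOf x = p ^ k)
    (hC : C = Subgroup.centralizer ({x} : Set G)) {e : Set (IrrCharacter C)}
    (hind : IsInducedBlock M C e B) (hd : blockDefect p e = blockDefect p B)
    {χ ψ : IrrCharacter G} (hχ : χ ∈ B) (hψ : ψ ∈ B) (h0 : blockHeight p B (ψ : G → ℂ) = 0) :
    ¬ MemLocalIdeal M (omega (χ : G → ℂ) (secF p x e (ψ : G → ℂ))) := by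
  have hpp : Prime (p : ℤ) := Nat.prime_iff_prime_int.mp hp.out
  rw [omega_secF_cong hM hx hC e hB hχ hψ]
  intro hmem
  have h1 := val_eq hM hind.1 (x := x) hψ ψ
  rw [h0, pow_zero, mul_one] at h1
  have h2 : MemLocalIdeal M ((gp' G p : ℂ) * ((p : ℂ) ^ blockDefect p B *
      sc p x e (ψ : G → ℂ) (ψ : G → ℂ))) := by
    rw [← h1]; exact mli_mul_left (mlr_natCast _) hmem
  have hscint : MemLocalRing M ((p : ℂ) ^ blockDefect p B * sc p x e (ψ : G → ℂ) (ψ : G → ℂ)) := by
    rw [← hd]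
    refine mlr_of_isIntegral ?_
    rw [pow_mul_sc]
    refine IsIntegral.sum _ fun η _ => IsIntegral.sum _ fun η' _ => ?_
    exact ((isIntegral_dco hC ψ η).mul (isIntegral_conj (isIntegral_dco hC ψ η'))).mul
      (isIntegral_int_intCast _)
  rcases mli_or_of_mul (mlr_natCast _) hscint h2 with h3 | h3
  · exact not_mli_natCast hM not_dvd_gp' h3
  · obtain ⟨u, v, hu, hv, huv⟩ := exists_sc_cong hM hx hC hind.1
    have h4 := huv ψ ψ
    rw [hd] at h4
    have h5 : MemLocalIdeal M (((v * (resSum p e ψ * resSum p e ψ) : ℤ) : ℂ)) := by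
      have h6 := mli_sub (mli_mul_left (mlr_intCast u) h3) h4
      simpa using h6
    rw [mli_intCast_iff hM] at h5
    have h6 := BlkF.not_dvd_resSum hM hx hC hind hd hψ h0
    rcases hpp.dvd_or_dvd h5 with h7 | h7
    · exact hv h7
    · rcases hpp.dvd_or_dvd h7 with h8 | h8 <;> exact h6 h8

theorem omega_secF_mem [M.IsPrime] (hM : IsPModular p M) (hB : IsPBlock M B) {x : G}
    (hx : ∃ k : ℕ, orderOf x = p ^ k)
    (hC : C = Subgroup.centralizer ({x} : Set G)) {e : Set (IrrCharacter C)}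
    (hind : IsInducedBlock M C e B)
    {χ ψ : IrrCharacter G} (hχ : χ ∈ B) (hψ : ψ ∈ B) (h0 : blockHeight p B (ψ : G → ℂ) ≠ 0) :
    MemLocalIdeal M (omega (χ : G → ℂ) (secF p x e (ψ : G → ℂ))) := by
  obtain ⟨χ₀, hχ₀, h00⟩ := exists_nuMin (p := p) (block_nonempty hB)
  have hz : blockHeight p B (χ₀ : G → ℂ) = 0 := by rw [height_eq, h00, Nat.sub_self]
  rw [omega_secF_cong hM hx hC e hB hχ hχ₀]
  have h1 := val_eq hM hind.1 (x := x) hχ₀ ψ
  rw [hz, pow_zero, mul_one] at h1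
  have h2 := val_eq hM hind.1 (x := x) hψ χ₀
  have h3 : conj ((dg' p ψ : ℂ) * (p : ℂ) ^ blockHeight p B (ψ : G → ℂ) *
      omega (ψ : G → ℂ) (secF p x e (χ₀ : G → ℂ))) =
      (dg' p χ₀ : ℂ) * omega (χ₀ : G → ℂ) (secF p x e (ψ : G → ℂ)) := by
    rw [h1, h2]
    simp only [map_mul, map_pow, Complex.conj_natCast, sc_conj]
  have h4 : MemLocalIdeal M ((dg' p χ₀ : ℂ) * omega (χ₀ : G → ℂ) (secF p x e (ψ : G → ℂ))) := by
    rw [← h3]
    simp only [map_mul, map_pow, Complex.conj_natCast]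
    rw [mul_right_comm]
    refine mli_mul_left (mlr_mul (mlr_natCast _) (mlr_of_isIntegral (isIntegral_conj
      (omega_secF_int hM hx hC e ψ χ₀)))) ?_
    obtain ⟨n, hn⟩ := Nat.exists_eq_succ_of_ne_zero h0
    rw [hn, pow_succ]
    exact mli_mul_left (mlr_pow (mlr_natCast _) _) ((mli_natCast_iff hM p).mpr dvd_rfl)
  rcases mli_or_of_mul (mlr_natCast _) (mlr_of_isIntegral (omega_secF_int hM hx hC e χ₀ ψ)) h4
    with h5 | h5
  · exact absurd h5 (not_mli_natCast hM (not_dvd_dg' χ₀))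
  · exact h5

/-- **valuations of the contributions of a major subsection** -/
theorem exists_val [M.IsPrime] (hM : IsPModular p M) (hB : IsPBlock M B) {x : G} {j : ℕ}
    (hx : ∃ k : ℕ, k ≤ j + 1 ∧ orderOf x = p ^ k)
    (hC : C = Subgroup.centralizer ({x} : Set G)) {e : Set (IrrCharacter C)}
    (hind : IsInducedBlock M C e B) (hd : blockDefect p e = blockDefect p B) :
    ∃ w : IrrCharacter G → IrrCharacter G → ℂ,
      (∀ χ ∈ B, ∀ ψ : IrrCharacter G, (p : ℂ) ^ blockDefect p B *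
        sc p x e (χ : G → ℂ) (ψ : G → ℂ) = (p : ℂ) ^ blockHeight p B (χ : G → ℂ) * w χ ψ) ∧
      (∀ χ ∈ B, ∀ ψ : IrrCharacter G, w χ ψ ∈ cycRing (p ^ (j + 1))) ∧
      (∀ χ ∈ B, ∀ ψ ∈ B, MemLocalIdeal M (w χ ψ) ↔ blockHeight p B (ψ : G → ℂ) ≠ 0) := by
  obtain ⟨k, hkj, hk⟩ := hx
  have hx' : ∃ k : ℕ, orderOf x = p ^ k := ⟨k, hk⟩
  have hp0 : (p : ℂ) ≠ 0 := by exact_mod_cast hp.out.ne_zero
  have hdiv : orderOf x ∣ p ^ (j + 1) := by rw [hk]; exact pow_dvd_pow _ hkj
  have hdco : ∀ (χ : IrrCharacter G) (η : IrrCharacter C), dco x (χ : G → ℂ) η ∈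
      cycRing (p ^ (j + 1)) := by
    intro χ η
    obtain ⟨ω, hω, h⟩ := exists_dco_eq hC χ η
    rw [h]
    refine Subring.mul_mem _ (Subring.subset_closure ?_) (natCast_mem _ _)
    change ω ^ (p ^ (j + 1)) = 1
    obtain ⟨m, hm⟩ := hdiv
    rw [hm, pow_mul, hω, one_pow]
  have hmem : ∀ χ ψ : IrrCharacter G, (p : ℂ) ^ blockDefect p B *
      sc p x e (χ : G → ℂ) (ψ : G → ℂ) ∈ cycRing (p ^ (j + 1)) := by
    intro χ ψ
    rw [← hd, pow_mul_sc]
    refine Subring.sum_mem _ fun η _ => Subring.sum_mem _ fun η' _ => ?_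
    exact Subring.mul_mem _ (Subring.mul_mem _ (hdco χ η) (cycRing_conj_mem (hdco ψ η')))
      (intCast_mem _ _)
  have hscint : ∀ χ ψ : IrrCharacter G, IsIntegral ℤ ((p : ℂ) ^ blockDefect p B *
      sc p x e (χ : G → ℂ) (ψ : G → ℂ)) := by
    intro χ ψ
    rw [← hd, pow_mul_sc]
    refine IsIntegral.sum _ fun η _ => IsIntegral.sum _ fun η' _ => ?_
    exact ((isIntegral_dco hC χ η).mul (isIntegral_conj (isIntegral_dco hC ψ η'))).mul
      (isIntegral_int_intCast _)
  set w : IrrCharacter G → IrrCharacter G → ℂ := fun χ ψ =>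
    ((p : ℂ) ^ blockHeight p B (χ : G → ℂ))⁻¹ * ((p : ℂ) ^ blockDefect p B *
      sc p x e (χ : G → ℂ) (ψ : G → ℂ)) with hw
  have hph : ∀ χ : IrrCharacter G, ((p : ℂ) ^ blockHeight p B (χ : G → ℂ)) ≠ 0 :=
    fun χ => pow_ne_zero _ hp0
  have hweq : ∀ χ ψ : IrrCharacter G, (p : ℂ) ^ blockDefect p B * sc p x e (χ : G → ℂ) (ψ : G → ℂ) =
        (p : ℂ) ^ blockHeight p B (χ : G → ℂ) * w χ ψ := by
    intro χ ψ
    rw [hw]; exact (mul_inv_cancel_left₀ (hph χ) _).symm
  have hwOm : ∀ χ ∈ B, ∀ ψ : IrrCharacter G, (dg' p χ : ℂ) * omega (χ : G → ℂ) (secF p x e (ψ : G → ℂ)) =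
      (gp' G p : ℂ) * w χ ψ := by
    intro χ hχ ψ
    have h1 := val_eq hM hind.1 (x := x) hχ ψ
    rw [hweq χ ψ] at h1
    apply mul_left_cancel₀ (hph χ)
    linear_combination h1
  have hwint : ∀ χ ∈ B, ∀ ψ : IrrCharacter G, IsIntegral ℤ (w χ ψ) := by
    intro χ hχ ψ
    obtain ⟨a, b, hab⟩ := gp'_coprime (G := G) (p := p) (blockHeight p B (χ : G → ℂ))
    have h1 : w χ ψ = (a : ℂ) * ((p : ℂ) ^ blockDefect p B *
        sc p x e (χ : G → ℂ) (ψ : G → ℂ)) + (b : ℂ) * ((dg' p χ : ℂ) *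
          omega (χ : G → ℂ) (secF p x e (ψ : G → ℂ))) := by
      rw [hwOm χ hχ ψ, hweq χ ψ]
      have h2 : ((a * (p : ℤ) ^ blockHeight p B (χ : G → ℂ) + b * (gp' G p : ℤ) : ℤ) : ℂ) = 1 := by
        rw [hab]; norm_num
      push_cast at h2
      linear_combination (-(w χ ψ)) * h2
    rw [h1]
    exact ((isIntegral_int_intCast a).mul (hscint χ ψ)).add ((isIntegral_int_intCast b).mul
      ((isIntegral_int_natCast _).mul (omega_secF_int hM hx' hC e χ ψ)))
  refine ⟨w, fun χ _ ψ => hweq χ ψ, fun χ hχ ψ => ?_, fun χ hχ ψ hψ => ?_⟩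
  · refine mem_cycRing_of_integral (c := ((p : ℤ) ^ blockHeight p B (χ : G → ℂ)))
      (pow_ne_zero _ (by exact_mod_cast hp.out.ne_zero)) ?_ (hwint χ hχ ψ)
    push_cast
    rw [← hweq]
    exact hmem χ ψ
  · have h1 : MemLocalIdeal M (w χ ψ) ↔
        MemLocalIdeal M (omega (χ : G → ℂ) (secF p x e (ψ : G → ℂ))) := by
      constructor
      · intro h
        have h2 : MemLocalIdeal M ((dg' p χ : ℂ) *
            omega (χ : G → ℂ) (secF p x e (ψ : G → ℂ))) := by
          rw [hwOm χ hχ ψ]; exact mli_mul_left (mlr_natCast _) h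
        rcases mli_or_of_mul (mlr_natCast _) (mlr_of_isIntegral (omega_secF_int hM hx' hC e χ ψ)) h2
          with h5 | h5
        · exact absurd h5 (not_mli_natCast hM (not_dvd_dg' χ))
        · exact h5
      · intro h
        have h2 : MemLocalIdeal M ((gp' G p : ℂ) * w χ ψ) := by
          rw [← hwOm χ hχ ψ]; exact mli_mul_left (mlr_natCast _) h
        rcases mli_or_of_mul (mlr_natCast _) (mlr_of_isIntegral (hwint χ hχ ψ)) h2 with h5 | h5
        · exact absurd h5 (not_mli_natCast hM not_dvd_gp')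
        · exact h5
    rw [h1]
    constructor
    · intro h h0
      exact omega_secF_unit hM hB hx' hC hind hd hχ hψ h0 h
    · intro h0
      exact omega_secF_mem hM hB hx' hC hind hχ hψ h0

end val

end Cfsg.Agent.H4
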