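import Cfsg.Agent.H4.LatBasis
import Cfsg.Agent.H4.ScVal

/-!
# Basic sets for subsections (owner: helper4)
-/

set_option autoImplicit false
set_option linter.style.haveILetI false
set_option linter.unusedSectionVars false

namespace Cfsg.Agent.H4

open scoped ComplexConjugate BigOperators
open Cfsg Cfsg.Agent.CharBase Cfsg.Agent.Blk Cfsg.Agent.BlkInd Cfsg.Agent.BlkC

universe u

theorem sum3_comm {ι ι' κ : Type*} [Fintype ι] [Fintype ι'] (s : Finset κ) (f : ι → ι' → κ → ℂ) :
    ∑ i, ∑ k, ∑ x ∈ s, f i k x = ∑ x ∈ s, ∑ i, ∑ k, f i k x := by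
  calc ∑ i, ∑ k, ∑ x ∈ s, f i k x = ∑ i, ∑ x ∈ s, ∑ k, f i k x :=
        Finset.sum_congr rfl fun i _ => Finset.sum_comm
    _ = _ := Finset.sum_comm

theorem eq_of_kernel_eq {X : Type*} [Fintype X] {n : ℕ} {φ : Fin n → X → ℂ}
    (hφ : LinearIndependent ℂ φ) {E E' : Fin n → Fin n → ℂ}
    (h : ∀ s t : X, ∑ i, ∑ k, E i k * (φ i s * conj (φ k t)) =
      ∑ i, ∑ k, E' i k * (φ i s * conj (φ k t))) (i k : Fin n) : E i k = E' i k := by
  classical
  have hli := Fintype.linearIndependent_iff.mp hφ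
  have h1 : ∀ t : X, ∀ i, ∑ k, (E i k - E' i k) * conj (φ k t) = 0 := by
    intro t
    refine hli _ ?_
    funext s
    have h2 := sub_eq_zero.mpr (h s t)
    rw [← Finset.sum_sub_distrib] at h2
    rw [Pi.zero_apply, ← h2, Finset.sum_apply]
    refine Finset.sum_congr rfl fun i _ => ?_
    rw [Pi.smul_apply, smul_eq_mul, Finset.sum_mul, ← Finset.sum_sub_distrib]
    exact Finset.sum_congr rfl fun k _ => by ring
  have h3 : ∀ k, conj (E i k - E' i k) = 0 := by
    refine hli _ ?_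
    funext t
    have h4 := congrArg conj (h1 t i)
    rw [map_sum, map_zero] at h4
    rw [Pi.zero_apply, ← h4, Finset.sum_apply]
    refine Finset.sum_congr rfl fun k _ => ?_
    rw [Pi.smul_apply, smul_eq_mul, map_mul, Complex.conj_conj]
  have h5 := h3 k
  rw [map_eq_zero] at h5
  exact sub_eq_zero.mp h5

section sec

variable {G : Type u} [Group G] [Fintype G] {p : ℕ} [hp : Fact p.Prime] {M : Ideal AlgInt}
variable {C : Subgroup G} [Fintype C]

theorem hf_reg (η θ : C → ℂ) : hf (pRegularPart p η) (pRegularPart p θ) =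
    (Nat.card C : ℂ) * regInner p η θ := by
  have hCc : (Nat.card C : ℂ) ≠ 0 := by exact_mod_cast Nat.card_pos.ne'
  rw [← classInner_pRegularPart_both]
  unfold hf classInner
  rw [mul_inv_cancel_left₀ hCc]

theorem dpart_eq_sum' (x : G) (e : Set (IrrCharacter C)) (χ : G → ℂ) :
    dpart p x e χ = ∑ η ∈ Bfin e, dco x χ η • pRegularPart p (η : C → ℂ) := by
  funext y
  rw [Finset.sum_apply]
  by_cases hy : p ∣ orderOf y
  · rw [dpart_of_sing _ hy]
    symm
    refine Finset.sum_eq_zero fun η _ => ?_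
    rw [Pi.smul_apply, pRegularPart_apply_of_sing hy, smul_zero]
  · rw [dpart_eq_sum x e χ hy]
    refine Finset.sum_congr rfl fun η _ => ?_
    rw [Pi.smul_apply, pRegularPart_apply_of_reg hy, smul_eq_mul]

theorem sc_eq_hf (x : G) (e : Set (IrrCharacter C)) (χ ψ : G → ℂ) :
    sc p x e χ ψ = (Nat.card C : ℂ)⁻¹ * hf (dpart p x e χ) (dpart p x e ψ) := rfl

theorem exists_secBasis (hM : IsPModular p M) {x : G} {j : ℕ}
    (hx : ∃ k : ℕ, k ≤ j + 1 ∧ orderOf x = p ^ k)
    (hC : C = Subgroup.centralizer ({x} : Set G)) {e : Set (IrrCharacter C)}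
    {B : Set (IrrCharacter G)} (hind : IsInducedBlock M C e B) :
    ∃ (n : ℕ) (d : IrrCharacter G → Fin n → ℂ) (c g : Fin n → Fin n → ℤ) (r : Fin n → ℤ)
      (u v : ℤ), n = blockRank p e ∧ (∀ χ i, d χ i ∈ cycRing (p ^ (j + 1))) ∧
      (∀ i k, ∑ χ ∈ Bfin B, d χ i * conj (d χ k) = (c i k : ℂ)) ∧
      (∀ χ ψ : IrrCharacter G, (p : ℂ) ^ blockDefect p e * sc p x e (χ : G → ℂ) (ψ : G → ℂ) =
        ∑ i, ∑ k, (g i k : ℂ) * (d χ i * conj (d ψ k))) ∧
      (∀ i k, ∑ l, g i l * c l k = if i = k then (p : ℤ) ^ blockDefect p e else 0) ∧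
      (∀ i k, c i k = c k i) ∧ (∀ i k, g i k = g k i) ∧ ¬ (p : ℤ) ∣ u ∧ ¬ (p : ℤ) ∣ v ∧
      (∀ i k, (p : ℤ) ∣ u * g i k - v * (r i * r k)) := by
  classical
  haveI := isPrime_of_isPModular hM
  have hCc : (Nat.card C : ℂ) ≠ 0 := by exact_mod_cast Nat.card_pos.ne'
  obtain ⟨k, hkj, hk⟩ := hx
  have hx' : ∃ k : ℕ, orderOf x = p ^ k := ⟨k, hk⟩
  have hp0 : (p : ℂ) ≠ 0 := by exact_mod_cast hp.out.ne_zero
  have hdiv : orderOf x ∣ p ^ (j + 1) := by rw [hk]; exact pow_dvd_pow _ hkj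
  have he := hind.1
  have hdco : ∀ (χ : IrrCharacter G) (η : IrrCharacter C), dco x (χ : G → ℂ) η ∈
      cycRing (p ^ (j + 1)) := by
    intro χ η
    obtain ⟨ω, hω, h⟩ := exists_dco_eq hC χ η
    rw [h]
    refine Subring.mul_mem _ (Subring.subset_closure ?_) (natCast_mem _ _)
    change ω ^ (p ^ (j + 1)) = 1
    obtain ⟨m, hm⟩ := hdiv
    rw [hm, pow_mul, hω, one_pow]
  set q := blockDefect p e with hq
  set F : IrrCharacter C → C → ℂ := fun η => pRegularPart p (η : C → ℂ) with hF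
  have hpq : (p : ℂ) ^ q ≠ 0 := pow_ne_zero _ hp0
  have hgram : ∀ η ∈ Bfin e, ∀ θ, (p : ℂ) ^ q * hf (F η) (F θ) =
      (Nat.card C : ℂ) * (contrib p e η θ : ℂ) := by
    intro η hη θ
    rw [hF, hf_reg, ← contrib_regInner (mem_Bfin.mp hη) θ]
    ring
  obtain ⟨n, φ, α, y, hφ, hα, hy, hn⟩ := exists_lattice_basis (Bfin e) F (by
    intro η hη θ _
    refine ⟨(Nat.card C : ℚ) * (contrib p e η θ : ℚ) / (p : ℚ) ^ q, ?_⟩
    have h1 := hgram η hη θ
    push_cast
    rw [eq_div_iff hpq, mul_comm, h1])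
  have hnrank : n = blockRank p e := by
    have hcoe : ((Bfin e : Finset (IrrCharacter C)) : Set (IrrCharacter C)) = e :=
      Set.Finite.coe_toFinset _
    rw [hn, hcoe]
    rfl
  set d : IrrCharacter G → Fin n → ℂ := fun χ i => ∑ η ∈ Bfin e, dco x (χ : G → ℂ) η * (α η i : ℂ)
    with hd
  have hdp : ∀ χ : IrrCharacter G, dpart p x e (χ : G → ℂ) = ∑ i, d χ i • φ i := by
    intro χ
    rw [dpart_eq_sum']
    have h1 : ∀ η ∈ Bfin e, dco x (χ : G → ℂ) η • pRegularPart p (η : C → ℂ) =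
        ∑ i, (dco x (χ : G → ℂ) η * (α η i : ℂ)) • φ i := by
      intro η hη
      have := hα η hη
      simp only [hF] at this
      rw [this, Finset.smul_sum]
      exact Finset.sum_congr rfl fun i _ => by rw [smul_smul]
    rw [Finset.sum_congr rfl h1, Finset.sum_comm]
    refine Finset.sum_congr rfl fun i _ => ?_
    rw [hd, Finset.sum_smul]
  -- the kernel
  have hker : ∀ s t : C, ∑ χ ∈ Bfin B, dpart p x e (χ : G → ℂ) s * conj (dpart p x e (χ : G → ℂ) t) =
      ∑ η ∈ Bfin e, F η s * conj (F η t) := by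
    intro s t
    by_cases hs : p ∣ orderOf s
    · rw [Finset.sum_eq_zero fun χ _ => by rw [dpart_of_sing _ hs, zero_mul],
        Finset.sum_eq_zero fun η _ => by simp only [hF]; rw [pRegularPart_apply_of_sing hs, zero_mul]]
    by_cases ht : p ∣ orderOf t
    · rw [Finset.sum_eq_zero fun χ _ => by rw [dpart_of_sing _ ht, map_zero, mul_zero],
        Finset.sum_eq_zero fun η _ => by
          simp only [hF]; rw [pRegularPart_apply_of_sing ht, map_zero, mul_zero]]
    rw [sum_dpart_mul_conj_block hM hx' hC hind hs ht, blockKernel_eq_Bfin]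
    refine Finset.sum_congr rfl fun η _ => ?_
    simp only [hF]
    rw [pRegularPart_apply_of_reg hs, pRegularPart_apply_of_reg ht]
  set c : Fin n → Fin n → ℤ := fun i k => ∑ η ∈ Bfin e, α η i * α η k with hc
  have hC1 : ∀ i k, ∑ χ ∈ Bfin B, d χ i * conj (d χ k) = (c i k : ℂ) := by
    refine eq_of_kernel_eq (E := fun i k => ∑ χ ∈ Bfin B, d χ i * conj (d χ k))
      (E' := fun i k => (c i k : ℂ)) hφ fun s t => ?_
    have h1 : ∑ i, ∑ k, (∑ χ ∈ Bfin B, d χ i * conj (d χ k)) * (φ i s * conj (φ k t)) =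
        ∑ χ ∈ Bfin B, dpart p x e (χ : G → ℂ) s * conj (dpart p x e (χ : G → ℂ) t) := by
      simp only [hdp, Finset.sum_apply, Pi.smul_apply, smul_eq_mul, map_sum, map_mul,
        Finset.sum_mul_sum]
      rw [← sum3_comm]
      refine Finset.sum_congr rfl fun i _ => Finset.sum_congr rfl fun k _ => ?_
      rw [Finset.sum_mul]
      exact Finset.sum_congr rfl fun χ _ => by ring
    have h2 : ∑ i, ∑ k, (c i k : ℂ) * (φ i s * conj (φ k t)) = ∑ η ∈ Bfin e, F η s * conj (F η t) := by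
      have h3 : ∀ η ∈ Bfin e, F η s * conj (F η t) =
          ∑ i, ∑ k, ((α η i : ℂ) * φ i s) * (conj ((α η k : ℂ) * φ k t)) := by
        intro η hη
        rw [← Finset.sum_mul_sum, ← map_sum]
        have h4 := congrFun (hα η hη) s
        have h5 := congrFun (hα η hη) t
        simp only [Finset.sum_apply, Pi.smul_apply, smul_eq_mul] at h4 h5
        rw [h4, h5]
      rw [Finset.sum_congr rfl h3, ← sum3_comm]
      refine Finset.sum_congr rfl fun i _ => Finset.sum_congr rfl fun k _ => ?_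
      simp only [hc]
      push_cast
      rw [Finset.sum_mul]
      refine Finset.sum_congr rfl fun η _ => ?_
      rw [map_mul, map_intCast]; ring
    rw [h1, h2, hker]
  set g : Fin n → Fin n → ℤ := fun i k => ∑ η ∈ Bfin e, ∑ θ ∈ Bfin e,
    y i η * y k θ * contrib p e η θ with hg
  have hphi : ∀ i k, (p : ℂ) ^ q * ((Nat.card C : ℂ)⁻¹ * hf (φ i) (φ k)) = (g i k : ℂ) := by
    intro i k
    rw [hy i, hf_sum_left]
    simp only [hg]
    push_cast
    rw [Finset.mul_sum, Finset.mul_sum]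
    refine Finset.sum_congr rfl fun η hη => ?_
    rw [hy k, hf_sum_right]
    rw [Finset.mul_sum, Finset.mul_sum, Finset.mul_sum]
    refine Finset.sum_congr rfl fun θ _ => ?_
    rw [map_intCast]
    have h1 := hgram η hη θ
    calc (p : ℂ) ^ q * ((Nat.card C : ℂ)⁻¹ * ((y i η : ℂ) * ((y k θ : ℂ) * hf (F η) (F θ)))) =
          (y i η : ℂ) * (y k θ : ℂ) * ((Nat.card C : ℂ)⁻¹ * ((p : ℂ) ^ q * hf (F η) (F θ))) := by ring
      _ = _ := by rw [h1, inv_mul_cancel_left₀ hCc]
  have hsc : ∀ χ ψ : IrrCharacter G, (p : ℂ) ^ q * sc p x e (χ : G → ℂ) (ψ : G → ℂ) =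
        ∑ i, ∑ k, (g i k : ℂ) * (d χ i * conj (d ψ k)) := by
    intro χ ψ
    rw [sc_eq_hf, hdp χ, hdp ψ, hf_sum_left]
    rw [Finset.mul_sum, Finset.mul_sum]
    refine Finset.sum_congr rfl fun i _ => ?_
    rw [hf_sum_right, Finset.mul_sum, Finset.mul_sum, Finset.mul_sum]
    refine Finset.sum_congr rfl fun k _ => ?_
    rw [← hphi]; ring
  -- reproducing property
  have hrep : ∀ m, ∑ η ∈ Bfin e, ((Nat.card C : ℂ)⁻¹ * hf (φ m) (F η)) • F η = φ m := by
    intro m
    have h1 : ∀ θ ∈ Bfin e, ∑ η ∈ Bfin e, ((Nat.card C : ℂ)⁻¹ * hf (F θ) (F η)) • F η = F θ := by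
      intro θ hθ
      funext t
      simp only [Finset.sum_apply, Pi.smul_apply, smul_eq_mul]
      by_cases ht : p ∣ orderOf t
      · simp only [hF]
        rw [pRegularPart_apply_of_sing ht]
        exact Finset.sum_eq_zero fun η _ => by rw [pRegularPart_apply_of_sing ht, mul_zero]
      · have h2 := sum_regular_blockKernel_mul hM he ht θ
        rw [if_pos (mem_Bfin.mp hθ)] at h2
        have h3 : F θ t = (Nat.card C : ℂ)⁻¹ * ((Nat.card C : ℂ) * (θ : C → ℂ) t) := by
          rw [inv_mul_cancel_left₀ hCc]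
          simp only [hF]; rw [pRegularPart_apply_of_reg ht]
        rw [h3, ← h2]
        simp only [mul_assoc]
        rw [← Finset.mul_sum]
        congr 1
        unfold hf
        simp only [Finset.sum_mul]
        rw [Finset.sum_comm]
        refine Finset.sum_congr rfl fun s _ => ?_
        by_cases hs : p ∣ orderOf s
        · rw [if_pos hs]
          refine Finset.sum_eq_zero fun η _ => ?_
          simp only [hF]; rw [pRegularPart_apply_of_sing hs, zero_mul, zero_mul]
        · rw [if_neg hs, blockKernel_eq_Bfin, Finset.sum_mul]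
          refine Finset.sum_congr rfl fun η _ => ?_
          simp only [hF]
          rw [pRegularPart_apply_of_reg hs, pRegularPart_apply_of_reg hs, pRegularPart_apply_of_reg ht]
          ring
    have h4 : ∑ η ∈ Bfin e, ((Nat.card C : ℂ)⁻¹ * hf (φ m) (F η)) • F η =
        ∑ θ ∈ Bfin e, (y m θ : ℂ) • ∑ η ∈ Bfin e, ((Nat.card C : ℂ)⁻¹ * hf (F θ) (F η)) • F η := by
      simp only [Finset.smul_sum]
      rw [Finset.sum_comm]
      refine Finset.sum_congr rfl fun η _ => ?_
      rw [hy m, hf_sum_left, Finset.mul_sum, Finset.sum_smul]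
      refine Finset.sum_congr rfl fun θ _ => ?_
      rw [smul_smul]; congr 1; ring
    rw [h4, hy m]
    exact Finset.sum_congr rfl fun θ hθ => by rw [h1 θ hθ]
  have hcoord : ∀ m k, ∑ η ∈ Bfin e, ((Nat.card C : ℂ)⁻¹ * hf (φ m) (F η)) * (α η k : ℂ) =
      if m = k then 1 else 0 := by
    intro m
    have hli := Fintype.linearIndependent_iff.mp hφ
    have h1 : ∀ k, (∑ η ∈ Bfin e, ((Nat.card C : ℂ)⁻¹ * hf (φ m) (F η)) * (α η k : ℂ)) -
        (if m = k then 1 else 0) = 0 := by
      refine hli _ ?_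
      simp only [sub_smul, Finset.sum_sub_distrib, ite_smul, one_smul, zero_smul,
        Finset.sum_ite_eq, Finset.mem_univ, if_true]
      rw [sub_eq_zero]
      refine Eq.trans ?_ (hrep m)
      simp only [Finset.sum_smul]
      rw [Finset.sum_comm]
      refine Finset.sum_congr rfl fun η hη => ?_
      have h5 := congrArg (fun f => ((Nat.card C : ℂ)⁻¹ * hf (φ m) (F η)) • f) (hα η hη)
      refine Eq.trans ?_ h5.symm
      simp only [Finset.smul_sum, smul_smul]
    exact fun k => sub_eq_zero.mp (h1 k)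
  have hgc : ∀ i k, ∑ l, g i l * c l k = if i = k then (p : ℤ) ^ q else 0 := by
    intro i k
    have h1 : ((∑ l, g i l * c l k : ℤ) : ℂ) = ((if i = k then (p : ℤ) ^ q else 0 : ℤ) : ℂ) := by
      have h2 := congrArg (fun z => (p : ℂ) ^ q * z) (hcoord i k)
      simp only [mul_ite, mul_one, mul_zero] at h2
      push_cast
      rw [← h2, Finset.mul_sum]
      simp only [hc, Int.cast_sum, Int.cast_mul]
      simp only [Finset.mul_sum]
      rw [Finset.sum_comm]
      refine Finset.sum_congr rfl fun η hη => ?_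
      have h3 : hf (φ i) (F η) = ∑ l, (α η l : ℂ) * hf (φ i) (φ l) := by
        rw [hα η hη, hf_sum_right]
        exact Finset.sum_congr rfl fun l _ => by rw [map_intCast]
      rw [h3, Finset.mul_sum, Finset.sum_mul, Finset.mul_sum]
      refine Finset.sum_congr rfl fun l _ => ?_
      rw [← hphi]; ring
    exact_mod_cast h1
  obtain ⟨u, v, hu, hv, huv⟩ := contrib_cong (p := p) hM he
  refine ⟨n, d, c, g, fun i => ∑ η ∈ Bfin e, y i η * (mdeg p e η : ℤ), u, v, hnrank, ?_, hC1, hsc,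
    hgc, ?_, ?_, hu, hv, ?_⟩
  · intro χ i
    exact Subring.sum_mem _ fun η _ => Subring.mul_mem _ (hdco χ η) (intCast_mem _ _)
  · intro i k
    simp only [hc]
    exact Finset.sum_congr rfl fun η _ => mul_comm _ _
  · intro i k
    simp only [hg]
    rw [Finset.sum_comm]
    refine Finset.sum_congr rfl fun η hη => Finset.sum_congr rfl fun θ hθ => ?_
    rw [contrib_comm (mem_Bfin.mp hη) (mem_Bfin.mp hθ)]; ring
  · intro i k
    have h1 : u * g i k - v * ((∑ η ∈ Bfin e, y i η * (mdeg p e η : ℤ)) *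
        (∑ η ∈ Bfin e, y k η * (mdeg p e η : ℤ))) = ∑ η ∈ Bfin e, ∑ θ ∈ Bfin e,
          y i η * y k θ * (u * contrib p e η θ - v * ((mdeg p e η : ℤ) * (mdeg p e θ : ℤ))) := by
      simp only [hg]
      rw [Finset.sum_mul_sum, Finset.mul_sum, Finset.mul_sum, ← Finset.sum_sub_distrib]
      refine Finset.sum_congr rfl fun η _ => ?_
      rw [Finset.mul_sum, Finset.mul_sum, ← Finset.sum_sub_distrib]
      exact Finset.sum_congr rfl fun θ _ => by ring
    rw [h1]
    refine Finset.dvd_sum fun η hη => Finset.dvd_sum fun θ hθ => ?_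
    exact Dvd.dvd.mul_left (huv η (mem_Bfin.mp hη) θ (mem_Bfin.mp hθ)) _

end sec

end Cfsg.Agent.H4
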