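import Cfsg.Agent.BlkInd.RankQuot
import Cfsg.Agent.H4.GenChar
import Cfsg.Agent.H4.SecBasis
import Cfsg.Agent.BlkF.DefZero
import Cfsg.Agent.S4434

/-!
# Blocks of central quotients (owner: helper4)
-/

set_option autoImplicit false
set_option linter.style.haveILetI false
set_option linter.unusedSectionVars false

namespace Cfsg.Agent.H4

open scoped ComplexConjugate BigOperators
open Cfsg Cfsg.Agent.CharBase Cfsg.Agent.Blk Cfsg.Agent.BlkInd Cfsg.Agent.BlkC

universe u

section dom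

variable {H : Type u} [Group H] [Fintype H] {M : Ideal AlgInt} [M.IsPrime] {p : ℕ}
variable [hp : Fact p.Prime] {Q : Subgroup H} [Q.Normal] {b : Set (IrrCharacter H)}

/-- the characters of the quotient that inflate into `b` -/
def dom (Q : Subgroup H) [Q.Normal] (b : Set (IrrCharacter H)) : Set (IrrCharacter (H ⧸ Q)) :=
  {ψ | inflI ψ ∈ b}

theorem mem_dom {ψ : IrrCharacter (H ⧸ Q)} : ψ ∈ dom Q b ↔ inflI ψ ∈ b := Iff.rfl

theorem sup_top_of_central (hQc : Q ≤ Subgroup.center H) :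
    Q ⊔ Subgroup.centralizer (Q : Set H) = ⊤ := by
  have h : Subgroup.centralizer (Q : Set H) = ⊤ := by
    rw [eq_top_iff]
    intro g _
    rw [Subgroup.mem_centralizer_iff]
    intro q hq
    exact ((Subgroup.mem_center_iff.mp (hQc hq)) g).symm
  rw [h, sup_top_eq]

open Classical in
/-- cutting an identity between functions on regular elements by a block -/
theorem cut_block (hM : IsPModular p M) (hb : IsPBlock M b) [Fintype (IrrCharacter H)] {ι : Type*}
    [Fintype ι] (f : ι → IrrCharacter H) (n : ι → ℂ) (w : IrrCharacter H → ℂ)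
    (h : ∀ g : H, ¬ p ∣ orderOf g → ∑ η : IrrCharacter H, w η * (η : H → ℂ) g =
      ∑ i, n i * (f i : H → ℂ) g) {g : H} (hg : ¬ p ∣ orderOf g) :
    ∑ η ∈ Bfin b, w η * (η : H → ℂ) g =
      ∑ i ∈ Finset.univ.filter (fun i => f i ∈ b), n i * (f i : H → ℂ) g := by
  classical
  have hH : (Nat.card H : ℂ) ≠ 0 := by exact_mod_cast Nat.card_pos.ne'
  apply mul_left_cancel₀ hH
  have h1 : ∑ s : H, (if p ∣ orderOf s then 0 else blockKernel b g s *
      ∑ η : IrrCharacter H, w η * (η : H → ℂ) s) =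
      ∑ s : H, (if p ∣ orderOf s then 0 else blockKernel b g s *
        ∑ i, n i * (f i : H → ℂ) s) := by
    refine Finset.sum_congr rfl fun s _ => ?_
    by_cases hs : p ∣ orderOf s
    · rw [if_pos hs, if_pos hs]
    · rw [if_neg hs, if_neg hs, h s hs]
  have h2 : ∀ {κ : Type u} (S : Finset κ) (v : κ → ℂ) (F : κ → IrrCharacter H),
      ∑ s : H, (if p ∣ orderOf s then 0 else blockKernel b g s *
        ∑ i ∈ S, v i * (F i : H → ℂ) s) =
      ∑ i ∈ S, v i * (if F i ∈ b then (Nat.card H : ℂ) * (F i : H → ℂ) g else 0) := by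
    intro κ S v F
    have h3 : ∀ s : H, (if p ∣ orderOf s then 0 else blockKernel b g s *
        ∑ i ∈ S, v i * (F i : H → ℂ) s) = ∑ i ∈ S, v i * (if p ∣ orderOf s then 0 else
          blockKernel b g s * (F i : H → ℂ) s) := by
      intro s
      by_cases hs : p ∣ orderOf s
      · simp [hs]
      · simp only [if_neg hs]
        rw [Finset.mul_sum]
        exact Finset.sum_congr rfl fun i _ => by ring
    rw [Finset.sum_congr rfl fun s _ => h3 s, Finset.sum_comm]
    refine Finset.sum_congr rfl fun i _ => ?_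
    rw [← Finset.mul_sum, sum_regular_blockKernel_mul hM hb hg]
  have h4 : ∑ s : H, (if p ∣ orderOf s then 0 else blockKernel b g s *
        ∑ i, n i * (f i : H → ℂ) s) =
      ∑ i, n i * (if f i ∈ b then (Nat.card H : ℂ) * (f i : H → ℂ) g else 0) := by
    have h3 : ∀ s : H, (if p ∣ orderOf s then 0 else blockKernel b g s *
        ∑ i, n i * (f i : H → ℂ) s) = ∑ i, n i * (if p ∣ orderOf s then 0 else
          blockKernel b g s * (f i : H → ℂ) s) := by
      intro s
      by_cases hs : p ∣ orderOf s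
      · simp [hs]
      · simp only [if_neg hs]
        rw [Finset.mul_sum]
        exact Finset.sum_congr rfl fun i _ => by ring
    rw [Finset.sum_congr rfl fun s _ => h3 s, Finset.sum_comm]
    refine Finset.sum_congr rfl fun i _ => ?_
    rw [← Finset.mul_sum, sum_regular_blockKernel_mul hM hb hg]
  rw [h2 Finset.univ w (fun η => η), h4] at h1
  have h5 : ∑ η : IrrCharacter H, w η * (if η ∈ b then (Nat.card H : ℂ) * (η : H → ℂ) g else 0) =
      (Nat.card H : ℂ) * ∑ η ∈ Bfin b, w η * (η : H → ℂ) g := by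
    rw [Finset.mul_sum, ← Finset.sum_subset (Finset.subset_univ (Bfin b))]
    · refine Finset.sum_congr rfl fun η hη => ?_
      rw [if_pos (mem_Bfin.mp hη)]; ring
    · intro η _ hη
      rw [if_neg (fun h => hη (mem_Bfin.mpr h)), mul_zero]
  rw [← h5, h1, Finset.sum_filter, Finset.mul_sum]
  refine Finset.sum_congr rfl fun i _ => ?_
  by_cases hi : f i ∈ b
  · rw [if_pos hi, if_pos hi]; ring
  · rw [if_neg hi, if_neg hi]; simp

variable [Fintype (H ⧸ Q)]

theorem filter_dom [Fintype (IrrCharacter (H ⧸ Q))] [DecidablePred fun ψ : IrrCharacter (H ⧸ Q) => inflI ψ ∈ b] :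
    Finset.univ.filter (fun ψ : IrrCharacter (H ⧸ Q) => inflI ψ ∈ b) = Bfin (dom Q b) := by
  ext ψ
  rw [Finset.mem_filter, mem_Bfin, mem_dom]
  simp

/-- members of `b` are integral combinations of inflated characters on regular elements -/
theorem exists_int_expand (hM : IsPModular p M) (hQ : IsPGroup p Q)
    (hQc : Q ≤ Subgroup.center H) (hb : IsPBlock M b) {η : IrrCharacter H} (hη : η ∈ b) :
    ∃ n : IrrCharacter (H ⧸ Q) → ℤ, ∀ g : H, ¬ p ∣ orderOf g →
      (η : H → ℂ) g = ∑ ψ ∈ Bfin (dom Q b), (n ψ : ℂ) * (ψ : H ⧸ Q → ℂ) (QuotientGroup.mk g) := by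
  classical
  haveI := Fintype.ofFinite (IrrCharacter H)
  haveI := Fintype.ofFinite (IrrCharacter (H ⧸ Q))
  obtain ⟨m, hm, hm0, hmg⟩ := (exists_powCond (G := H) p).2
  have hgc : IsGeneralizedCharacter H (fun g => (η : H → ℂ) (g ^ m)) := by
    refine isGC_pow ?_ hm
    rw [isGeneralizedCharacter_iff]
    refine ⟨irr_isClassFunction η, fun χ => ?_⟩
    by_cases h : η = χ
    · exact ⟨1, by rw [h, classInner_irr_self]; simp⟩
    · exact ⟨0, by rw [classInner_irr_of_ne h]; simp⟩
  set θ : H → ℂ := fun g => (η : H → ℂ) (g ^ m) with hθ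
  have hconst : ∀ (g : H) (q : H), q ∈ Q → θ (g * q) = θ g := by
    intro g q hq
    have h1 : q ^ m = 1 := by
      rw [← orderOf_dvd_iff_pow_eq_one]
      have h2 : orderOf q ∣ Nat.card Q := by
        have := orderOf_dvd_natCard (⟨q, hq⟩ : Q)
        rwa [← Subgroup.orderOf_coe] at this
      obtain ⟨k, hk⟩ := (IsPGroup.iff_orderOf.mp hQ) ⟨q, hq⟩
      have hk' : orderOf q = p ^ k := by rw [← hk, ← Subgroup.orderOf_coe]
      refine dvd_trans ?_ hm0
      rw [hk']
      apply pow_dvd_pow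
      rw [← hp.out.pow_dvd_iff_le_factorization Nat.card_pos.ne', ← hk']
      exact orderOf_dvd_natCard q
    have h2 : (g * q) ^ m = g ^ m * q ^ m := by
      have h3 : Commute g q := ((Subgroup.mem_center_iff.mp (hQc hq)) g)
      exact h3.mul_pow m
    simp only [hθ]
    rw [h2, h1, mul_one]
  set θ' : H ⧸ Q → ℂ := fun y => θ (Quotient.out y) with hθ'
  have hmk : ∀ g : H, θ' (QuotientGroup.mk g) = θ g := by
    intro g
    obtain ⟨q, hq⟩ := QuotientGroup.mk_out_eq_mul Q g
    simp only [hθ']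
    change θ (Quotient.out (QuotientGroup.mk g : H ⧸ Q)) = θ g
    rw [hq]
    exact hconst g q q.2
  have hcl : IsClassFunction (H ⧸ Q) θ' := by
    intro y x
    obtain ⟨g, rfl⟩ := QuotientGroup.mk_surjective y
    obtain ⟨a, rfl⟩ := QuotientGroup.mk_surjective x
    have h1 : (QuotientGroup.mk a : H ⧸ Q) * QuotientGroup.mk g * (QuotientGroup.mk a)⁻¹ =
        QuotientGroup.mk (a * g * a⁻¹) := rfl
    rw [h1, hmk, hmk]
    exact (isGeneralizedCharacter_iff.mp hgc).1 g a
  have hint : ∀ ψ : IrrCharacter (H ⧸ Q), ∃ n : ℤ, classInner θ' (ψ : H ⧸ Q → ℂ) = n := by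
    intro ψ
    obtain ⟨n, hn⟩ := (isGeneralizedCharacter_iff.mp hgc).2 (inflI ψ)
    refine ⟨n, ?_⟩
    rw [← hn, ← BlkF.classInner_comp_surj (QuotientGroup.mk' Q) (QuotientGroup.mk'_surjective Q)]
    congr 1
    funext g
    exact hmk g
  choose n hn using hint
  refine ⟨n, fun g hg => ?_⟩
  have hall : ∀ g : H, ¬ p ∣ orderOf g → ∑ η' : IrrCharacter H, (if η' = η then 1 else 0) * (η' : H → ℂ) g =
      ∑ ψ : IrrCharacter (H ⧸ Q), (n ψ : ℂ) * ((inflI ψ : IrrCharacter H) : H → ℂ) g := by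
    intro g hg
    have h1 : (η : H → ℂ) g = θ' (QuotientGroup.mk g) := by
      rw [hmk]; simp only [hθ]; rw [hmg g hg]
    have h2 := congrFun (classFun_eq_sum hcl) (QuotientGroup.mk g)
    rw [Finset.sum_apply] at h2
    simp only [Pi.smul_apply, smul_eq_mul, hn] at h2
    simp only [ite_mul, one_mul, zero_mul, Finset.sum_ite_eq', Finset.mem_univ, if_true]
    rw [h1, h2]
    rfl
  have h3 := cut_block hM hb (fun ψ : IrrCharacter (H ⧸ Q) => inflI ψ) (fun ψ => (n ψ : ℂ))
    (fun η' => if η' = η then 1 else 0) hall hg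
  rw [filter_dom] at h3
  simp only [ite_mul, one_mul, zero_mul] at h3
  rw [Finset.sum_ite_eq', if_pos (mem_Bfin.mpr hη)] at h3
  exact h3

theorem card_centralizer_mk (hQ : IsPGroup p Q) (hQc : Q ≤ Subgroup.center H) {g : H}
    (hg : ¬ p ∣ orderOf g) : Nat.card (Subgroup.centralizer ({g} : Set H)) =
      Nat.card Q * Nat.card (Subgroup.centralizer ({(QuotientGroup.mk g : H ⧸ Q)} : Set (H ⧸ Q))) := by
  have h1 := index_centralizer_mk hQ (sup_top_of_central hQc) hg
  have h2 := Subgroup.card_mul_index (Subgroup.centralizer ({g} : Set H))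
  have h3 := Subgroup.card_mul_index (Subgroup.centralizer ({(QuotientGroup.mk g : H ⧸ Q)} : Set (H ⧸ Q)))
  have h4 := Subgroup.card_eq_card_quotient_mul_card_subgroup Q
  have h5 : 0 < (Subgroup.centralizer ({g} : Set H)).index :=
    Nat.pos_of_ne_zero Subgroup.index_ne_zero_of_finite
  apply Nat.eq_of_mul_eq_mul_right h5
  rw [h2, h4, ← h3, ← h1]; ring

theorem isConj_mk_iff (hQ : IsPGroup p Q) (hQc : Q ≤ Subgroup.center H) {s t : H}
    (hs : ¬ p ∣ orderOf s) (ht : ¬ p ∣ orderOf t) :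
    IsConj (QuotientGroup.mk s : H ⧸ Q) (QuotientGroup.mk t) ↔ IsConj s t := by
  constructor
  · intro h
    obtain ⟨c, hc⟩ := isConj_iff.mp h
    obtain ⟨a, rfl⟩ := QuotientGroup.mk_surjective c
    have h1 : (QuotientGroup.mk (a * s * a⁻¹) : H ⧸ Q) = QuotientGroup.mk t := hc
    exact isConj_iff.mpr ⟨a, eq_of_regular_of_mk hQ (sup_top_of_central hQc)
      (by rw [orderOf_conj']; exact hs) ht h1⟩
  · intro h
    obtain ⟨a, rfl⟩ := isConj_iff.mp h
    exact isConj_iff.mpr ⟨QuotientGroup.mk a, rfl⟩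

/-- the kernel of a block and of the block it dominates -/
theorem kernel_dom (hM : IsPModular p M) (hQ : IsPGroup p Q)
    (hQc : Q ≤ Subgroup.center H) (hb : IsPBlock M b) {s t : H} (hs : ¬ p ∣ orderOf s)
    (ht : ¬ p ∣ orderOf t) : blockKernel b s t = (Nat.card Q : ℂ) *
      ∑ ψ ∈ Bfin (dom Q b), (ψ : H ⧸ Q → ℂ) (QuotientGroup.mk s) *
        conj ((ψ : H ⧸ Q → ℂ) (QuotientGroup.mk t)) := by
  classical
  haveI := Fintype.ofFinite (IrrCharacter H)
  haveI := Fintype.ofFinite (IrrCharacter (H ⧸ Q))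
  have hall : ∀ g : H, ¬ p ∣ orderOf g → ∑ η : IrrCharacter H, conj ((η : H → ℂ) t) * (η : H → ℂ) g =
      ∑ ψ : IrrCharacter (H ⧸ Q), ((Nat.card Q : ℂ) * conj ((ψ : H ⧸ Q → ℂ) (QuotientGroup.mk t))) *
        ((inflI ψ : IrrCharacter H) : H → ℂ) g := by
    intro g hg
    have h1 := column_orthogonality g t
    have h2 := column_orthogonality (QuotientGroup.mk g : H ⧸ Q) (QuotientGroup.mk t)
    calc ∑ η : IrrCharacter H, conj ((η : H → ℂ) t) * (η : H → ℂ) g =
          ∑ η : IrrCharacter H, (η : H → ℂ) g * conj ((η : H → ℂ) t) :=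
          Finset.sum_congr rfl fun η _ => mul_comm _ _
      _ = (Nat.card Q : ℂ) * ∑ ψ : IrrCharacter (H ⧸ Q), (ψ : H ⧸ Q → ℂ) (QuotientGroup.mk g) *
            conj ((ψ : H ⧸ Q → ℂ) (QuotientGroup.mk t)) := by
          rw [h1, h2]
          by_cases h : IsConj g t
          · rw [if_pos h, if_pos ((isConj_mk_iff hQ hQc hg ht).mpr h), card_centralizer_mk hQ hQc hg]
            push_cast; ring
          · rw [if_neg h, if_neg (fun h' => h ((isConj_mk_iff hQ hQc hg ht).mp h')), mul_zero]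
      _ = _ := by
          rw [Finset.mul_sum]
          refine Finset.sum_congr rfl fun ψ _ => ?_
          change _ = _ * (ψ : H ⧸ Q → ℂ) (QuotientGroup.mk g)
          ring
  have h3 := cut_block hM hb (fun ψ : IrrCharacter (H ⧸ Q) => inflI ψ)
    (fun ψ => (Nat.card Q : ℂ) * conj ((ψ : H ⧸ Q → ℂ) (QuotientGroup.mk t)))
    (fun η => conj ((η : H → ℂ) t)) hall hs
  rw [filter_dom] at h3
  rw [blockKernel_eq_Bfin, Finset.mul_sum]
  calc ∑ η ∈ Bfin b, (η : H → ℂ) s * conj ((η : H → ℂ) t) =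
        ∑ η ∈ Bfin b, conj ((η : H → ℂ) t) * (η : H → ℂ) s :=
        Finset.sum_congr rfl fun η _ => mul_comm _ _
    _ = _ := h3
    _ = _ := by
      refine Finset.sum_congr rfl fun ψ _ => ?_
      change _ * (ψ : H ⧸ Q → ℂ) (QuotientGroup.mk s) = _
      ring

theorem dom_nonempty (hM : IsPModular p M) (hQ : IsPGroup p Q)
    (hQc : Q ≤ Subgroup.center H) (hb : IsPBlock M b) : (dom Q b).Nonempty := by
  obtain ⟨η, hη⟩ := block_nonempty hb
  obtain ⟨n, hn⟩ := exists_int_expand hM hQ hQc hb hη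
  by_contra hne
  rw [Set.not_nonempty_iff_eq_empty] at hne
  have h1 := hn 1 (by rw [orderOf_one]; exact hp.out.one_lt.ne' ∘ Nat.dvd_one.mp)
  rw [hne] at h1
  have h2 : Bfin (∅ : Set (IrrCharacter (H ⧸ Q))) = ∅ := by
    ext ψ; rw [mem_Bfin]; simp
  rw [h2, Finset.sum_empty] at h1
  exact irr_one_ne_zero η.2 h1

theorem isPBlock_dom (hM : IsPModular p M) (hQ : IsPGroup p Q)
    (hQc : Q ≤ Subgroup.center H) (hb : IsPBlock M b) : IsPBlock M (dom Q b) := by
  obtain ⟨ψ₀, hψ₀⟩ := dom_nonempty hM hQ hQc hb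
  refine ⟨ψ₀, ?_⟩
  ext ψ
  constructor
  · intro hψ
    exact (sameBlock_inflI_iff hM hQ (sup_top_of_central hQc) ψ₀ ψ).mp
      (BlkC.sameBlock_of_mem hb hψ₀ hψ)
  · intro hψ
    exact BlkC.mem_of_sameBlock hb hψ₀
      ((sameBlock_inflI_iff hM hQ (sup_top_of_central hQc) ψ₀ ψ).mpr hψ)

theorem defect_dom (hM : IsPModular p M) (hQ : IsPGroup p Q)
    (hQc : Q ≤ Subgroup.center H) (hb : IsPBlock M b) {D : Subgroup H}
    (hD : IsDefectGroup p M b D) : IsDefectGroup p M (dom Q b) (D.map (QuotientGroup.mk' Q)) := by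
  obtain ⟨b', hb', hsub, hdef⟩ := Cfsg.Agent.S4434.result p M hM Q hQ b hb
  have hdom := isPBlock_dom hM hQ hQc hb
  have heq : b' = dom Q b := by
    obtain ⟨ψ, hψ⟩ := block_nonempty hb'
    refine isPBlock_eq_of_mem hb' hdom hψ ?_
    exact hsub ψ hψ (inflI ψ) rfl
  rw [← heq]
  exact (hdef _).mpr ⟨D, hD, rfl⟩

theorem rank_le_card_dom (hM : IsPModular p M) (hQ : IsPGroup p Q)
    (hQc : Q ≤ Subgroup.center H) (hb : IsPBlock M b) : blockRank p b ≤ Nat.card (dom Q b) := by
  classical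
  unfold blockRank
  set F : IrrCharacter (H ⧸ Q) → H → ℂ := fun ψ => pRegularPart p ((inflI ψ : IrrCharacter H) : H → ℂ)
    with hF
  have hle : Submodule.span ℂ ((fun χ : IrrCharacter H => pRegularPart p (χ : H → ℂ)) '' b) ≤
      Submodule.span ℂ (((Bfin (dom Q b)).image F : Finset (H → ℂ)) : Set (H → ℂ)) := by
    rw [Submodule.span_le]
    rintro _ ⟨η, hη, rfl⟩
    obtain ⟨n, hn⟩ := exists_int_expand hM hQ hQc hb hη
    have h1 : (fun χ : IrrCharacter H => pRegularPart p (χ : H → ℂ)) η =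
        ∑ ψ ∈ Bfin (dom Q b), (n ψ : ℂ) • F ψ := by
      funext g
      rw [Finset.sum_apply]
      by_cases hg : p ∣ orderOf g
      · simp only [hF]
        rw [pRegularPart_apply_of_sing hg]
        symm
        refine Finset.sum_eq_zero fun ψ _ => ?_
        rw [Pi.smul_apply, pRegularPart_apply_of_sing hg, smul_zero]
      · simp only [hF]
        rw [pRegularPart_apply_of_reg hg, hn g hg]
        refine Finset.sum_congr rfl fun ψ _ => ?_
        rw [Pi.smul_apply, pRegularPart_apply_of_reg hg, smul_eq_mul]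
        rfl
    rw [SetLike.mem_coe, h1]
    refine Submodule.sum_mem _ fun ψ hψ => Submodule.smul_mem _ _ (Submodule.subset_span ?_)
    exact Finset.mem_coe.mpr (Finset.mem_image_of_mem _ hψ)
  calc Module.finrank ℂ _ ≤ Module.finrank ℂ (Submodule.span ℂ
        (((Bfin (dom Q b)).image F : Finset (H → ℂ)) : Set (H → ℂ))) :=
        Submodule.finrank_mono hle
    _ ≤ ((Bfin (dom Q b)).image F).card := finrank_span_finset_le_card _
    _ ≤ (Bfin (dom Q b)).card := Finset.card_image_le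
    _ = Nat.card (dom Q b) := natCard_eq_Bfin.symm

end dom

end Cfsg.Agent.H4
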