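import Cfsg.Agent.H4.Tr2

/-!
# Major subsections of `2`-blocks: diagonal contributions (owner: helper4)
-/

set_option autoImplicit false
set_option linter.style.haveILetI false
set_option linter.unusedSectionVars false

namespace Cfsg.Agent.H4

open scoped ComplexConjugate BigOperators
open Cfsg Cfsg.Agent.CharBase Cfsg.Agent.Blk Cfsg.Agent.BlkInd Cfsg.Agent.BlkC

universe u

section iv

variable {j : ℕ} {M : Ideal AlgInt}

/-- the normalized trace -/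
noncomputable def iv (j : ℕ) (z : ℂ) : ℤ := ⌊(Tr (2 ^ (j + 1)) z / (2 : ℂ) ^ j).re⌋

theorem iv_eq {z : ℂ} {c : ℤ} (h : Tr (2 ^ (j + 1)) z = (2 : ℂ) ^ j * (c : ℂ)) : iv j z = c := by
  unfold iv
  rw [h, mul_div_cancel_left₀ _ (pow_ne_zero j (two_ne_zero (α := ℂ))), Complex.intCast_re,
    Int.floor_intCast]

theorem iv_spec {z : ℂ} (hz : z ∈ cycRing (2 ^ (j + 1))) :
    Tr (2 ^ (j + 1)) z = (2 : ℂ) ^ j * (iv j z : ℂ) := by
  obtain ⟨c, hc⟩ := exists_Tr2 hz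
  rw [iv_eq hc, hc]

theorem iv_sub {z w : ℂ} (hz : z ∈ cycRing (2 ^ (j + 1))) (hw : w ∈ cycRing (2 ^ (j + 1))) :
    iv j (z - w) = iv j z - iv j w := by
  apply iv_eq
  rw [Tr_sub, iv_spec hz, iv_spec hw]; push_cast; ring

theorem iv_int_mul {z : ℂ} (hz : z ∈ cycRing (2 ^ (j + 1))) (c : ℤ) :
    iv j ((c : ℂ) * z) = c * iv j z := by
  apply iv_eq
  rw [Tr_int_mul, iv_spec hz]; push_cast; ring

theorem iv_int (c : ℤ) : iv j (c : ℂ) = c := by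
  apply iv_eq
  have := Tr_int (p := 2) (j := j) c
  rw [this]; push_cast; ring

theorem iv_sum {ι : Type*} (s : Finset ι) (z : ι → ℂ)
    (hz : ∀ i ∈ s, z i ∈ cycRing (2 ^ (j + 1))) : iv j (∑ i ∈ s, z i) = ∑ i ∈ s, iv j (z i) := by
  apply iv_eq
  rw [Tr_sum, Finset.sum_congr rfl fun i hi => iv_spec (hz i hi)]
  push_cast
  rw [Finset.mul_sum]

theorem iv_sq {z : ℂ} (hz : z ∈ cycRing (2 ^ (j + 1))) :
    0 ≤ iv j (z * conj z) ∧ (z ≠ 0 → 1 ≤ iv j (z * conj z)) := by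
  have h1 := iv_spec (Subring.mul_mem _ hz (cycRing_conj_mem hz))
  obtain ⟨a, rfl⟩ := exists_ev (p := 2) hz
  have h2 := Tr_ev_mul_conj (p := 2) a a
  rw [h1] at h2
  have h3 : (2 : ℂ) ^ j * ((2 * iv j (ev 2 j a * conj (ev 2 j a)) : ℤ) : ℂ) =
      (2 : ℂ) ^ j * ((∑ r, ∑ s, ∑ s', (a r s - a r s') * (a r s - a r s') : ℤ) : ℂ) := by
    push_cast at h2 ⊢
    rw [← h2]; ring
  have h4 := mul_left_cancel₀ (pow_ne_zero j (two_ne_zero (α := ℂ))) h3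
  have h5 : 2 * iv j (ev 2 j a * conj (ev 2 j a)) =
      ∑ r, ∑ s, ∑ s', (a r s - a r s') * (a r s - a r s') := by exact_mod_cast h4
  have hnn : ∀ r, 0 ≤ ∑ s, ∑ s', (a r s - a r s') * (a r s - a r s') := fun r =>
    Finset.sum_nonneg fun s _ => Finset.sum_nonneg fun s' _ => mul_self_nonneg _
  have h6 : 0 ≤ ∑ r, ∑ s, ∑ s', (a r s - a r s') * (a r s - a r s') :=
    Finset.sum_nonneg fun r _ => hnn r
  refine ⟨by omega, fun hne => ?_⟩
  obtain ⟨r, s, s', hss⟩ : ∃ r s s', a r s ≠ a r s' := by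
    by_contra hcon
    push Not at hcon
    exact hne (ev_eq_zero hcon)
  have h7 := count_pairs (p := 2) (F := fun v : ℤ => v * v) (fun v => mul_self_nonneg v)
    (fun v hv => by have := mul_self_pos.mpr hv; omega) (v := a r) hss
  have h8 : ∑ s, ∑ s', (a r s - a r s') * (a r s - a r s') ≤
      ∑ r, ∑ s, ∑ s', (a r s - a r s') * (a r s - a r s') :=
    Finset.single_le_sum (f := fun r => ∑ s, ∑ s', (a r s - a r s') * (a r s - a r s'))
      (fun r _ => hnn r) (Finset.mem_univ r)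
  push_cast at h7
  omega

theorem iv_parity (hM : IsPModular 2 M) {z : ℂ} (hz : z ∈ cycRing (2 ^ (j + 1)))
    (hr : conj z = z) : MemLocalIdeal M z ↔ Even (iv j z) := by
  haveI := isPrime_of_isPModular hM
  have h1 := real_parity hM hz hr (iv_spec hz)
  rw [even_iff_two_dvd]
  have h2 : ((2 : ℕ) : ℤ) ∣ iv j z ↔ MemLocalIdeal M ((iv j z : ℤ) : ℂ) :=
    (mli_intCast_iff hM (iv j z)).symm
  rw [Nat.cast_ofNat] at h2
  rw [h2]
  constructor
  · intro h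
    have := mli_sub h h1
    simpa using this
  · intro h
    have := mli_add h h1
    simpa using this

end iv

section data

variable {G : Type u} [Group G] [Fintype G] {M : Ideal AlgInt}
variable {C : Subgroup G} [Fintype C] {B : Set (IrrCharacter G)}

/-- integral data attached to a major subsection of a `2`-block -/
theorem major2_data (hM : IsPModular 2 M) (hB : IsPBlock M B) {x : G}
    (hx : ∃ k : ℕ, orderOf x = 2 ^ k)
    (hC : C = Subgroup.centralizer ({x} : Set G)) {e : Set (IrrCharacter C)}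
    (hind : IsInducedBlock M C e B) (hd : blockDefect 2 e = blockDefect 2 B) :
    ∃ a : IrrCharacter G → ℤ, (∀ χ ∈ B, 0 < a χ) ∧
      (∀ χ ∈ B, blockHeight 2 B (χ : G → ℂ) = 0 → Odd (a χ)) ∧
      (∀ χ ∈ B, blockHeight 2 B (χ : G → ℂ) ≠ 0 →
        (2 : ℤ) ^ (blockHeight 2 B (χ : G → ℂ) + 1) ∣ a χ) ∧
      ∑ χ ∈ Bfin B, a χ = 2 ^ blockDefect 2 B * blockRank 2 e ∧
      (∀ ψ ∈ B, blockHeight 2 B (ψ : G → ℂ) = 0 →
        ∑ χ ∈ Bfin B, (4 : ℤ) ^ blockHeight 2 B (χ : G → ℂ) ≤ 2 ^ blockDefect 2 B * a ψ) ∧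
      (∀ χ ∈ B, a χ ≤ 2 ^ blockDefect 2 B) ∧
      (∀ χ ∈ B, blockHeight 2 B (χ : G → ℂ) ≠ 0 → a χ < 2 ^ blockDefect 2 B) ∧
      (∀ ψ ∈ B, blockHeight 2 B (ψ : G → ℂ) = 0 → a ψ ≠ 2 ^ blockDefect 2 B →
        (Nat.card B : ℤ) ≤ 2 ^ blockDefect 2 B * (2 ^ blockDefect 2 B - a ψ)) := by
  classical
  haveI := isPrime_of_isPModular hM
  obtain ⟨j, hj⟩ := hx
  obtain ⟨w, hw1, hw2, hw3⟩ := exists_val hM hB (j := j) ⟨j, Nat.le_succ j, hj⟩ hC hind hd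
  have hx' : ∃ k : ℕ, orderOf x = 2 ^ k := ⟨j, hj⟩
  set d := blockDefect 2 B with hdd
  set h : IrrCharacter G → ℕ := fun χ => blockHeight 2 B (χ : G → ℂ) with hh
  set m : IrrCharacter G → IrrCharacter G → ℂ := fun χ ψ =>
    (2 : ℂ) ^ d * sc 2 x e (χ : G → ℂ) (ψ : G → ℂ) with hm
  have hmw : ∀ χ ∈ B, ∀ ψ, m χ ψ = (2 : ℂ) ^ h χ * w χ ψ := by
    intro χ hχ ψ
    have := hw1 χ hχ ψ
    rw [Nat.cast_ofNat] at this
    exact this
  have hwmem : ∀ χ ∈ B, ∀ ψ, w χ ψ ∈ cycRing (2 ^ (j + 1)) := hw2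
  have h2mem : ∀ n : ℕ, (2 : ℂ) ^ n ∈ cycRing (2 ^ (j + 1)) := by
    intro n
    have : ((2 ^ n : ℕ) : ℂ) ∈ cycRing (2 ^ (j + 1)) := natCast_mem _ _
    push_cast at this; exact this
  have hmmem : ∀ χ ∈ B, ∀ ψ, m χ ψ ∈ cycRing (2 ^ (j + 1)) := by
    intro χ hχ ψ
    rw [hmw χ hχ ψ]
    exact Subring.mul_mem _ (h2mem _) (hwmem χ hχ ψ)
  have hmconj : ∀ χ ψ, conj (m χ ψ) = m ψ χ := by
    intro χ ψ
    simp only [hm]
    rw [map_mul, map_pow, sc_conj, Complex.conj_ofNat]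
  have hwreal : ∀ χ ∈ B, conj (w χ χ) = w χ χ := by
    intro χ hχ
    have h1 := hmconj χ χ
    rw [hmw χ hχ χ, map_mul, map_pow, Complex.conj_ofNat] at h1
    exact mul_left_cancel₀ (pow_ne_zero _ two_ne_zero) h1
  -- the integers
  set a : IrrCharacter G → ℤ := fun χ => iv j (m χ χ) with ha
  have hac : ∀ χ ∈ B, a χ = 2 ^ h χ * iv j (w χ χ) := by
    intro χ hχ
    have h1 : m χ χ = (((2 : ℤ) ^ h χ : ℤ) : ℂ) * w χ χ := by
      rw [hmw χ hχ χ]; push_cast; rfl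
    simp only [ha]
    rw [h1, iv_int_mul (hwmem χ hχ χ)]
  -- row sums
  have hrow : ∀ χ ∈ B, ∑ ψ ∈ Bfin B, m χ ψ * conj (m χ ψ) = (2 : ℂ) ^ d * m χ χ := by
    intro χ hχ
    have h1 := sum_sc hM hx' hC hind (χ : G → ℂ) (χ : G → ℂ)
    simp only [hmconj]
    simp only [hm]
    rw [← h1, Finset.mul_sum, Finset.mul_sum]
    exact Finset.sum_congr rfl fun ψ _ => by ring
  have hrow' : ∀ χ ∈ B, ∑ ψ ∈ Bfin B, iv j (m χ ψ * conj (m χ ψ)) = 2 ^ d * a χ := by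
    intro χ hχ
    rw [← iv_sum _ _ fun ψ _ => Subring.mul_mem _ (hmmem χ hχ ψ) (cycRing_conj_mem (hmmem χ hχ ψ)),
      hrow χ hχ]
    have h1 : (2 : ℂ) ^ d * m χ χ = (((2 : ℤ) ^ d : ℤ) : ℂ) * m χ χ := by push_cast; rfl
    rw [h1, iv_int_mul (hmmem χ hχ χ)]
  have hw0 : ∀ χ ∈ B, ∀ ψ ∈ B, h ψ = 0 → w χ ψ ≠ 0 := by
    intro χ hχ ψ hψ h0 hz
    have h1 := (hw3 χ hχ ψ hψ).mp (by rw [hz]; exact mli_zero)
    exact h1 h0
  have hm0 : ∀ χ ∈ B, ∀ ψ ∈ B, h ψ = 0 → m χ ψ ≠ 0 := by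
    intro χ hχ ψ hψ h0
    rw [hmw χ hχ ψ]
    exact mul_ne_zero (pow_ne_zero _ two_ne_zero) (hw0 χ hχ ψ hψ h0)
  -- norms
  have hnorm : ∀ χ ∈ B, ∀ ψ ∈ B, h ψ = 0 → (4 : ℤ) ^ h χ ≤ iv j (m χ ψ * conj (m χ ψ)) := by
    intro χ hχ ψ hψ h0
    have h1 : m χ ψ * conj (m χ ψ) = (((4 : ℤ) ^ h χ : ℤ) : ℂ) * (w χ ψ * conj (w χ ψ)) := by
      rw [hmw χ hχ ψ, map_mul, map_pow, Complex.conj_ofNat]
      push_cast
      rw [show (4 : ℂ) = 2 * 2 by norm_num, mul_pow]; ring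
    rw [h1, iv_int_mul (Subring.mul_mem _ (hwmem χ hχ ψ) (cycRing_conj_mem (hwmem χ hχ ψ)))]
    have h2 := (iv_sq (hwmem χ hχ ψ)).2 (hw0 χ hχ ψ hψ h0)
    have h3 : (0 : ℤ) < 4 ^ h χ := by positivity
    nlinarith
  obtain ⟨ψ₀, hψ₀, h00⟩ := exists_nuMin (p := 2) (block_nonempty hB)
  have hz0 : h ψ₀ = 0 := by
    change blockHeight 2 B (ψ₀ : G → ℂ) = 0
    rw [height_eq, h00, Nat.sub_self]
  have h2d : (0 : ℤ) < 2 ^ d := by positivity
  have hapos : ∀ χ ∈ B, 0 < a χ := by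
    intro χ hχ
    have h1 := hrow' χ hχ
    have h2 : iv j (m χ ψ₀ * conj (m χ ψ₀)) ≤ ∑ ψ ∈ Bfin B, iv j (m χ ψ * conj (m χ ψ)) :=
      Finset.single_le_sum (f := fun ψ => iv j (m χ ψ * conj (m χ ψ)))
        (fun ψ _ => (iv_sq (hmmem χ hχ ψ)).1) (mem_Bfin.mpr hψ₀)
    have h3 := hnorm χ hχ ψ₀ hψ₀ hz0
    have h4 : (0 : ℤ) < 4 ^ h χ := by positivity
    rw [h1] at h2
    by_contra hcon
    have : 2 ^ d * a χ ≤ 0 := mul_nonpos_of_nonneg_of_nonpos h2d.le (not_lt.mp hcon)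
    omega
  -- complementary matrix
  set n : IrrCharacter G → IrrCharacter G → ℂ := fun χ ψ =>
    (if χ = ψ then (2 : ℂ) ^ d else 0) - m χ ψ with hn
  have hnmem : ∀ χ ∈ B, ∀ ψ, n χ ψ ∈ cycRing (2 ^ (j + 1)) := by
    intro χ hχ ψ
    simp only [hn]
    refine Subring.sub_mem _ ?_ (hmmem χ hχ ψ)
    split_ifs
    · exact h2mem d
    · exact Subring.zero_mem _
  have hnrow : ∀ χ ∈ B, ∑ ψ ∈ Bfin B, n χ ψ * conj (n χ ψ) = (2 : ℂ) ^ d * ((2 : ℂ) ^ d - m χ χ) := by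
    intro χ hχ
    have h1 : ∀ ψ, n χ ψ * conj (n χ ψ) = (if χ = ψ then (2 : ℂ) ^ d * (2 : ℂ) ^ d -
        (2 : ℂ) ^ d * (m χ ψ + conj (m χ ψ)) else 0) + m χ ψ * conj (m χ ψ) := by
      intro ψ
      simp only [hn]
      split_ifs with h2
      · rw [map_sub, map_pow, Complex.conj_ofNat]; ring
      · rw [map_sub, map_zero]; ring
    rw [Finset.sum_congr rfl fun ψ _ => h1 ψ, Finset.sum_add_distrib, hrow χ hχ,
      Finset.sum_ite_eq, if_pos (mem_Bfin.mpr hχ), hmconj]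
    ring
  have hnrow' : ∀ χ ∈ B, ∑ ψ ∈ Bfin B, iv j (n χ ψ * conj (n χ ψ)) =
      2 ^ d * (2 ^ d - a χ) := by
    intro χ hχ
    rw [← iv_sum _ _ fun ψ _ => Subring.mul_mem _ (hnmem χ hχ ψ) (cycRing_conj_mem (hnmem χ hχ ψ)),
      hnrow χ hχ]
    have h1 : (2 : ℂ) ^ d * ((2 : ℂ) ^ d - m χ χ) =
        (((2 : ℤ) ^ d : ℤ) : ℂ) * ((((2 : ℤ) ^ d : ℤ) : ℂ) - m χ χ) := by push_cast; rfl
    rw [h1, iv_int_mul (Subring.sub_mem _ (intCast_mem _ _) (hmmem χ hχ χ)),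
      iv_sub (intCast_mem _ _) (hmmem χ hχ χ), iv_int]
  have hnne : ∀ χ ∈ B, ∀ ψ ∈ B, χ ≠ ψ → h ψ = 0 → n χ ψ ≠ 0 := by
    intro χ hχ ψ hψ hne h0
    simp only [hn]
    rw [if_neg hne, zero_sub, neg_ne_zero]
    exact hm0 χ hχ ψ hψ h0
  have hale : ∀ χ ∈ B, a χ ≤ 2 ^ d := by
    intro χ hχ
    have h1 := hnrow' χ hχ
    have h2 : 0 ≤ ∑ ψ ∈ Bfin B, iv j (n χ ψ * conj (n χ ψ)) :=
      Finset.sum_nonneg fun ψ _ => (iv_sq (hnmem χ hχ ψ)).1
    rw [h1] at h2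
    have := nonneg_of_mul_nonneg_right h2 h2d
    omega
  refine ⟨a, hapos, ?_, ?_, ?_, ?_, hale, ?_, ?_⟩
  · intro χ hχ h0
    have h1 := iv_parity hM (hwmem χ hχ χ) (hwreal χ hχ)
    rw [hw3 χ hχ χ hχ] at h1
    rw [hac χ hχ, show h χ = 0 from h0, pow_zero, one_mul, ← Int.not_even_iff_odd, ← h1]
    exact fun h => h h0
  · intro χ hχ h0
    have h1 := iv_parity hM (hwmem χ hχ χ) (hwreal χ hχ)
    rw [hw3 χ hχ χ hχ] at h1
    obtain ⟨c, hc⟩ := even_iff_two_dvd.mp (h1.mp h0)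
    rw [hac χ hχ, hc, pow_succ]
    exact ⟨c, by ring⟩
  · have h1 := sum_sc_self hM hx' hC hind
    have h2 : ∑ χ ∈ Bfin B, m χ χ = (((2 ^ d * blockRank 2 e : ℤ)) : ℂ) := by
      push_cast
      rw [← h1, Finset.mul_sum]
    rw [← iv_int (j := j) (2 ^ d * blockRank 2 e : ℤ), ← h2,
      iv_sum _ _ fun χ hχ => hmmem χ (mem_Bfin.mp hχ) χ]
  · intro ψ hψ h0
    rw [← hrow' ψ hψ]
    refine Finset.sum_le_sum fun χ hχ => ?_
    have h1 := hnorm χ (mem_Bfin.mp hχ) ψ hψ h0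
    have h2 : m ψ χ * conj (m ψ χ) = m χ ψ * conj (m χ ψ) := by
      rw [hmconj, hmconj, mul_comm]
    rw [h2]; exact h1
  · intro χ hχ h0
    have hne : χ ≠ ψ₀ := by rintro rfl; exact h0 hz0
    have h1 := hnrow' χ hχ
    have h2 : iv j (n χ ψ₀ * conj (n χ ψ₀)) ≤ ∑ ψ ∈ Bfin B, iv j (n χ ψ * conj (n χ ψ)) :=
      Finset.single_le_sum (f := fun ψ => iv j (n χ ψ * conj (n χ ψ)))
        (fun ψ _ => (iv_sq (hnmem χ hχ ψ)).1) (mem_Bfin.mpr hψ₀)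
    have h3 := (iv_sq (hnmem χ hχ ψ₀)).2 (hnne χ hχ ψ₀ hψ₀ hne hz0)
    rw [h1] at h2
    by_contra hcon
    have : 2 ^ d * (2 ^ d - a χ) ≤ 0 := mul_nonpos_of_nonneg_of_nonpos h2d.le (by omega)
    omega
  · intro ψ hψ h0 hne
    rw [← hnrow' ψ hψ, natCard_eq_Bfin, ← nsmul_one, ← Finset.sum_const]
    refine Finset.sum_le_sum fun χ hχ => (iv_sq (hnmem ψ hψ χ)).2 ?_
    by_cases hχψ : ψ = χ
    · subst hχψ
      simp only [hn, if_true]
      intro h1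
      apply hne
      have h2 : m ψ ψ = (((2 : ℤ) ^ d : ℤ) : ℂ) := by
        push_cast
        linear_combination -h1
      change iv j (m ψ ψ) = 2 ^ d
      rw [h2, iv_int]
    · intro h1
      have h2 := hnne χ (mem_Bfin.mp hχ) ψ hψ (Ne.symm hχψ) h0
      apply h2
      have h3 : n χ ψ = conj (n ψ χ) := by
        simp only [hn]
        rw [if_neg hχψ, if_neg (Ne.symm hχψ), map_sub, map_zero, hmconj]
      rw [h3, h1, map_zero]

/-- first bound -/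
theorem bound_three (hM : IsPModular 2 M) (hB : IsPBlock M B) {x : G}
    (hx : ∃ k : ℕ, orderOf x = 2 ^ k)
    (hC : C = Subgroup.centralizer ({x} : Set G)) {e : Set (IrrCharacter C)}
    (hind : IsInducedBlock M C e B) (hd : blockDefect 2 e = blockDefect 2 B)
    (hl : blockRank 2 e ≤ 3) :
    ∑ χ ∈ Bfin B, (if blockHeight 2 B (χ : G → ℂ) = 0 then (3 : ℤ) else
      2 * 2 ^ blockHeight 2 B (χ : G → ℂ)) ≤ 3 * 2 ^ blockDefect 2 B := by
  classical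
  obtain ⟨a, h1, h2, h3, h4, h5, -, -, -⟩ := major2_data hM hB hx hC hind hd
  by_cases hex : ∃ ψ ∈ B, blockHeight 2 B (ψ : G → ℂ) = 0 ∧ a ψ = 1
  · obtain ⟨ψ, hψ, h0, ha⟩ := hex
    have h6 := h5 ψ hψ h0
    rw [ha, mul_one] at h6
    refine le_trans ?_ (mul_le_mul_of_nonneg_left h6 (by norm_num : (0 : ℤ) ≤ 3))
    rw [Finset.mul_sum]
    refine Finset.sum_le_sum fun χ _ => ?_
    split_ifs with h
    · rw [h]; norm_num
    · have h7 : (4 : ℤ) ^ blockHeight 2 B (χ : G → ℂ) = 2 ^ blockHeight 2 B (χ : G → ℂ) *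
          2 ^ blockHeight 2 B (χ : G → ℂ) := by rw [← mul_pow]; norm_num
      have h8 : (1 : ℤ) ≤ 2 ^ blockHeight 2 B (χ : G → ℂ) := one_le_pow₀ (by norm_num)
      rw [h7]; nlinarith
  · push Not at hex
    have h6 : ∑ χ ∈ Bfin B, (if blockHeight 2 B (χ : G → ℂ) = 0 then (3 : ℤ) else
      2 * 2 ^ blockHeight 2 B (χ : G → ℂ)) ≤ ∑ χ ∈ Bfin B, a χ := by
      refine Finset.sum_le_sum fun χ hχ => ?_
      have hχ' := mem_Bfin.mp hχ
      split_ifs with h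
      · obtain ⟨c, hc⟩ := h2 χ hχ' h
        have := hex χ hχ' h
        have := h1 χ hχ'
        omega
      · have h7 := Int.le_of_dvd (h1 χ hχ') (h3 χ hχ' h)
        rw [pow_succ] at h7
        linarith
    rw [h4] at h6
    refine h6.trans ?_
    have h7 : (0 : ℤ) < 2 ^ blockDefect 2 B := by positivity
    have h8 : (blockRank 2 e : ℤ) ≤ 3 := by exact_mod_cast hl
    nlinarith

/-- second bound -/
theorem bound_four (hM : IsPModular 2 M) (hB : IsPBlock M B) {x : G}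
    (hx : ∃ k : ℕ, orderOf x = 2 ^ k)
    (hC : C = Subgroup.centralizer ({x} : Set G)) {e : Set (IrrCharacter C)}
    (hind : IsInducedBlock M C e B) (hd : blockDefect 2 e = blockDefect 2 B)
    (hl : Nat.card B ≤ blockRank 2 e + 3) : Nat.card B ≤ 2 ^ blockDefect 2 B := by
  classical
  haveI := isPrime_of_isPModular hM
  obtain ⟨a, h1, h2, h3, h4, h5, h6, h7, h8⟩ := major2_data hM hB hx hC hind hd
  have hcard : (Nat.card B : ℤ) = ∑ χ ∈ Bfin B, (1 : ℤ) := by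
    rw [natCard_eq_Bfin]; simp
  have h2d : (0 : ℤ) < 2 ^ blockDefect 2 B := by positivity
  have hgoal : (Nat.card B : ℤ) ≤ 2 ^ blockDefect 2 B → Nat.card B ≤ 2 ^ blockDefect 2 B := by
    intro h; exact_mod_cast h
  apply hgoal
  by_cases hex : ∃ ψ ∈ B, blockHeight 2 B (ψ : G → ℂ) = 0 ∧ a ψ = 1
  · obtain ⟨ψ, hψ, h0, ha⟩ := hex
    have h9 := h5 ψ hψ h0
    rw [ha, mul_one] at h9
    refine le_trans ?_ h9
    rw [hcard]
    exact Finset.sum_le_sum fun χ _ => one_le_pow₀ (by norm_num)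
  push Not at hex
  by_cases hex' : ∃ ψ ∈ B, blockHeight 2 B (ψ : G → ℂ) = 0 ∧ 2 ^ blockDefect 2 B - a ψ = 1
  · obtain ⟨ψ, hψ, h0, ha⟩ := hex'
    have h9 := h8 ψ hψ h0 (by omega)
    rw [ha, mul_one] at h9
    exact h9
  push Not at hex'
  -- defect is positive
  have hdpos : blockDefect 2 B ≠ 0 := by
    intro h0
    obtain ⟨ψ₀, hψ₀, h00⟩ := exists_nuMin (p := 2) (block_nonempty hB)
    have hz0 : blockHeight 2 B (ψ₀ : G → ℂ) = 0 := by rw [height_eq, h00, Nat.sub_self]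
    have e1 := h1 ψ₀ hψ₀
    have e2 := h6 ψ₀ hψ₀
    rw [h0, pow_zero] at e2
    exact hex ψ₀ hψ₀ hz0 (by omega)
  have heven : (2 : ℤ) ∣ 2 ^ blockDefect 2 B := dvd_pow_self 2 hdpos
  have hge : ∀ χ ∈ B, 3 ≤ 2 ^ blockDefect 2 B - a χ := by
    intro χ hχ
    by_cases h0 : blockHeight 2 B (χ : G → ℂ) = 0
    · obtain ⟨c, hc⟩ := h2 χ hχ h0
      obtain ⟨c', hc'⟩ := heven
      have e1 := h6 χ hχ
      have e2 := hex' χ hχ h0
      omega
    · have e1 := h7 χ hχ h0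
      have e2 := height_add_two_le hM hB hχ (Nat.pos_of_ne_zero h0)
      have e3 : (2 : ℤ) ^ (blockHeight 2 B (χ : G → ℂ) + 1) ∣ 2 ^ blockDefect 2 B - a χ :=
        dvd_sub (pow_dvd_pow _ (by omega)) (h3 χ hχ h0)
      have e4 : (4 : ℤ) ∣ 2 ^ (blockHeight 2 B (χ : G → ℂ) + 1) := by
        rw [show (4 : ℤ) = 2 ^ 2 by norm_num]
        exact pow_dvd_pow _ (by omega)
      have e5 := Int.le_of_dvd (by omega) (e4.trans e3)
      omega
  have h9 : ∑ χ ∈ Bfin B, (3 : ℤ) ≤ ∑ χ ∈ Bfin B, (2 ^ blockDefect 2 B - a χ) :=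
    Finset.sum_le_sum fun χ hχ => hge χ (mem_Bfin.mp hχ)
  rw [Finset.sum_sub_distrib, h4, Finset.sum_const, Finset.sum_const, ← natCard_eq_Bfin,
    nsmul_eq_mul, nsmul_eq_mul] at h9
  have h10 : (Nat.card B : ℤ) ≤ blockRank 2 e + 3 := by exact_mod_cast hl
  nlinarith

end data

section major

variable {G : Type u} [Group G] [Fintype G] {p : ℕ} [hp : Fact p.Prime] {M : Ideal AlgInt}
variable {B : Set (IrrCharacter G)}

/-- the standard form of a major subsection -/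
theorem major_of_defect (hM : IsPModular p M) (hB : IsPBlock M B) {D : Subgroup G}
    (hD : IsDefectGroup p M B D) {z : G} (hzD : z ∈ D) (hzc : ∀ d ∈ D, d * z = z * d)
    {b : Set (IrrCharacter (Subgroup.centralizer ({z} : Set G)))} (hb : IsPBlock M b)
    (hbD : IsDefectGroup p M b (D.subgroupOf (Subgroup.centralizer ({z} : Set G)))) :
    (∃ k : ℕ, orderOf z = p ^ k) ∧ blockDefect p b = blockDefect p B := by
  classical
  haveI := isPrime_of_isPModular hM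
  haveI := Fintype.ofFinite (Subgroup.centralizer ({z} : Set G))
  have hDp := isPGroup_of_isDefectGroup hD
  constructor
  · obtain ⟨k, hk⟩ := (IsPGroup.iff_orderOf.mp hDp) ⟨z, hzD⟩
    exact ⟨k, by rw [← hk, ← Subgroup.orderOf_coe]⟩
  · have h1 := card_defectGroup hM hb hbD
    have h2 := card_defectGroup hM hB hD
    have hle : D ≤ Subgroup.centralizer ({z} : Set G) := by
      intro d hd
      rw [Subgroup.mem_centralizer_singleton_iff]
      exact hzc d hd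
    have h3 : Nat.card (D.subgroupOf (Subgroup.centralizer ({z} : Set G))) = Nat.card D :=
      Nat.card_congr (Subgroup.subgroupOfEquivOfLe hle).toEquiv
    rw [h3, h2] at h1
    exact (Nat.pow_right_injective hp.out.two_le h1).symm

end major

end Cfsg.Agent.H4
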