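import Cfsg.Agent.H4.TrF
import Cfsg.Agent.H4.Major2

/-!
# Height zero characters and arbitrary subsections (owner: helper4)
-/

set_option autoImplicit false
set_option linter.style.haveILetI false
set_option linter.unusedSectionVars false

namespace Cfsg.Agent.H4

open scoped ComplexConjugate BigOperators
open Cfsg Cfsg.Agent.CharBase Cfsg.Agent.Blk Cfsg.Agent.BlkInd Cfsg.Agent.BlkC

universe u

section cong

variable {G : Type u} [Group G] [Fintype G] {M : Ideal AlgInt}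
variable {p : ℕ} [hp : Fact p.Prime]
variable {C : Subgroup G} [Fintype C] {B : Set (IrrCharacter G)}

theorem sc_mul_mem {x : G} {n : ℕ} (hn : orderOf x ∣ n)
    (hC : C = Subgroup.centralizer ({x} : Set G))
    (e : Set (IrrCharacter C)) (χ ψ : IrrCharacter G) :
    (p : ℂ) ^ blockDefect p e * sc p x e (χ : G → ℂ) (ψ : G → ℂ) ∈ cycRing n := by
  have hdco : ∀ (χ : IrrCharacter G) (η : IrrCharacter C), dco x (χ : G → ℂ) η ∈
      cycRing n := by
    intro χ η
    obtain ⟨ω, hω, h⟩ := exists_dco_eq hC χ η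
    rw [h]
    refine Subring.mul_mem _ (Subring.subset_closure ?_) (natCast_mem _ _)
    change ω ^ n = 1
    obtain ⟨m, hm⟩ := hn
    rw [hm, pow_mul, hω, one_pow]
  rw [pow_mul_sc]
  refine Subring.sum_mem _ fun η _ => Subring.sum_mem _ fun η' _ => ?_
  exact Subring.mul_mem _ (Subring.mul_mem _ (hdco χ η) (cycRing_conj_mem (hdco ψ η')))
    (intCast_mem _ _)

/-- contributions between characters of height zero are units -/
theorem not_mli_sc (hM : IsPModular p M) {x : G} (hx : ∃ k : ℕ, orderOf x = p ^ k)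
    (hC : C = Subgroup.centralizer ({x} : Set G)) {e : Set (IrrCharacter C)}
    (hind : IsInducedBlock M C e B) {χ ψ : IrrCharacter G} (hχ : χ ∈ B)
    (h0 : blockHeight p B (χ : G → ℂ) = 0) (hψ : ψ ∈ B)
    (h0' : blockHeight p B (ψ : G → ℂ) = 0) :
    ¬ MemLocalIdeal M ((p : ℂ) ^ blockDefect p e * sc p x e (χ : G → ℂ) (ψ : G → ℂ)) := by
  haveI := isPrime_of_isPModular hM
  have hpp : Prime (p : ℤ) := Nat.prime_iff_prime_int.mp hp.out
  intro h3
  obtain ⟨u, v, hu, hv, huv⟩ := exists_sc_cong hM hx hC hind.1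
  have h4 := huv χ ψ
  have h5 : MemLocalIdeal M (((v * (resSum p e χ * resSum p e ψ) : ℤ) : ℂ)) := by
    have h6 := mli_sub (mli_mul_left (mlr_intCast u) h3) h4
    simpa using h6
  rw [mli_intCast_iff hM] at h5
  have h6 := not_dvd_resSum_all hM hx hC hind hχ h0
  have h7 := not_dvd_resSum_all hM hx hC hind hψ h0'
  rcases hpp.dvd_or_dvd h5 with h8 | h8
  · exact hv h8
  · rcases hpp.dvd_or_dvd h8 with h9 | h9
    · exact h6 h9
    · exact h7 h9

/-- nonvanishing of the contributions between characters of height zero -/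
theorem sc_ne_zero_all (hM : IsPModular p M) {x : G} (hx : ∃ k : ℕ, orderOf x = p ^ k)
    (hC : C = Subgroup.centralizer ({x} : Set G)) {e : Set (IrrCharacter C)}
    (hind : IsInducedBlock M C e B) {χ ψ : IrrCharacter G} (hχ : χ ∈ B)
    (h0 : blockHeight p B (χ : G → ℂ) = 0) (hψ : ψ ∈ B)
    (h0' : blockHeight p B (ψ : G → ℂ) = 0) :
    sc p x e (χ : G → ℂ) (ψ : G → ℂ) ≠ 0 := by
  haveI := isPrime_of_isPModular hM
  intro h
  apply not_mli_sc hM hx hC hind hχ h0 hψ h0'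
  rw [h, mul_zero]
  exact mli_zero

end cong

section two

variable {G : Type u} [Group G] [Fintype G] {M : Ideal AlgInt}
variable {C : Subgroup G} [Fintype C] {B : Set (IrrCharacter G)}

open Classical in
/-- the characters of height zero -/
noncomputable def B0 (p : ℕ) (B : Set (IrrCharacter G)) : Finset (IrrCharacter G) :=
  (Bfin B).filter fun χ => blockHeight p B (χ : G → ℂ) = 0

theorem mem_B0 {p : ℕ} {χ : IrrCharacter G} :
    χ ∈ B0 p B ↔ χ ∈ B ∧ blockHeight p B (χ : G → ℂ) = 0 := by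
  unfold B0
  rw [Finset.mem_filter, mem_Bfin]

theorem natCard_B0 (p : ℕ) :
    Nat.card {χ : IrrCharacter G // χ ∈ B ∧ blockHeight p B (χ : G → ℂ) = 0} =
      (B0 p B).card := by
  classical
  haveI := Fintype.ofFinite (IrrCharacter G)
  rw [Nat.card_eq_fintype_card]
  exact Fintype.card_of_subtype _ fun χ => mem_B0

theorem height0_data (hM : IsPModular 2 M) {x : G}
    (hx : ∃ k : ℕ, orderOf x = 2 ^ k)
    (hC : C = Subgroup.centralizer ({x} : Set G)) {e : Set (IrrCharacter C)}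
    (hind : IsInducedBlock M C e B) :
    ∃ a : IrrCharacter G → ℤ, (∀ χ ∈ Bfin B, 0 ≤ a χ) ∧ (∀ χ ∈ B0 2 B, Odd (a χ)) ∧
      ∑ χ ∈ Bfin B, a χ = 2 ^ blockDefect 2 e * blockRank 2 e ∧
      (∀ ψ ∈ B0 2 B, ((B0 2 B).card : ℤ) ≤ 2 ^ blockDefect 2 e * a ψ) := by
  classical
  haveI := isPrime_of_isPModular hM
  obtain ⟨j, hj⟩ := hx
  have hx' : ∃ k : ℕ, orderOf x = 2 ^ k := ⟨j, hj⟩
  have hdiv : orderOf x ∣ 2 ^ (j + 1) := by rw [hj]; exact pow_dvd_pow _ (Nat.le_succ j)
  set q := blockDefect 2 e with hq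
  set m : IrrCharacter G → IrrCharacter G → ℂ := fun χ ψ =>
    (2 : ℂ) ^ q * sc 2 x e (χ : G → ℂ) (ψ : G → ℂ) with hm
  have hmmem : ∀ χ ψ, m χ ψ ∈ cycRing (2 ^ (j + 1)) := by
    intro χ ψ
    have := sc_mul_mem (p := 2) hdiv hC e χ ψ
    rw [Nat.cast_ofNat] at this
    exact this
  have hmconj : ∀ χ ψ, conj (m χ ψ) = m ψ χ := by
    intro χ ψ
    simp only [hm]
    rw [map_mul, map_pow, sc_conj, Complex.conj_ofNat]
  have hunit : ∀ χ ∈ B0 2 B, ∀ ψ ∈ B0 2 B, ¬ MemLocalIdeal M (m χ ψ) := by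
    intro χ hχ ψ hψ
    rw [mem_B0] at hχ hψ
    have := not_mli_sc (p := 2) hM hx' hC hind hχ.1 hχ.2 hψ.1 hψ.2
    rw [Nat.cast_ofNat] at this
    exact this
  have hrow : ∀ χ, ∑ ψ ∈ Bfin B, iv j (m χ ψ * conj (m χ ψ)) = 2 ^ q * iv j (m χ χ) := by
    intro χ
    rw [← iv_sum _ _ fun ψ _ => Subring.mul_mem _ (hmmem χ ψ) (cycRing_conj_mem (hmmem χ ψ))]
    have h1 := sum_sc hM hx' hC hind (χ : G → ℂ) (χ : G → ℂ)
    have h2 : ∑ ψ ∈ Bfin B, m χ ψ * conj (m χ ψ) = (((2 : ℤ) ^ q : ℤ) : ℂ) * m χ χ := by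
      simp only [hmconj]
      simp only [hm]
      rw [← h1, Finset.mul_sum, Finset.mul_sum]
      push_cast
      exact Finset.sum_congr rfl fun ψ _ => by ring
    rw [h2, iv_int_mul (hmmem χ χ)]
  have h2q : (0 : ℤ) < 2 ^ q := by positivity
  refine ⟨fun χ => iv j (m χ χ), ?_, ?_, ?_, ?_⟩
  · intro χ _
    have h1 := hrow χ
    have h2 : 0 ≤ ∑ ψ ∈ Bfin B, iv j (m χ ψ * conj (m χ ψ)) :=
      Finset.sum_nonneg fun ψ _ => (iv_sq (hmmem χ ψ)).1
    rw [h1] at h2
    exact nonneg_of_mul_nonneg_right h2 h2q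
  · intro χ hχ
    have h1 := iv_parity hM (hmmem χ χ) (hmconj χ χ)
    rw [← Int.not_even_iff_odd, ← h1]
    exact hunit χ hχ χ hχ
  · have h1 := sum_sc_self hM hx' hC hind
    have h2 : ∑ χ ∈ Bfin B, m χ χ = (((2 ^ q * blockRank 2 e : ℤ)) : ℂ) := by
      push_cast
      rw [← h1, Finset.mul_sum]
    rw [← iv_int (j := j) (2 ^ q * blockRank 2 e : ℤ), ← h2, iv_sum _ _ fun χ _ => hmmem χ χ]
  · intro ψ hψ
    rw [← hrow ψ, ← nsmul_one, ← Finset.sum_const]
    have h1 : ∑ χ ∈ B0 2 B, iv j (m ψ χ * conj (m ψ χ)) ≤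
        ∑ χ ∈ Bfin B, iv j (m ψ χ * conj (m ψ χ)) :=
      Finset.sum_le_sum_of_subset_of_nonneg (Finset.filter_subset _ _)
        fun χ _ _ => (iv_sq (hmmem ψ χ)).1
    refine le_trans (Finset.sum_le_sum fun χ hχ => ?_) h1
    refine (iv_sq (hmmem ψ χ)).2 fun h0 => hunit ψ hψ χ hχ ?_
    rw [h0]; exact mli_zero

/-- **bounds for the number of characters of height zero** -/
theorem height0_bound (hM : IsPModular 2 M) {x : G}
    (hx : ∃ k : ℕ, orderOf x = 2 ^ k)
    (hC : C = Subgroup.centralizer ({x} : Set G)) {e : Set (IrrCharacter C)}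
    (hind : IsInducedBlock M C e B) :
    (Odd (Nat.sqrt (blockRank 2 e)) →
      (B0 2 B).card ≤ Nat.sqrt (blockRank 2 e) * 2 ^ blockDefect 2 e) ∧
    (¬ Odd (Nat.sqrt (blockRank 2 e)) →
      (Nat.sqrt (blockRank 2 e) + 1) * (B0 2 B).card ≤ blockRank 2 e * 2 ^ blockDefect 2 e) := by
  classical
  obtain ⟨a, h1, h2, h3, h4⟩ := height0_data hM hx hC hind
  set s := Nat.sqrt (blockRank 2 e) with hs
  have hs1 : s * s ≤ blockRank 2 e := Nat.sqrt_le _
  have hs2 : blockRank 2 e < (s + 1) * (s + 1) := Nat.lt_succ_sqrt _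
  by_cases hne : (B0 2 B).Nonempty
  · obtain ⟨ψ, hψ, hmin⟩ := Finset.exists_min_image (B0 2 B) a hne
    obtain ⟨c, hc⟩ := h2 ψ hψ
    have h5 := h4 ψ hψ
    have h6 : ((B0 2 B).card : ℤ) * a ψ ≤ 2 ^ blockDefect 2 e * blockRank 2 e := by
      rw [← h3, ← nsmul_eq_mul, ← Finset.sum_const]
      refine (Finset.sum_le_sum hmin).trans ?_
      exact Finset.sum_le_sum_of_subset_of_nonneg (Finset.filter_subset _ _) fun χ hχ _ => h1 χ hχ
    have hψpos : 0 ≤ a ψ := h1 ψ (Finset.filter_subset _ _ hψ)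
    have h2q : (0 : ℤ) < 2 ^ blockDefect 2 e := by positivity
    have hk : (0 : ℤ) ≤ ((B0 2 B).card : ℤ) := by positivity
    have hs1' : (s : ℤ) * s ≤ blockRank 2 e := by exact_mod_cast hs1
    have hs2' : (blockRank 2 e : ℤ) < (s + 1) * (s + 1) := by exact_mod_cast hs2
    constructor
    · intro hodd
      obtain ⟨t, ht⟩ := hodd
      have ht' : (s : ℤ) = 2 * t + 1 := by exact_mod_cast ht
      have hgoal : ((B0 2 B).card : ℤ) ≤ (s : ℤ) * 2 ^ blockDefect 2 e := by
        rcases le_or_gt (a ψ) s with h | h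
        · nlinarith
        · have h7 : (s : ℤ) + 2 ≤ a ψ := by omega
          have h8 : ((B0 2 B).card : ℤ) * ((s : ℤ) + 2) ≤ (s * 2 ^ blockDefect 2 e) * (s + 2) := by
            calc ((B0 2 B).card : ℤ) * ((s : ℤ) + 2) ≤ ((B0 2 B).card : ℤ) * a ψ :=
                  mul_le_mul_of_nonneg_left h7 hk
              _ ≤ 2 ^ blockDefect 2 e * blockRank 2 e := h6
              _ ≤ 2 ^ blockDefect 2 e * (s * (s + 2)) :=
                  mul_le_mul_of_nonneg_left (by nlinarith) h2q.le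
              _ = _ := by ring
          exact le_of_mul_le_mul_right h8 (by positivity)
      exact_mod_cast hgoal
    · intro hodd
      rw [Nat.not_odd_iff_even] at hodd
      obtain ⟨t, ht⟩ := hodd
      have ht' : (s : ℤ) = t + t := by exact_mod_cast ht
      have hgoal : ((s : ℤ) + 1) * ((B0 2 B).card : ℤ) ≤ blockRank 2 e * 2 ^ blockDefect 2 e := by
        rcases le_or_gt ((s : ℤ) + 1) (a ψ) with h | h
        · nlinarith
        · have h7 : a ψ ≤ (s : ℤ) - 1 := by omega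
          have h8 : ((B0 2 B).card : ℤ) ≤ 2 ^ blockDefect 2 e * ((s : ℤ) - 1) :=
            h5.trans (mul_le_mul_of_nonneg_left h7 h2q.le)
          calc ((s : ℤ) + 1) * ((B0 2 B).card : ℤ) ≤
                ((s : ℤ) + 1) * (2 ^ blockDefect 2 e * ((s : ℤ) - 1)) :=
                mul_le_mul_of_nonneg_left h8 (by positivity)
            _ = (s * s - 1) * 2 ^ blockDefect 2 e := by ring
            _ ≤ blockRank 2 e * 2 ^ blockDefect 2 e :=
                mul_le_mul_of_nonneg_right (by linarith) h2q.le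
      exact_mod_cast hgoal
  · rw [Finset.not_nonempty_iff_eq_empty] at hne
    rw [hne, Finset.card_empty, mul_zero]
    exact ⟨fun _ => Nat.zero_le _, fun _ => Nat.zero_le _⟩

end two

end Cfsg.Agent.H4
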