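import Cfsg.Agent.H4.K3Tri
import Cfsg.Agent.H75.DetChar
import Cfsg.Agent.H33.OneClass

set_option autoImplicit false
set_option linter.all false

/-! The cyclic case of S2219 (helper4), part A. -/

namespace Cfsg.Agent.H4.K3

open Cfsg Subgroup Module
open Cfsg.Agent.CharBase
open scoped ComplexConjugate

universe u

theorem four_dvd {G : Type u} [Group G] [Finite G] (hperf : commutator G = ⊤) (χ : IrrCharacter G) {v : G}
    (hv : v * v = 1) : ∃ u : ℤ, (χ : G → ℂ) v = u ∧ (4 : ℤ) ∣ (H75.deg χ : ℤ) - u ∧ |u| ≤ (H75.deg χ : ℤ) := by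
  obtain ⟨n, ρ, hρ, hch⟩ := χ.2
  have hn : (H75.deg χ : ℂ) = n := by
    rw [← H75.deg_spec, ← hch, Representation.char_one]; simp
  have hn' : H75.deg χ = n := by exact_mod_cast hn
  have hf : (ρ v) ^ 2 = 1 := by
    rw [← map_pow, pow_two, hv, map_one]
  set s := (ρ v).charpoly.roots with hs
  have hse : ∀ z ∈ s, z = 1 ∨ z = -1 := by
    intro z hz
    have h4 := Char.endo_pow_eq_one_of_mem_roots hf hz
    rcases mul_eq_zero.mp (show (z - 1) * (z + 1) = 0 by linear_combination h4) with h5 | h5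
    · exact Or.inl (sub_eq_zero.mp h5)
    · exact Or.inr (eq_neg_of_add_eq_zero_left h5)
  have hcard : Multiset.card s = n := by rw [hs, Char.endo_card_roots]; simp
  have hsum : (χ : G → ℂ) v = s.sum := by
    rw [← hch]
    have := H75.trace_pow_eq_roots (f := ρ v) (n := 2) (by norm_num) hf 1
    simp only [pow_one, Multiset.map_id'] at this
    exact this
  have hprod : LinearMap.det (ρ v) = s.prod := by
    rw [End.det_eq_prod_roots_charpoly_of_splits (IsAlgClosed.splits _), ← hs]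
  have key : ∀ t : Multiset ℂ, (∀ z ∈ t, z = 1 ∨ z = -1) →
      ∃ k : ℕ, k ≤ Multiset.card t ∧ t.sum = (Multiset.card t : ℂ) - 2 * k ∧ t.prod = (-1) ^ k := by
    intro t
    induction t using Multiset.induction_on with
    | empty => intro _; exact ⟨0, by simp, by simp, by simp⟩
    | cons a t ih =>
      intro ht
      obtain ⟨k, hk0, hk, hk'⟩ := ih (fun z hz => ht z (Multiset.mem_cons_of_mem hz))
      rw [Multiset.sum_cons, Multiset.prod_cons, hk, hk', Multiset.card_cons]
      rcases ht a (Multiset.mem_cons_self a t) with h | h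
      · exact ⟨k, by omega, by rw [h]; push_cast; ring, by rw [h, one_mul]⟩
      · exact ⟨k + 1, by omega, by rw [h]; push_cast; ring, by rw [h, pow_succ]; ring⟩
  obtain ⟨k, hk0, hk, hk'⟩ := key s hse
  have hkev : Even k := by
    by_contra hodd
    rw [Nat.not_even_iff_odd] at hodd
    have h1 := H75.even_index_of_det ρ (g := v) (by rw [hprod, hk', hodd.neg_one_pow])
    rw [hperf, Subgroup.index_top] at h1
    exact absurd h1 (by decide)
  obtain ⟨l, hl⟩ := hkev
  rw [hcard] at hk hk0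
  refine ⟨(n : ℤ) - 2 * k, ?_, ?_, ?_⟩
  · rw [hsum, hk]; push_cast; ring
  · rw [hn', hl]; push_cast
    exact ⟨l, by ring⟩
  · rw [hn', abs_le]; constructor <;> omega

/-- a generator of a cyclic subgroup of order 9 -/
theorem card_P {G : Type u} [Group G] [Finite G] {q a b : ℕ} (hq : q.Prime) (hq3 : q ≠ 3)
    (hcard : Nat.card G = 9 * 2 ^ a * q ^ b) (P : Sylow 3 G) : Nat.card (P : Subgroup G) = 9 := by
  obtain ⟨n, hn⟩ := IsPGroup.iff_card.1 P.isPGroup'
  have h1 : 3 ^ 2 ∣ Nat.card (P : Subgroup G) :=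
    P.pow_dvd_card_of_pow_dvd_card (by rw [hcard, mul_assoc]; exact Dvd.intro _ rfl)
  have h2 : 3 ^ n ∣ 3 ^ 2 := by
    have h3 : 3 ^ n ∣ 9 * 2 ^ a * q ^ b := by rw [← hn, ← hcard]; exact card_subgroup_dvd_card _
    have h4 : Nat.Coprime (3 ^ n) (2 ^ a * q ^ b) := by
      apply Nat.Coprime.pow_left
      apply Nat.Coprime.mul_right
      · exact Nat.Coprime.pow_right _ (by norm_num)
      · exact Nat.Coprime.pow_right _ ((Nat.coprime_primes Nat.prime_three hq).2 (Ne.symm hq3))
    rw [mul_assoc] at h3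
    exact h4.dvd_of_dvd_mul_right h3
  rw [hn] at h1 ⊢
  have h5 := Nat.dvd_antisymm h2 h1
  rw [h5]; norm_num

section cyc

variable {G : Type u} [Group G] [Finite G]

theorem sum_char_eq {H : Type u} [Group H] [Finite H] [Fintype H] {χ : H → ℂ} (hχ : IsCharacter H χ) :
    ∃ n : ℕ, ∑ h : H, χ h = (Nat.card H : ℂ) * n := by
  obtain ⟨n, hn⟩ := classInner_natCast hχ (isCharacter_of_isIrr (isIrrCharacter_one (G := H)))
  refine ⟨n, ?_⟩
  have hq0 : (Nat.card H : ℂ) ≠ 0 := by exact_mod_cast Nat.card_pos.ne'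
  rw [← hn]
  unfold classInner
  rw [← mul_assoc, mul_inv_cancel₀ hq0, one_mul]
  exact Finset.sum_congr rfl fun y _ => by simp

/-- A character with constant value `a` on the elements `y v`, `y ∈ P#`, `v` an involution centralizing `P`. -/
theorem nine_dvd (P : Subgroup G) {χ : G → ℂ} (hχ : IsCharacter G χ) {v : G} (hv : orderOf v = 2)
    (hvP : ∀ y ∈ P, y * v = v * y) {a u : ℤ} (hu : χ v = u) (hc : ∀ y ∈ P, y ≠ 1 → χ (y * v) = a) :
    (Nat.card P : ℤ) ∣ u - a := by
  classical
  haveI := Fintype.ofFinite P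
  let Z := Subgroup.zpowers v
  haveI := Fintype.ofFinite Z
  let f : P × Z →* G := MonoidHom.mk' (fun x => (x.1 : G) * (x.2 : G)) (by
    intro x y
    have h1 : (x.2 : G) * (y.1 : G) = (y.1 : G) * (x.2 : G) := by
      obtain ⟨k, hk⟩ := x.2.2
      rw [← hk]
      have : Commute v (y.1 : G) := (hvP _ y.1.2).symm
      exact (this.zpow_left k).eq
    show ((x.1 * y.1 : P) : G) * ((x.2 * y.2 : Z) : G) = (x.1 : G) * x.2 * (y.1 * y.2)
    rw [Subgroup.coe_mul, Subgroup.coe_mul]
    calc (x.1 : G) * y.1 * (x.2 * y.2) = x.1 * (y.1 * x.2) * y.2 := by group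
      _ = x.1 * (x.2 * y.1) * y.2 := by rw [h1]
      _ = _ := by group)
  obtain ⟨m, hm⟩ := sum_char_eq (isCharacter_restrict hχ P)
  obtain ⟨m₀, hm₀⟩ := sum_char_eq (isCharacter_comp hχ f)
  have hZc : Nat.card Z = 2 := by rw [Nat.card_zpowers, hv]
  have hZ : (Finset.univ : Finset Z) = {1, ⟨v, Subgroup.mem_zpowers v⟩} := by
    symm
    apply Finset.eq_univ_of_card
    rw [Finset.card_pair, ← Nat.card_eq_fintype_card, hZc]
    intro h
    have h1 : (1 : G) = v := congrArg Subtype.val h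
    rw [← h1, orderOf_one] at hv
    norm_num at hv
  have hsum : ∑ x : P × Z, (χ ∘ f) x = ∑ y : P, χ y + ∑ y : P, χ (y * v) := by
    rw [Fintype.sum_prod_type, ← Finset.sum_add_distrib]
    refine Finset.sum_congr rfl fun y _ => ?_
    rw [hZ, Finset.sum_pair]
    · show χ ((y : G) * ((1 : Z) : G)) + χ ((y : G) * v) = _
      rw [OneMemClass.coe_one, mul_one]
    · intro h
      have h1 : (1 : G) = v := congrArg Subtype.val h
      rw [← h1, orderOf_one] at hv
      norm_num at hv
  have hsum2 : ∑ y : P, χ (y * v) = u + (Nat.card P - 1 : ℤ) * a := by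
    rw [← Finset.add_sum_erase _ _ (Finset.mem_univ (1 : P)), OneMemClass.coe_one, one_mul, hu,
      Finset.sum_congr rfl (g := fun _ => (a : ℂ)), Finset.sum_const, Finset.card_erase_of_mem (Finset.mem_univ _),
      Finset.card_univ, ← Nat.card_eq_fintype_card, nsmul_eq_mul]
    · rw [Nat.cast_sub Nat.card_pos]; push_cast; ring
    · intro y hy
      exact hc y y.2 (fun h => (Finset.mem_erase.1 hy).1 (Subtype.ext h))
  rw [hsum, hm, hsum2, Nat.card_prod, hZc] at hm₀
  have h5 : (Nat.card P : ℤ) * m + (u + (Nat.card P - 1 : ℤ) * a) = (Nat.card P : ℤ) * 2 * m₀ := by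
    exact_mod_cast hm₀
  exact ⟨2 * m₀ - m - a, by linear_combination h5⟩

end cyc

end Cfsg.Agent.H4.K3
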