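import Cfsg.Agent.H4.K3CycA
import Cfsg.Agent.S4709

set_option autoImplicit false
set_option linter.all false

/-! The cyclic case of S2219 (helper4), part B: the principal 3-block. -/

namespace Cfsg.Agent.H4.K3

open Cfsg Subgroup Module
open Cfsg.Agent.CharBase
open scoped ComplexConjugate

universe u

structure CD {G : Type u} [Group G] [Finite G] (P : Sylow 3 G) (M : Ideal AlgInt) (χ : IrrCharacter G)
    (Y : Set (IrrCharacter G)) (a δ : ℤ) : Prop where
  hM : IsPModular 3 M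
  ha : a = 1 ∨ a = -1
  hδ : δ = 1 ∨ δ = -1
  χ1 : χ ≠ oneIrr G
  χY : χ ∉ Y
  oneY : oneIrr G ∉ Y
  cardY : Nat.card Y = 4
  blk : principalBlock M G = {oneIrr G, χ} ∪ Y
  val : ∀ z y : G, IsPPart 3 z y → y ∈ (P : Subgroup G) → y ≠ 1 → (χ : G → ℂ) z = (a : ℂ)
  reg : ∀ η ∈ Y, ∀ g : G, ¬ 3 ∣ orderOf g → (η : G → ℂ) g = δ * (1 + a * (χ : G → ℂ) g)

theorem cyc_data {G : Type u} [Group G] [Finite G] (P : Sylow 3 G) (hc9 : Nat.card (P : Subgroup G) = 9)
    (hab : ∀ x ∈ (P : Subgroup G), ∀ y ∈ (P : Subgroup G), x * y = y * x)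
    (hidx : (centralizer ((P : Subgroup G) : Set G)).relIndex (normalizer ((P : Subgroup G) : Set G)) = 2)
    (hN : ∀ n ∈ normalizer ((P : Subgroup G) : Set G), (∀ x ∈ (P : Subgroup G), n * x * n⁻¹ = x) ∨
      (∀ x ∈ (P : Subgroup G), n * x * n⁻¹ = x⁻¹)) :
    ∃ (M : Ideal AlgInt) (χ : IrrCharacter G) (Y : Set (IrrCharacter G)) (a δ : ℤ), CD P M χ Y a δ := by
  classical
  haveI : Fact (Nat.Prime 3) := ⟨Nat.prime_three⟩
  obtain ⟨M, hM⟩ := Glaub.exists_isPModular (p := 3) Nat.prime_three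
  set N := normalizer ((P : Subgroup G) : Set G) with hNdef
  set C := centralizer ((P : Subgroup G) : Set G) with hCdef
  have hCN : C ≤ N := centralizer_le_normalizer _
  have hcomm : IsMulCommutative (P : Subgroup G) :=
    ⟨⟨fun x y => Subtype.ext (hab x x.2 y y.2)⟩⟩
  have hinv : ∀ y ∈ (P : Subgroup G), y = y⁻¹ → y = 1 := by
    intro y hy h
    have h1 : y ^ 2 = 1 := by
      rw [pow_two]; nth_rewrite 2 [h]; exact mul_inv_cancel y
    have h2 : orderOf y ∣ 2 := orderOf_dvd_of_pow_eq_one h1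
    have h3 : orderOf y ∣ 9 := by
      have := orderOf_dvd_natCard (⟨y, hy⟩ : (P : Subgroup G))
      rwa [Subgroup.orderOf_mk, hc9] at this
    have h4 := Nat.dvd_gcd h2 h3
    norm_num at h4
    exact h4
  have hfrob : ∀ y : G, y ∈ (P : Subgroup G) → y ≠ 1 →
      Subgroup.centralizer ({y} : Set G) ⊓ N = C := by
    intro y hy hy1
    apply le_antisymm
    · rintro n ⟨hn1, hn2⟩
      have hn1 := mem_centralizer_singleton_iff.1 hn1
      rw [hCdef, mem_centralizer_iff]
      rcases hN n hn2 with h | h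
      · intro x hx
        have := h x hx
        rw [mul_inv_eq_iff_eq_mul] at this
        exact this.symm
      · exfalso
        have h1 := h y hy
        rw [mul_inv_eq_iff_eq_mul, hn1] at h1
        exact hy1 (hinv y hy (mul_right_cancel h1))
    · refine le_inf ?_ hCN
      intro n hn
      rw [mem_centralizer_singleton_iff]
      exact (mem_centralizer_iff.1 hn y hy).symm
  have hcyc : ∃ g : G, g ∈ N ∧ C ⊔ zpowers g = N := by
    have h1 : ¬ N ≤ C := by
      intro h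
      rw [Subgroup.relIndex_eq_one.2 h] at hidx
      norm_num at hidx
    obtain ⟨g, hg, hgC⟩ := SetLike.not_le_iff_exists.1 h1
    refine ⟨g, hg, le_antisymm (sup_le hCN (by rw [zpowers_le]; exact hg)) ?_⟩
    have h2 : C ≤ C ⊔ zpowers g := le_sup_left
    have h3 : C ⊔ zpowers g ≤ N := sup_le hCN (by rw [zpowers_le]; exact hg)
    have h4 := Subgroup.relIndex_mul_relIndex C (C ⊔ zpowers g) N h2 h3
    rw [hidx] at h4
    have h5 : C.relIndex (C ⊔ zpowers g) ≠ 1 := by
      intro h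
      rw [Subgroup.relIndex_eq_one] at h
      exact hgC (h ((le_sup_right : zpowers g ≤ C ⊔ zpowers g) (mem_zpowers g)))
    have h6 : (C ⊔ zpowers g).relIndex N = 1 := by
      have h7 : C.relIndex (C ⊔ zpowers g) ∣ 2 := Dvd.intro _ h4
      rcases (Nat.dvd_prime Nat.prime_two).1 h7 with h8 | h8
      · exact absurd h8 h5
      · rw [h8] at h4; omega
    exact Subgroup.relIndex_eq_one.1 h6
  obtain ⟨s, X, Y, hs, hblk, hdisj, hcX, hcY, ⟨χ₁, hχ₁X, hχ₁⟩, a, d, δ, ζ, hδ, hXa, hζ1, hζ2, hζ3, hζ4, hnorm, hYY, hrel⟩ :=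
    S4709.result 3 M hM P hcomm (by rw [hc9]; norm_num) 2 (by norm_num) (by rw [hc9]; norm_num) hidx hcyc hfrob
  have hone : χ₁ = oneIrr G := Subtype.ext hχ₁
  subst hone
  rw [hc9] at hcY hnorm hrel
  have hcY' : Nat.card Y = 4 := by rw [hcY]
  -- an element of `P`
  obtain ⟨y₀, hy₀, hy₀1⟩ : ∃ y ∈ (P : Subgroup G), y ≠ 1 := by
    haveI : Nontrivial (P : Subgroup G) := by
      rw [← Finite.one_lt_card_iff_nontrivial, hc9]; norm_num
    obtain ⟨y, hy⟩ := exists_ne (1 : (P : Subgroup G))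
    exact ⟨y, y.2, fun h => hy (Subtype.ext h)⟩
  have hpp : IsPPart 3 y₀ y₀ := by
    obtain ⟨k, hk⟩ := (IsPGroup.iff_orderOf.1 P.isPGroup') ⟨y₀, hy₀⟩
    rw [Subgroup.orderOf_mk] at hk
    exact ⟨1, mul_one y₀, Commute.one_right y₀, ⟨k, hk⟩, by rw [orderOf_one]; norm_num⟩
  have ha1 : a (oneIrr G) = 1 := by
    have := (hXa _ hχ₁X).2 y₀ y₀ hpp hy₀ hy₀1
    rw [oneIrr_apply] at this
    exact_mod_cast this.symm
  haveI := Fintype.ofFinite (IrrCharacter G)
  have hXfin : X.Finite := Set.toFinite X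
  have hsum : ∑ᶠ χ ∈ X, a χ ^ 2 = ∑ χ ∈ hXfin.toFinset, a χ ^ 2 := by
    rw [finsum_mem_eq_finite_toFinset_sum _ hXfin]
  have hcX' : hXfin.toFinset.card = s := by
    rw [← Set.ncard_eq_toFinset_card X hXfin]; exact hcX
  have hmem1 : oneIrr G ∈ hXfin.toFinset := by rw [Set.Finite.mem_toFinset]; exact hχ₁X
  have hsum2 : ∑ᶠ χ ∈ X, a χ ^ 2 = 1 + ∑ χ ∈ hXfin.toFinset.erase (oneIrr G), a χ ^ 2 := by
    rw [hsum, ← Finset.add_sum_erase _ _ hmem1, ha1]; norm_num
  have hce : (hXfin.toFinset.erase (oneIrr G)).card = s - 1 := by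
    rw [Finset.card_erase_of_mem hmem1, hcX']
  have hδ2 : δ ^ 2 = 1 := by rcases hδ with h | h <;> rw [h] <;> norm_num
  have hs1 : s = 1 ∨ s = 2 := by
    have : 0 < s := by rw [← hcX']; exact Finset.card_pos.2 ⟨_, hmem1⟩
    omega
  norm_num at hnorm
  rcases hs1 with h1 | h1
  · exfalso
    rw [h1] at hce
    have h2 := Finset.card_eq_zero.1 hce
    rw [hsum2, h2, Finset.sum_empty] at hnorm
    rcases hδ with h | h <;> rw [h] at hnorm
    · have h3 : -1 < d ∧ d < 1 := by constructor <;> nlinarith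
      have h4 : d = 0 := by omega
      rw [h4] at hnorm; norm_num at hnorm
    · have h3 : -1 < d ∧ d < 1 := by constructor <;> nlinarith
      have h4 : d = 0 := by omega
      rw [h4] at hnorm; norm_num at hnorm
  · rw [h1] at hce
    obtain ⟨χ, hχ⟩ := Finset.card_eq_one.1 (show (hXfin.toFinset.erase (oneIrr G)).card = 1 by rw [hce])
    have hχmem : χ ∈ hXfin.toFinset.erase (oneIrr G) := by rw [hχ]; exact Finset.mem_singleton_self χ
    have hχne : χ ≠ oneIrr G := Finset.ne_of_mem_erase hχmem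
    have hχX : χ ∈ X := (Set.Finite.mem_toFinset hXfin).1 (Finset.mem_of_mem_erase hχmem)
    rw [hsum2, hχ, Finset.sum_singleton] at hnorm
    have hane := (hXa χ hχX).1
    have ha2 : 1 ≤ a χ ^ 2 := by
      rcases lt_or_gt_of_ne hane with h | h <;> nlinarith
    have hd0 : d = 0 := by
      have h3 : -1 < d ∧ d < 1 := by constructor <;> nlinarith [sq_nonneg (d - δ)]
      omega
    rw [hd0] at hnorm
    have haχ : a χ = 1 ∨ a χ = -1 := by
      have h3 : (a χ - 1) * (a χ + 1) = 0 := by linear_combination hnorm - hδ2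
      rcases mul_eq_zero.1 h3 with h | h
      · left; omega
      · right; omega
    refine ⟨M, χ, Y, a χ, δ, hM, haχ, hδ, hχne, ?_, ?_, hcY', ?_, (hXa χ hχX).2, ?_⟩
    · exact Set.disjoint_left.1 hdisj hχX
    · exact Set.disjoint_left.1 hdisj hχ₁X
    · rw [hblk]
      congr 1
      ext ψ
      rw [← Set.Finite.mem_toFinset hXfin, ← Finset.insert_erase hmem1, hχ]
      simp
    · intro η hη g hg
      have h3 := hrel η hη g hg
      have h4 : ∑ᶠ χ ∈ X, (a χ : ℂ) * (χ : G → ℂ) g = 1 + (a χ : ℂ) * (χ : G → ℂ) g := by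
        rw [finsum_mem_eq_finite_toFinset_sum _ hXfin, ← Finset.add_sum_erase _ _ hmem1, ha1, hχ,
          Finset.sum_singleton, oneIrr_apply]
        push_cast; ring
      rw [h4, hd0] at h3
      push_cast at h3
      have hδC : (δ : ℂ) * δ = 1 := by
        have : δ * δ = 1 := by rw [← pow_two]; exact hδ2
        exact_mod_cast this
      linear_combination (-(δ : ℂ)) * h3 - (η : G → ℂ) g * hδC

end Cfsg.Agent.H4.K3
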