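import Cfsg.Agent.H4.K3CycB
import Cfsg.Agent.H92.STa

set_option autoImplicit false
set_option linter.all false

/-! The cyclic case of S2219 (helper4), part C: numbers, centralizer of `P`. -/

namespace Cfsg.Agent.H4.K3

open Cfsg Subgroup Module
open Cfsg.Agent.CharBase
open scoped ComplexConjugate

universe u

variable {G : Type u} [Group G] [Finite G]

theorem CD.exists_Y {P : Sylow 3 G} {M : Ideal AlgInt} {χ : IrrCharacter G}
    {Y : Set (IrrCharacter G)} {a δ : ℤ} (D : CD P M χ Y a δ) : ∃ η, η ∈ Y := by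
  have h : 0 < Nat.card Y := by rw [D.cardY]; norm_num
  obtain ⟨h1, -⟩ := Nat.card_pos_iff.1 h
  obtain ⟨η⟩ := h1
  exact ⟨η, η.2⟩

theorem isPPart_mul_of_regular {P : Sylow 3 G} {y v : G} (hy : y ∈ (P : Subgroup G)) (hc : Commute y v)
    (hv : ¬ 3 ∣ orderOf v) : IsPPart 3 (y * v) y := by
  obtain ⟨k, hk⟩ := (IsPGroup.iff_orderOf.1 P.isPGroup') ⟨y, hy⟩
  rw [Subgroup.orderOf_mk] at hk
  exact ⟨v, rfl, hc, ⟨k, hk⟩, hv⟩

theorem CD.nine {P : Sylow 3 G} {M : Ideal AlgInt} {χ : IrrCharacter G}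
    {Y : Set (IrrCharacter G)} {a δ : ℤ} (D : CD P M χ Y a δ) (hc9 : Nat.card (P : Subgroup G) = 9) :
    (9 : ℤ) ∣ (H75.deg χ : ℤ) - a := by
  classical
  haveI := Fintype.ofFinite (P : Subgroup G)
  obtain ⟨m, hm⟩ := sum_char_eq (isCharacter_restrict (irr_isCharacter χ) (P : Subgroup G))
  have hsum2 : ∑ y : (P : Subgroup G), (χ : G → ℂ) y = H75.deg χ + 8 * a := by
    rw [← Finset.add_sum_erase _ _ (Finset.mem_univ (1 : (P : Subgroup G))), OneMemClass.coe_one, H75.deg_spec,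
      Finset.sum_congr rfl (g := fun _ => (a : ℂ)), Finset.sum_const, Finset.card_erase_of_mem (Finset.mem_univ _),
      Finset.card_univ, ← Nat.card_eq_fintype_card, hc9, nsmul_eq_mul]
    · norm_num
    · intro y hy
      have h1 := isPPart_mul_of_regular (P := P) y.2 (Commute.one_right (y : G)) (by rw [orderOf_one]; norm_num)
      rw [mul_one] at h1
      exact D.val y y h1 y.2 (fun h => (Finset.mem_erase.1 hy).1 (Subtype.ext h))
  rw [hsum2, hc9] at hm
  have h5 : (H75.deg χ : ℤ) + 8 * a = 9 * m := by exact_mod_cast hm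
  exact ⟨m - a, by linear_combination h5⟩

theorem CD.degY {P : Sylow 3 G} {M : Ideal AlgInt} {χ : IrrCharacter G}
    {Y : Set (IrrCharacter G)} {a δ : ℤ} (D : CD P M χ Y a δ) {η : IrrCharacter G} (hη : η ∈ Y) :
    (H75.deg η : ℤ) = δ * (1 + a * H75.deg χ) := by
  have h := D.reg η hη 1 (by rw [orderOf_one]; norm_num)
  rw [H75.deg_spec, H75.deg_spec] at h
  exact_mod_cast h

theorem cyc_num [IsSimpleGroup G] (hG : ¬ IsMulCommutative G) {q A b : ℕ} (hq : q.Prime) (hq2 : q ≠ 2)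
    (hq3 : q ≠ 3) (hcard : Nat.card G = 9 * 2 ^ A * q ^ b) {P : Sylow 3 G}
    (hc9 : Nat.card (P : Subgroup G) = 9) {M : Ideal AlgInt} {χ : IrrCharacter G}
    {Y : Set (IrrCharacter G)} {a δ : ℤ} (D : CD P M χ Y a δ)
    (NL : b = 1 → ∀ i, 6 ≤ i → (q = 2 ^ i + 1 ∨ q + 1 = 2 ^ i) → False) :
    b = 1 ∧ a = -1 ∧ δ = -1 ∧ ((q = 7 ∧ H75.deg χ = 8) ∨ (q = 17 ∧ H75.deg χ = 17)) := by
  obtain ⟨η, hη⟩ := D.exists_Y
  have h9 := D.nine hc9
  have hf := D.degY hη
  have hη1 : η ≠ oneIrr G := by rintro rfl; exact D.oneY hη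
  have hd1 := one_lt_deg hG D.χ1
  have hf1 := one_lt_deg hG hη1
  have hd3 : ¬ 3 ∣ H75.deg χ := by
    intro h
    rcases D.ha with h1 | h1 <;> rw [h1] at h9 <;> omega
  have hf3 : ¬ 3 ∣ H75.deg η := by
    intro h
    rcases D.ha with h1 | h1 <;> rcases D.hδ with h2 | h2 <;> rw [h1] at h9 hf <;> rw [h2] at hf <;> omega
  have hδ2 : (δ : ℂ) * δ = 1 := by rcases D.hδ with h | h <;> rw [h] <;> norm_num
  obtain ⟨hb, hT⟩ := tri hG hq hq2 hq3 hcard χ η a (-δ) D.ha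
    (by rcases D.hδ with h | h <;> rw [h] <;> norm_num) D.χ1 hη1 hd3 hf3 (by
      intro g hg
      rw [D.reg η hη g hg]
      push_cast
      linear_combination (-(1 + (a : ℂ) * (χ : G → ℂ) g)) * hδ2)
  refine ⟨hb, ?_⟩
  have hcons : ∀ N, ((H75.deg χ = q ∧ H75.deg η = N) ∨ (H75.deg η = q ∧ H75.deg χ = N)) →
      (q = N + 1 ∨ q + 1 = N) := by
    intro N h
    rcases h with ⟨h3, h4⟩ | ⟨h3, h4⟩ <;>
      rcases D.ha with h1 | h1 <;> rcases D.hδ with h2 | h2 <;> rw [h1, h2] at hf <;> omega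
  rcases hT with ⟨h3, i, h4⟩ | ⟨h3, i, h4⟩
  · have hc := hcons _ (Or.inl ⟨h3, h4⟩)
    have hi : i < 6 := by
      by_contra hcon
      exact NL hb i (by omega) hc
    rw [h3] at h9 ⊢
    rw [h3, h4] at hf
    rcases D.ha with h1 | h1 <;> rcases D.hδ with h2 | h2 <;> rw [h1] at h9 hf ⊢ <;> rw [h2] at hf ⊢ <;>
      interval_cases i <;> (try norm_num at hf) <;> (try norm_num at hc) <;> omega
  · have hc := hcons _ (Or.inr ⟨h3, h4⟩)
    have hi : i < 6 := by
      by_contra hcon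
      exact NL hb i (by omega) hc
    rw [h4] at h9 hd1 ⊢
    rw [h3, h4] at hf
    rcases D.ha with h1 | h1 <;> rcases D.hδ with h2 | h2 <;> rw [h1] at h9 hf ⊢ <;> rw [h2] at hf ⊢ <;>
      interval_cases i <;> (try norm_num at hf) <;> (try norm_num at hd1) <;> (try norm_num at h9) <;> omega

theorem no_inv [IsSimpleGroup G] (hG : ¬ IsMulCommutative G) {P : Sylow 3 G}
    (hc9 : Nat.card (P : Subgroup G) = 9) {M : Ideal AlgInt} {χ : IrrCharacter G}
    {Y : Set (IrrCharacter G)} {a δ : ℤ} (D : CD P M χ Y a δ) (hd : H75.deg χ ≤ 17)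
    {v : G} (hv : orderOf v = 2) (hvP : ∀ y ∈ (P : Subgroup G), y * v = v * y) : False := by
  have hvv : v * v = 1 := by rw [← pow_two, ← hv]; exact pow_orderOf_eq_one v
  obtain ⟨u, hu, h4, habs⟩ := four_dvd (BR.perfect_of_simple hG) χ hvv
  have h9 := D.nine hc9
  have h9' := nine_dvd (P : Subgroup G) (irr_isCharacter χ) hv hvP (a := a) hu (by
    intro y hy hy1
    exact D.val _ y (isPPart_mul_of_regular hy (hvP y hy) (by rw [hv]; norm_num)) hy hy1)
  rw [hc9] at h9'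
  have h5 := abs_le.1 habs
  have h6 : (H75.deg χ : ℤ) = u := by
    push_cast at h9'
    omega
  have h7 : (χ : G → ℂ) v = (χ : G → ℂ) 1 := by
    rw [hu, H75.deg_spec, ← h6]; push_cast; rfl
  have h8 := BT.faithful_of_simple D.χ1 h7
  rw [h8, orderOf_one] at hv
  norm_num at hv

end Cfsg.Agent.H4.K3
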