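import Cfsg.Agent.H4.K3CycC
import Cfsg.Agent.S1011
import Cfsg.Agent.S1020

set_option autoImplicit false
set_option linter.all false

/-! The cyclic case of S2219 (helper4), part D: the count. -/

namespace Cfsg.Agent.H4.K3

open Cfsg Subgroup Module
open Cfsg.Agent.CharBase
open scoped ComplexConjugate

universe u

variable {G : Type u} [Group G] [Finite G]

open Classical in
theorem CD.sum {P : Sylow 3 G} {M : Ideal AlgInt} {χ : IrrCharacter G}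
    {Y : Set (IrrCharacter G)} {a δ : ℤ} (D : CD P M χ Y a δ) [Fintype (IrrCharacter G)]
    (F : IrrCharacter G → ℂ) :
    ∑ ψ : IrrCharacter G, (if ψ ∈ principalBlock M G then F ψ else 0) =
      F (oneIrr G) + (F χ + ∑ ψ ∈ Finset.univ.filter (fun ψ => ψ ∈ Y), F ψ) := by
  rw [← Finset.sum_filter]
  have h : Finset.univ.filter (fun ψ => ψ ∈ principalBlock M G) =
      insert (oneIrr G) (insert χ (Finset.univ.filter (fun ψ => ψ ∈ Y))) := by
    ext ψ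
    rw [D.blk]
    simp only [Finset.mem_filter, Finset.mem_univ, true_and, Set.mem_union, Set.mem_insert_iff,
      Set.mem_singleton_iff, Finset.mem_insert]
    tauto
  rw [h, Finset.sum_insert, Finset.sum_insert]
  · rw [Finset.mem_filter]
    exact fun h => D.χY h.2
  · rw [Finset.mem_insert, Finset.mem_filter]
    rintro (h | h)
    · exact D.χ1 h.symm
    · exact D.oneY h.2

open Classical in
/-- the structure constant -/
theorem CD.count {P : Sylow 3 G} (S : H92.ST.Sit P) (hc9 : Nat.card (P : Subgroup G) = 9)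
    {M : Ideal AlgInt} {χ : IrrCharacter G}
    {Y : Set (IrrCharacter G)} (D : CD P M χ Y (-1) (-1)) (hd1 : 1 < H75.deg χ) [Fintype G] [Fintype (IrrCharacter G)]
    {w s : G} (hw : w ∈ (P : Subgroup G)) (hw1 : w ≠ 1) (hs : ¬ 3 ∣ orderOf s) :
    (9 : ℂ) * ((Finset.univ.filter (fun t : G => ∃ a, IsPPart 3 (s * (t * s * t⁻¹)) a ∧ IsConj a w)).card : ℂ) =
      (Nat.card G : ℂ) * (1 - (χ : G → ℂ) s * (χ : G → ℂ) s / H75.deg χ +
        ((χ : G → ℂ) s - 1) * ((χ : G → ℂ) s - 1) / (H75.deg χ - 1)) := by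
  haveI : Fact (Nat.Prime 3) := ⟨Nat.prime_three⟩
  obtain ⟨k, hk⟩ := (IsPGroup.iff_orderOf.1 P.isPGroup') ⟨w, hw⟩
  rw [Subgroup.orderOf_mk] at hk
  have hcnt := H33.count_section D.hM ⟨k, hk⟩ hw1 (S.index_core hw hw1) s s
  rw [S.cent_ppart hw, hc9, D.sum] at hcnt
  have hval : (χ : G → ℂ) w = -1 := by
    have := D.val w w ⟨1, mul_one w, Commute.one_right w, ⟨k, hk⟩, by rw [orderOf_one]; norm_num⟩ hw hw1
    rw [this]; norm_num
  have hb := H33.beta_zero D.hM (w := w) (z := 1) (a := 1) ⟨k, hk⟩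
    ⟨1, mul_one 1, Commute.one_right 1, ⟨0, by rw [orderOf_one, pow_zero]⟩, by
      rw [orderOf_one]; norm_num⟩ (fun h => hw1 (isConj_one_right.1 h))
  unfold H33.beta at hb
  rw [Blk.finsum_mem_eq_sum_ite, D.sum] at hb
  have hdY : ∀ η ∈ Y, (η : G → ℂ) 1 = (H75.deg χ : ℂ) - 1 := by
    intro η hη
    rw [D.reg η hη 1 (by rw [orderOf_one]; norm_num), H75.deg_spec]
    push_cast; ring
  have hsY : ∀ η ∈ Y, (η : G → ℂ) s = (χ : G → ℂ) s - 1 := by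
    intro η hη
    rw [D.reg η hη s hs]
    push_cast; ring
  have hd0 : (H75.deg χ : ℂ) ≠ 0 := by
    have : H75.deg χ ≠ 0 := by omega
    exact_mod_cast this
  have hd1' : (H75.deg χ : ℂ) - 1 ≠ 0 := by
    intro h
    have h2 : (H75.deg χ : ℂ) = 1 := by linear_combination h
    have h3 : H75.deg χ = 1 := by exact_mod_cast h2
    omega
  have hS : ∑ η ∈ Finset.univ.filter (fun ψ => ψ ∈ Y), conj ((η : G → ℂ) w) = 1 := by
    rw [Finset.sum_congr rfl (g := fun η : IrrCharacter G => ((H75.deg χ : ℂ) - 1) * conj ((η : G → ℂ) w))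
      (fun η hη => by rw [hdY η (Finset.mem_filter.1 hη).2]), ← Finset.mul_sum, hval, H75.deg_spec χ] at hb
    simp only [oneIrr_apply, map_one, map_neg] at hb
    apply mul_left_cancel₀ hd1'
    linear_combination hb
  have hS2 : ∑ η ∈ Finset.univ.filter (fun ψ => ψ ∈ Y),
      (η : G → ℂ) s * (η : G → ℂ) s * conj ((η : G → ℂ) w) / (η : G → ℂ) 1 =
      ((χ : G → ℂ) s - 1) * ((χ : G → ℂ) s - 1) / (H75.deg χ - 1) := by
    rw [Finset.sum_congr rfl (g := fun η : IrrCharacter G =>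
      (((χ : G → ℂ) s - 1) * ((χ : G → ℂ) s - 1) / (H75.deg χ - 1)) * conj ((η : G → ℂ) w))
      (fun η hη => by
        rw [hdY η (Finset.mem_filter.1 hη).2, hsY η (Finset.mem_filter.1 hη).2]; ring), ← Finset.mul_sum, hS, mul_one]
  rw [hS2, hval, H75.deg_spec χ] at hcnt
  simp only [oneIrr_apply, map_one, map_neg] at hcnt
  push_cast at hcnt
  rw [hcnt]
  ring

/-- The injection `T × T → D`. -/
theorem card_le [Fintype G] {T : Sylow 2 G} {s w : G} (hs : ∀ y ∈ (T : Subgroup G), y * s = s * y)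
    (hC : ∀ v : G, orderOf v = 2 → v * w ≠ w * v) (D : Finset G)
    (hD : ∀ t, t ∈ D ↔ ∃ a, IsPPart 3 (s * (t * s * t⁻¹)) a ∧ IsConj a w) (hne : D.Nonempty) :
    Nat.card (T : Subgroup G) * Nat.card (T : Subgroup G) ≤ D.card := by
  classical
  obtain ⟨t₀, ht₀⟩ := hne
  haveI := Fintype.ofFinite (T : Subgroup G)
  obtain ⟨a₀, ha₀, hc₀⟩ := (hD t₀).1 ht₀
  have key : ∀ c ∈ (T : Subgroup G), Commute c (s * (t₀ * s * t₀⁻¹)) → c = 1 := by
    intro c hc hcom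
    by_contra hc1
    -- a power of `c` is an involution
    obtain ⟨k, hk⟩ := (IsPGroup.iff_orderOf.1 T.isPGroup') ⟨c, hc⟩
    rw [Subgroup.orderOf_mk] at hk
    have hk0 : k ≠ 0 := by
      rintro rfl
      rw [pow_zero, orderOf_eq_one_iff] at hk
      exact hc1 hk
    obtain ⟨l, rfl⟩ := Nat.exists_eq_succ_of_ne_zero hk0
    have hv : orderOf (c ^ 2 ^ l) = 2 := by
      rw [orderOf_pow, hk, Nat.succ_eq_add_one, pow_succ, Nat.gcd_eq_right (Dvd.intro _ rfl),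
        Nat.mul_div_cancel_left]
      exact pow_pos (by norm_num) l
    have hcom2 : Commute (c ^ 2 ^ l) (s * (t₀ * s * t₀⁻¹)) := hcom.pow_left _
    have hcom3 : Commute (c ^ 2 ^ l) a₀ := by
      have h1 := BlkInd.isPPart_conj ha₀ (c ^ 2 ^ l)
      have h2 : c ^ 2 ^ l * (s * (t₀ * s * t₀⁻¹)) * (c ^ 2 ^ l)⁻¹ = s * (t₀ * s * t₀⁻¹) := by
        rw [hcom2.eq, mul_inv_cancel_right]
      rw [h2] at h1
      have h3 := BlkInd.isPPart_unique Nat.prime_three h1 ha₀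
      exact mul_inv_eq_iff_eq_mul.1 h3
    obtain ⟨g, hg⟩ := isConj_iff.1 hc₀
    apply hC (g * (c ^ 2 ^ l) * g⁻¹)
    · have h9 : orderOf (g * (c ^ 2 ^ l) * g⁻¹) = orderOf (c ^ 2 ^ l) :=
        orderOf_injective (MulAut.conj g).toMonoidHom (MulAut.conj g).injective (c ^ 2 ^ l)
      rw [h9, hv]
    · rw [← hg]
      calc g * c ^ 2 ^ l * g⁻¹ * (g * a₀ * g⁻¹) = g * (c ^ 2 ^ l * a₀) * g⁻¹ := by group
        _ = g * (a₀ * c ^ 2 ^ l) * g⁻¹ := by rw [hcom3.eq]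
        _ = _ := by group
  let f : ↥(T : Subgroup G) × ↥(T : Subgroup G) → G := fun x => (x.1 : G) * t₀ * x.2
  have hf : Function.Injective f := by
    rintro ⟨c₁, c₂⟩ ⟨d₁, d₂⟩ h
    have h : (c₁ : G) * t₀ * c₂ = d₁ * t₀ * d₂ := h
    have h1 : (d₁ : G)⁻¹ * c₁ = t₀ * (d₂ * (c₂ : G)⁻¹) * t₀⁻¹ := by
      calc (d₁ : G)⁻¹ * c₁ = (d₁ : G)⁻¹ * (c₁ * t₀ * c₂) * (c₂ : G)⁻¹ * t₀⁻¹ := by group
        _ = (d₁ : G)⁻¹ * (d₁ * t₀ * d₂) * (c₂ : G)⁻¹ * t₀⁻¹ := by rw [h]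
        _ = _ := by group
    have hmem : (d₁ : G)⁻¹ * c₁ ∈ (T : Subgroup G) := mul_mem (inv_mem d₁.2) c₁.2
    have hmem2 : (d₂ : G) * (c₂ : G)⁻¹ ∈ (T : Subgroup G) := mul_mem d₂.2 (inv_mem c₂.2)
    have h2 : (d₁ : G)⁻¹ * c₁ = 1 := by
      apply key _ hmem
      have e1 : Commute ((d₁ : G)⁻¹ * c₁) s := hs _ hmem
      have e2 : Commute ((d₁ : G)⁻¹ * c₁) (t₀ * s * t₀⁻¹) := by
        rw [h1]
        have e3 : Commute ((d₂ : G) * (c₂ : G)⁻¹) s := hs _ hmem2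
        show t₀ * ((d₂ : G) * (c₂ : G)⁻¹) * t₀⁻¹ * (t₀ * s * t₀⁻¹) = t₀ * s * t₀⁻¹ * (t₀ * ((d₂ : G) * (c₂ : G)⁻¹) * t₀⁻¹)
        calc t₀ * ((d₂ : G) * (c₂ : G)⁻¹) * t₀⁻¹ * (t₀ * s * t₀⁻¹) = t₀ * (((d₂ : G) * (c₂ : G)⁻¹) * s) * t₀⁻¹ := by group
          _ = t₀ * (s * ((d₂ : G) * (c₂ : G)⁻¹)) * t₀⁻¹ := by rw [e3.eq]
          _ = _ := by group
      exact e1.mul_right e2
    have h3 : (c₁ : G) = d₁ := by
      have := mul_eq_one_iff_eq_inv.1 h2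
      rw [inv_inj] at this
      exact this.symm
    have h4 : (c₂ : G) = d₂ := by
      rw [h3] at h
      exact mul_left_cancel h
    exact Prod.ext (Subtype.ext h3) (Subtype.ext h4)
  have hsub : ∀ x, f x ∈ D := by
    rintro ⟨c₁, c₂⟩
    rw [hD]
    refine ⟨(c₁ : G) * a₀ * (c₁ : G)⁻¹, ?_, ?_⟩
    · have h1 := BlkInd.isPPart_conj ha₀ (c₁ : G)
      have h2 : (c₁ : G) * (s * (t₀ * s * t₀⁻¹)) * (c₁ : G)⁻¹ =
          s * ((c₁ : G) * t₀ * c₂ * s * ((c₁ : G) * t₀ * c₂)⁻¹) := by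
        have e1 : (c₁ : G) * s = s * c₁ := hs _ c₁.2
        have e2 : (c₂ : G) * s = s * c₂ := hs _ c₂.2
        calc (c₁ : G) * (s * (t₀ * s * t₀⁻¹)) * (c₁ : G)⁻¹ = (c₁ * s) * t₀ * s * t₀⁻¹ * (c₁ : G)⁻¹ := by group
          _ = (s * c₁) * t₀ * s * t₀⁻¹ * (c₁ : G)⁻¹ := by rw [e1]
          _ = s * c₁ * t₀ * (s * c₂) * (c₂ : G)⁻¹ * t₀⁻¹ * (c₁ : G)⁻¹ := by group
          _ = s * c₁ * t₀ * (c₂ * s) * (c₂ : G)⁻¹ * t₀⁻¹ * (c₁ : G)⁻¹ := by rw [e2]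
          _ = _ := by group
      rw [h2] at h1
      exact h1
    · exact (isConj_iff.2 ⟨c₁, rfl⟩ : IsConj a₀ _).symm.trans hc₀
  have h5 : (Finset.univ.image f).card = Nat.card (T : Subgroup G) * Nat.card (T : Subgroup G) := by
    rw [Finset.card_image_of_injective _ hf, Finset.card_univ, Fintype.card_prod, Nat.card_eq_fintype_card]
  rw [← h5]
  apply Finset.card_le_card
  intro x hx
  obtain ⟨y, -, rfl⟩ := Finset.mem_image.1 hx
  exact hsub y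

end Cfsg.Agent.H4.K3
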