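import Cfsg.Agent.H4.K3CycD

set_option autoImplicit false
set_option linter.all false

/-! The cyclic case of S2219 (helper4), part E: the end. -/

namespace Cfsg.Agent.H4.K3

open Cfsg Subgroup Module
open Cfsg.Agent.CharBase
open scoped ComplexConjugate

universe u

variable {G : Type u} [Group G] [Finite G]

theorem CD.lower {P : Sylow 3 G} {M : Ideal AlgInt} {χ : IrrCharacter G}
    {Y : Set (IrrCharacter G)} (D : CD P M χ Y (-1) (-1)) {d : ℕ} (hd : H75.deg χ = d + 1) :
    1 + (d + 1) ^ 2 + 4 * d ^ 2 ≤ Nat.card G := by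
  classical
  haveI := Fintype.ofFinite (IrrCharacter G)
  rw [← H75.sum_deg_sq (G := G)]
  set YF := Finset.univ.filter (fun ψ : IrrCharacter G => ψ ∈ Y) with hYF
  have h1 : ∑ ψ ∈ insert (oneIrr G) (insert χ YF), H75.deg ψ ^ 2 ≤ ∑ ψ : IrrCharacter G, H75.deg ψ ^ 2 :=
    Finset.sum_le_sum_of_subset_of_nonneg (Finset.subset_univ _) (fun _ _ _ => Nat.zero_le _)
  have hcY : YF.card = 4 := by
    rw [← D.cardY, Nat.card_eq_fintype_card, hYF, Fintype.card_subtype]
  rw [Finset.sum_insert, Finset.sum_insert] at h1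
  · have h2 : ∑ ψ ∈ YF, H75.deg ψ ^ 2 = 4 * d ^ 2 := by
      rw [Finset.sum_congr rfl (g := fun _ => d ^ 2), Finset.sum_const, hcY, smul_eq_mul]
      intro η hη
      have h3 := D.degY (Finset.mem_filter.1 hη).2
      rw [hd] at h3
      have h4 : (H75.deg η : ℤ) = d := by rw [h3]; push_cast; ring
      have h5 : H75.deg η = d := by exact_mod_cast h4
      rw [h5]
    have h6 : H75.deg (oneIrr G) = 1 := by
      have := H75.deg_spec (oneIrr G)
      rw [oneIrr_apply] at this
      exact_mod_cast this.symm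
    rw [h2, hd, h6] at h1
    omega
  · rw [Finset.mem_filter]
    exact fun h => D.χY h.2
  · rw [Finset.mem_insert, Finset.mem_filter]
    rintro (h | h)
    · exact D.χ1 h.symm
    · exact D.oneY h.2

theorem finish [IsSimpleGroup G] (hG : ¬ IsMulCommutative G) {q A : ℕ} (hq : q.Prime)
    (hcard : Nat.card G = 9 * 2 ^ A * q) {P : Sylow 3 G} (hPc : IsCyclic (P : Subgroup G))
    (S : H92.ST.Sit P) (hc9 : Nat.card (P : Subgroup G) = 9) {M : Ideal AlgInt} {χ : IrrCharacter G}
    {Y : Set (IrrCharacter G)} (D : CD P M χ Y (-1) (-1))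
    (h : (q = 7 ∧ H75.deg χ = 8) ∨ (q = 17 ∧ H75.deg χ = 17)) : Nat.card G = 504 ∨ Nat.card G = 2448 := by
  classical
  haveI : Fact (Nat.Prime 2) := ⟨Nat.prime_two⟩
  haveI : Fact (Nat.Prime 3) := ⟨Nat.prime_three⟩
  haveI := Fintype.ofFinite G
  haveI := Fintype.ofFinite (IrrCharacter G)
  have hA : A ≠ 0 := by
    rintro rfl
    have h1 : Group.IsSolvable G := by
      refine S0144.result (G := G) 3 q 2 1 Nat.prime_three hq ?_
      rw [hcard]; norm_num
    have h2 := BR.perfect_of_simple hG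
    have h3 : IsSolvable G := h1
    have h4 := IsSolvable.commutator_lt_top_of_nontrivial G
    rw [h2] at h4
    exact lt_irrefl _ h4
  obtain ⟨T⟩ : Nonempty (Sylow 2 G) := inferInstance
  have h2G : 2 ∣ Nat.card G := by
    rw [hcard]; exact ((dvd_pow_self 2 hA).mul_left 9).mul_right q
  obtain ⟨s, hsT, hs1, hsc⟩ := exists_central T h2G
  have hs3 : ¬ 3 ∣ orderOf s := by
    intro h
    obtain ⟨k, hk⟩ := (IsPGroup.iff_orderOf.1 T.isPGroup') ⟨s, hsT⟩
    rw [Subgroup.orderOf_mk] at hk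
    rw [hk] at h
    have := (Nat.prime_dvd_prime_iff_eq Nat.prime_three Nat.prime_two).1 (Nat.prime_three.dvd_of_dvd_pow h)
    omega
  have hT : 2 ^ A ≤ Nat.card (T : Subgroup G) := by
    apply Nat.le_of_dvd Nat.card_pos
    apply T.pow_dvd_card_of_pow_dvd_card
    rw [hcard]; exact (Dvd.intro_left _ rfl : 2 ^ A ∣ 9 * 2 ^ A).mul_right q
  -- a generator of `P`
  obtain ⟨w, hw⟩ := hPc.exists_generator
  have hw1 : (w : G) ≠ 1 := by
    intro h1
    have h2 : w = 1 := Subtype.ext h1
    have h3 : Nat.card (P : Subgroup G) = 1 := by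
      rw [Nat.card_eq_one_iff_unique]
      refine ⟨⟨fun x y => ?_⟩, ⟨1⟩⟩
      have hx := hw x
      have hy := hw y
      rw [h2] at hx hy
      simp only [zpowers_one_eq_bot, mem_bot] at hx hy
      rw [hx, hy]
    omega
  have hd17 : H75.deg χ ≤ 17 := by rcases h with h | h <;> omega
  have hd1 : 1 < H75.deg χ := by rcases h with h | h <;> omega
  have hC : ∀ v : G, orderOf v = 2 → v * (w : G) ≠ (w : G) * v := by
    intro v hv hvw
    apply no_inv hG hc9 D hd17 hv
    intro y hy
    obtain ⟨k, hk⟩ := hw ⟨y, hy⟩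
    have h1 : (w : G) ^ k = y := congrArg Subtype.val hk
    rw [← h1]
    have : Commute v (w : G) := hvw
    exact (this.zpow_right k).eq.symm
  have hcount := D.count S hc9 hd1 (w := (w : G)) (s := s) w.2 hw1 hs3
  set DD := Finset.univ.filter (fun t : G => ∃ a, IsPPart 3 (s * (t * s * t⁻¹)) a ∧ IsConj a (w : G)) with hDD
  have hle : DD.Nonempty → Nat.card (T : Subgroup G) * Nat.card (T : Subgroup G) ≤ DD.card := fun hne =>
    card_le hsc hC DD (fun t => by rw [hDD, Finset.mem_filter]; simp) hne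
  have fin : ∀ m : ℕ, DD.card = 2 ^ A * m → 0 < m → 2 ^ A ≤ m := by
    intro m hm hm0
    have hne : DD.Nonempty := by
      rw [← Finset.card_pos, hm]
      positivity
    have h1 := hle hne
    rw [hm] at h1
    have h2 : 2 ^ A * 2 ^ A ≤ 2 ^ A * m := (Nat.mul_le_mul hT hT).trans h1
    exact Nat.le_of_mul_le_mul_left h2 (by positivity)
  rcases h with ⟨hq7, hd⟩ | ⟨hq17, hd⟩
  · left
    subst hq7
    have hχs := vanish hG T hsc hs1 D.χ1 (j := 3) (by rw [hd]; norm_num)
    rw [hχs, hd, hcard] at hcount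
    have h1 : (DD.card : ℂ) = ((2 ^ A * 8 : ℕ) : ℂ) := by
      push_cast at hcount ⊢
      have h9 : (9 : ℂ) ≠ 0 := by norm_num
      apply mul_left_cancel₀ h9
      rw [hcount]; ring
    have h2 : 2 ^ A ≤ 8 := fin 8 (by exact_mod_cast h1) (by norm_num)
    have h3 := D.lower (d := 7) (by rw [hd])
    rw [hcard] at h3 ⊢
    have h4 : A ≤ 3 := by
      by_contra hcon
      have : 2 ^ 4 ≤ 2 ^ A := Nat.pow_le_pow_right (by norm_num) (by omega)
      omega
    interval_cases A <;> first | (exfalso; norm_num at h3; done) | norm_num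
  · right
    subst hq17
    obtain ⟨η, hη⟩ := D.exists_Y
    have hη1 : η ≠ oneIrr G := by rintro rfl; exact D.oneY hη
    have hdη : H75.deg η = 2 ^ 4 := by
      have h3 := D.degY hη
      rw [hd] at h3
      have h4 : (H75.deg η : ℤ) = 16 := by rw [h3]; norm_num
      have h5 : H75.deg η = 16 := by exact_mod_cast h4
      rw [h5]; norm_num
    have hηs := vanish hG T hsc hs1 hη1 hdη
    have hχs : (χ : G → ℂ) s = 1 := by
      have h3 := D.reg η hη s hs3
      rw [hηs] at h3
      push_cast at h3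
      linear_combination -h3
    rw [hχs, hd, hcard] at hcount
    have h1 : (DD.card : ℂ) = ((2 ^ A * 16 : ℕ) : ℂ) := by
      push_cast at hcount ⊢
      have h9 : (9 : ℂ) ≠ 0 := by norm_num
      apply mul_left_cancel₀ h9
      rw [hcount]; ring
    have h2 : 2 ^ A ≤ 16 := fin 16 (by exact_mod_cast h1) (by norm_num)
    have h3 := D.lower (d := 16) (by rw [hd])
    rw [hcard] at h3 ⊢
    have h4 : A ≤ 4 := by
      by_contra hcon
      have : 2 ^ 5 ≤ 2 ^ A := Nat.pow_le_pow_right (by norm_num) (by omega)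
      omega
    interval_cases A <;> first | (exfalso; norm_num at h3; done) | norm_num

theorem cyclic_case [IsSimpleGroup G] (hG : ¬ IsMulCommutative G) {q A b : ℕ} (hq : q.Prime) (hq2 : q ≠ 2)
    (hq3 : q ≠ 3) (hcard : Nat.card G = 9 * 2 ^ A * q ^ b)
    (NL : ∀ i, Nat.card G = 9 * 2 ^ A * q → 6 ≤ i → (q = 2 ^ i + 1 ∨ q + 1 = 2 ^ i) → False)
    (P : Sylow 3 G) (hPc : IsCyclic (P : Subgroup G))
    (hidx : (centralizer ((P : Subgroup G) : Set G)).relIndex (normalizer ((P : Subgroup G) : Set G)) = 2)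
    (hN : ∀ n ∈ normalizer ((P : Subgroup G) : Set G), (∀ x ∈ (P : Subgroup G), n * x * n⁻¹ = x) ∨
      (∀ x ∈ (P : Subgroup G), n * x * n⁻¹ = x⁻¹)) : Nat.card G = 504 ∨ Nat.card G = 2448 := by
  have hc9 := card_P hq hq3 hcard P
  have hab : ∀ x ∈ (P : Subgroup G), ∀ y ∈ (P : Subgroup G), x * y = y * x := by
    intro x hx y hy
    obtain ⟨w, hw⟩ := hPc.exists_generator
    obtain ⟨i, hi⟩ := hw ⟨x, hx⟩
    obtain ⟨j, hj⟩ := hw ⟨y, hy⟩
    have h1 : (w : G) ^ i = x := congrArg Subtype.val hi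
    have h2 : (w : G) ^ j = y := congrArg Subtype.val hj
    rw [← h1, ← h2]
    exact ((Commute.refl (w : G)).zpow_zpow i j).eq
  obtain ⟨M, χ, Y, a, δ, D⟩ := cyc_data P hc9 hab hidx hN
  obtain ⟨hb, ha, hδ, hnum⟩ := cyc_num hG hq hq2 hq3 hcard hc9 D (by
    intro hb i hi hqi
    exact NL i (by rw [hcard, hb, pow_one]) hi hqi)
  subst ha hδ
  subst hb
  rw [pow_one] at hcard
  have S : H92.ST.Sit P := by
    refine ⟨by norm_num, fun x hx y hy => hab x hx y hy, ?_, ?_⟩
    · have h1 : ¬ normalizer ((P : Subgroup G) : Set G) ≤ centralizer ((P : Subgroup G) : Set G) := by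
        intro h
        rw [Subgroup.relIndex_eq_one.2 h] at hidx
        norm_num at hidx
      obtain ⟨n, hn, hnC⟩ := SetLike.not_le_iff_exists.1 h1
      rcases hN n hn with h2 | h2
      · exfalso
        apply hnC
        rw [mem_centralizer_iff]
        intro x hx
        exact (mul_inv_eq_iff_eq_mul.1 (h2 x hx)).symm
      · exact ⟨n⁻¹, fun x hx => by rw [inv_inv]; exact h2 x hx⟩
    · intro n hn
      rcases hN n⁻¹ (inv_mem hn) with h2 | h2
      · left; intro x hx; have := h2 x hx; rwa [inv_inv] at this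
      · right; intro x hx; have := h2 x hx; rwa [inv_inv] at this
  exact finish hG hq hcard hPc S hc9 D hnum

end Cfsg.Agent.H4.K3
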