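import Cfsg.Agent.H4.K3Tri
import Cfsg.Agent.H37.OrdA

set_option autoImplicit false
set_option linter.all false

/-! No large `q` in the cyclic case of S2219 (helper4). -/

namespace Cfsg.Agent.H4.K3

open Cfsg Subgroup Cfsg.Agent.BR
open Cfsg.Agent.CharBase (oneIrr)

universe u

theorem num_dvd {A i m q : ℕ} (hi : 6 ≤ i) (hqi : q = 2 ^ i + 1 ∨ q + 1 = 2 ^ i) (hm : m ∣ 9 * 2 ^ A) (hm1 : 1 < m)
    (hmq : (q : ℤ) ∣ (m : ℤ) - 1 ∨ (q : ℤ) ∣ (m : ℤ) + 1) : 2 ^ i ∣ m := by
  obtain ⟨c, t, hc, ht, rfl⟩ := exists_dvd_and_dvd_of_dvd_mul hm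
  obtain ⟨α, -, rfl⟩ := (Nat.dvd_prime_pow Nat.prime_two).1 ht
  have hc9 : c ≤ 9 := Nat.le_of_dvd (by norm_num) hc
  have hc0 : 0 < c := Nat.pos_of_dvd_of_pos hc (by norm_num)
  have hi64 : 64 ≤ 2 ^ i := by
    calc 64 = 2 ^ 6 := by norm_num
      _ ≤ 2 ^ i := Nat.pow_le_pow_right (by norm_num) hi
  by_cases hα : i ≤ α
  · exact (pow_dvd_pow 2 hα).mul_left c
  exfalso
  have hα' : α + 1 ≤ i := by omega
  obtain ⟨N, hN⟩ : ∃ N, 2 ^ i = 2 ^ α * N := ⟨2 ^ (i - α), by rw [← pow_add]; congr 1; omega⟩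
  have hN2 : 2 ∣ N := by
    have h1 : 2 ^ α * 2 ∣ 2 ^ α * N := by rw [← hN, ← pow_succ]; exact pow_dvd_pow 2 hα'
    exact Nat.dvd_of_mul_dvd_mul_left (by positivity) h1
  obtain ⟨N', rfl⟩ := hN2
  set a := 2 ^ α with ha
  have ha0 : 0 < a := by positivity
  have hN0 : 0 < N' := by
    rcases Nat.eq_zero_or_pos N' with h | h
    · rw [h] at hN; omega
    · exact h
  have hle : 2 * (c * a) ≤ 9 * 2 ^ i := by
    rw [hN]
    calc 2 * (c * a) = (2 * a) * c := by ring
      _ ≤ (2 * a) * 9 := Nat.mul_le_mul_left _ hc9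
      _ = 9 * (a * (2 * 1)) := by ring
      _ ≤ 9 * (a * (2 * N')) := by
        apply Nat.mul_le_mul_left
        apply Nat.mul_le_mul_left
        apply Nat.mul_le_mul_left
        exact hN0
  -- `a` is small
  have small : ∀ z : ℤ, (a : ℤ) ∣ z → z ≠ 0 → |z| ≤ 6 → a ≤ 6 := by
    intro z hz hz0 hz6
    have h1 := Int.le_of_dvd (abs_pos.2 hz0) ((dvd_abs _ _).2 hz)
    have h2 : (a : ℤ) ≤ 6 := h1.trans hz6
    exact_mod_cast h2
  have hno : ¬ a ≤ 6 := by
    intro h6
    have hα2 : α ≤ 2 := by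
      by_contra hcon
      have : 2 ^ 3 ≤ 2 ^ α := Nat.pow_le_pow_right (by norm_num) (by omega)
      omega
    have ha4 : a ≤ 4 := by
      calc a = 2 ^ α := ha
        _ ≤ 2 ^ 2 := Nat.pow_le_pow_right (by norm_num) hα2
        _ = 4 := by norm_num
    have h1 : c * a ≤ 36 := by
      calc c * a ≤ 9 * 4 := Nat.mul_le_mul hc9 ha4
        _ = 36 := by norm_num
    have h2 : (q : ℤ) ≤ (c * a : ℕ) + 1 := by
      rcases hmq with h | h
      · have := Int.le_of_dvd (by omega) h
        omega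
      · exact Int.le_of_dvd (by omega) h
    omega
  have hadvd : (a : ℤ) ∣ (2 ^ i : ℕ) := by
    rw [hN]; push_cast; exact Dvd.intro _ rfl
  have hcdvd : (a : ℤ) ∣ (c * a : ℕ) := by push_cast; exact Dvd.intro_left _ rfl
  -- `c` odd
  have hcne : c * a ≠ 2 ^ i := by
    intro h
    rw [hN] at h
    have h1 : c = 2 * N' := Nat.eq_of_mul_eq_mul_right ha0 (by rw [h]; ring)
    have h2 : 2 ∣ c := ⟨N', h1⟩
    have h3 : 2 ∣ 9 := h2.trans hc
    omega
  set m := c * a with hmdef
  set I := 2 ^ i with hI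
  rcases hmq with ⟨k, hk⟩ | ⟨k, hk⟩
  · have hk0 : 0 < k := by
      by_contra hcon
      push Not at hcon
      have : (q : ℤ) * k ≤ 0 := by
        have : (0 : ℤ) ≤ q := by positivity
        nlinarith
      omega
    rcases hqi with h | h
    · have hqI : (q : ℤ) = I + 1 := by rw [h]; push_cast; ring
      have hk5 : k ≤ 5 := by
        by_contra hcon
        push Not at hcon
        rw [hqI] at hk
        nlinarith
      rw [hqI] at hk
      have h3 : (a : ℤ) ∣ k + 1 := by
        have : (k + 1 : ℤ) = (m : ℕ) - (I : ℕ) * k := by linear_combination -hk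
        rw [this]
        exact dvd_sub hcdvd (hadvd.mul_right _)
      exact hno (small _ h3 (by omega) (by rw [abs_of_pos (by omega)]; omega))
    · have hqI : (q : ℤ) = I - 1 := by
        have : (q : ℤ) + 1 = I := by exact_mod_cast h
        linear_combination this
      have hk5 : k ≤ 5 := by
        by_contra hcon
        push Not at hcon
        rw [hqI] at hk
        nlinarith
      rw [hqI] at hk
      have h3 : (a : ℤ) ∣ -k + 1 := by
        have : (-k + 1 : ℤ) = (m : ℕ) - (I : ℕ) * k := by linear_combination -hk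
        rw [this]
        exact dvd_sub hcdvd (hadvd.mul_right _)
      by_cases hk1 : k = 1
      · apply hcne
        rw [hk1] at hk
        have : (m : ℤ) = I := by linear_combination hk
        exact_mod_cast this
      · exact hno (small _ h3 (by omega) (by rw [abs_of_neg (by omega)]; omega))
  · have hk0 : 0 < k := by
      by_contra hcon
      push Not at hcon
      have : (q : ℤ) * k ≤ 0 := by
        have : (0 : ℤ) ≤ q := by positivity
        nlinarith
      omega
    rcases hqi with h | h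
    · have hqI : (q : ℤ) = I + 1 := by rw [h]; push_cast; ring
      have hk5 : k ≤ 5 := by
        by_contra hcon
        push Not at hcon
        rw [hqI] at hk
        nlinarith
      rw [hqI] at hk
      have h3 : (a : ℤ) ∣ k - 1 := by
        have : (k - 1 : ℤ) = (m : ℕ) - (I : ℕ) * k := by linear_combination -hk
        rw [this]
        exact dvd_sub hcdvd (hadvd.mul_right _)
      by_cases hk1 : k = 1
      · apply hcne
        rw [hk1] at hk
        have : (m : ℤ) = I := by linear_combination hk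
        exact_mod_cast this
      · exact hno (small _ h3 (by omega) (by rw [abs_of_pos (by omega)]; omega))
    · have hqI : (q : ℤ) = I - 1 := by
        have : (q : ℤ) + 1 = I := by exact_mod_cast h
        linear_combination this
      have hk5 : k ≤ 5 := by
        by_contra hcon
        push Not at hcon
        rw [hqI] at hk
        nlinarith
      rw [hqI] at hk
      have h3 : (a : ℤ) ∣ -k - 1 := by
        have : (-k - 1 : ℤ) = (m : ℕ) - (I : ℕ) * k := by linear_combination -hk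
        rw [this]
        exact dvd_sub hcdvd (hadvd.mul_right _)
      exact hno (small _ h3 (by omega) (by rw [abs_of_neg (by omega)]; omega))

theorem no_large {G : Type u} [Group G] [Finite G] [IsSimpleGroup G] (hG : ¬ IsMulCommutative G) {q A i : ℕ}
    (hq : q.Prime) (hcard : Nat.card G = 9 * 2 ^ A * q) (hi : 6 ≤ i) (hqi : q = 2 ^ i + 1 ∨ q + 1 = 2 ^ i) :
    False := by
  classical
  haveI := Fact.mk hq
  have hi64 : 64 ≤ 2 ^ i := by
    calc 64 = 2 ^ 6 := by norm_num
      _ ≤ 2 ^ i := Nat.pow_le_pow_right (by norm_num) hi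
  have hnp : ¬ (Nat.card G).Prime := by
    intro h
    apply hG
    haveI := Fact.mk h
    haveI := isCyclic_of_prime_card (α := G) (p := Nat.card G) rfl
    exact ⟨⟨fun a b => by
      obtain ⟨g, hg⟩ := IsCyclic.exists_generator (α := G)
      obtain ⟨m, rfl⟩ := hg a
      obtain ⟨n, rfl⟩ := hg b
      exact ((Commute.refl g).zpow_zpow m n).eq⟩⟩
  obtain ⟨S⟩ : Nonempty (Sylow q G) := inferInstance
  have hq9 : ¬ q ∣ 9 * 2 ^ A := by
    intro h
    rcases hq.dvd_mul.1 h with h1 | h1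
    · have := Nat.le_of_dvd (by norm_num) h1
      omega
    · have := (Nat.prime_dvd_prime_iff_eq hq Nat.prime_two).1 (hq.dvd_of_dvd_pow h1)
      omega
  obtain ⟨hSp, n, v, hn, hv, har⟩ := H37.Ord.arith (G := G) (p := q) (m := 9 * 2 ^ A)
    (by rw [hcard, mul_comm]) hq9 hnp S
  obtain ⟨B⟩ := CycG.nonempty_data hSp
  have hperf := BR.perfect_of_simple hG
  have hdeg1 : ∀ χ : IrrCharacter G, χ ≠ oneIrr G → 1 < dg χ := by
    intro χ hχ
    have h1 := dg_pos χ
    have h2 : dg χ ≠ 1 := fun h => hχ (eq_one_of_perfect hperf h)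
    omega
  have hdvd : ∀ d : ℕ, d ∣ ind (S : Subgroup G) * (normalizer ((S : Subgroup G) : Set G)).index → d ∣ 9 * 2 ^ A := by
    intro d hd
    refine hd.trans ?_
    rw [har.hm, hn]
    exact ⟨v, by ring⟩
  obtain ⟨ψ, hψ⟩ := B.Y_nonempty hq.two_le
  have hψ1 : ψ ≠ oneIrr G := by
    rintro rfl
    exact (Finset.disjoint_left.1 B.disj) B.one_mem hψ
  have hsum : 1 + ∑ χ ∈ B.X.erase (oneIrr G), B.δ χ * (dg χ : ℤ) + B.δ₀ * (dg ψ : ℤ) = 0 := by
    have h1 := B.degEq hψ
    rw [← Finset.add_sum_erase _ _ B.one_mem, B.δ_one hSp] at h1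
    have h2 : dg (oneIrr G) = 1 := by
      have h3 := dg_eq (oneIrr G)
      rw [CharBase.oneIrr_apply] at h3
      exact_mod_cast h3.symm
    rw [h2] at h1
    simpa using h1
  have hX : ((2 ^ i : ℕ) : ℤ) ∣ ∑ χ ∈ B.X.erase (oneIrr G), B.δ χ * (dg χ : ℤ) := by
    apply Finset.dvd_sum
    intro χ hχ
    have hχX := Finset.mem_of_mem_erase hχ
    have hχ1 := Finset.ne_of_mem_erase hχ
    have h1 := B.congr_X hSp hχX
    have h2 : 2 ^ i ∣ dg χ := by
      apply num_dvd hi hqi (hdvd _ (B.dvd_X hSp hχX)) (hdeg1 χ hχ1)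
      rcases B.sgn χ hχX with h | h
      · left; rw [h] at h1; exact h1
      · right; rw [h] at h1; simpa using h1
    exact (Int.natCast_dvd_natCast.2 h2).mul_left _
  have h3 : ((2 ^ i : ℕ) : ℤ) ∣ 1 + B.δ₀ * (dg ψ : ℤ) := by
    have : 1 + B.δ₀ * (dg ψ : ℤ) = -(∑ χ ∈ B.X.erase (oneIrr G), B.δ χ * (dg χ : ℤ)) := by linear_combination hsum
    rw [this]
    exact (dvd_neg).2 hX
  have hψd := hdvd _ (B.dvd_Y hSp hψ)
  have hodd : ¬ 2 ∣ dg ψ := by
    intro h
    obtain ⟨k, hk⟩ := h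
    obtain ⟨l, hl⟩ := h3
    obtain ⟨j, rfl⟩ : ∃ j, i = j + 1 := ⟨i - 1, by omega⟩
    rw [hk, pow_succ] at hl
    push_cast at hl
    rcases B.sgn₀ with h | h <;> rw [h] at hl
    · have : (2 : ℤ) ∣ 1 := ⟨2 ^ j * l - k, by linear_combination hl⟩
      norm_num at this
    · have : (2 : ℤ) ∣ 1 := ⟨2 ^ j * l + k, by linear_combination hl⟩
      norm_num at this
  have h9 : dg ψ ∣ 9 := by
    have hcop : Nat.Coprime (dg ψ) (2 ^ A) :=
      Nat.Coprime.pow_right _ ((Nat.Prime.coprime_iff_not_dvd Nat.prime_two).2 hodd).symm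
    exact hcop.dvd_of_dvd_mul_right hψd
  have hle := Nat.le_of_dvd (by norm_num) h9
  have hlt := hdeg1 ψ hψ1
  have h5 : 1 + B.δ₀ * (dg ψ : ℤ) ≠ 0 := by
    rcases B.sgn₀ with h | h <;> rw [h] <;> omega
  have h6 := Int.le_of_dvd (abs_pos.2 h5) ((dvd_abs _ _).2 h3)
  have h7 : |1 + B.δ₀ * (dg ψ : ℤ)| ≤ 10 := by
    rw [abs_le]
    rcases B.sgn₀ with h | h <;> rw [h] <;> constructor <;> omega
  have h8 : ((2 ^ i : ℕ) : ℤ) ≤ 10 := h6.trans h7
  have : 2 ^ i ≤ 10 := by exact_mod_cast h8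
  omega

end Cfsg.Agent.H4.K3
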