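import Cfsg.Agent.H4.K3Def
import Cfsg.Agent.BT.Kernel
import Cfsg.Agent.BR.Rows2
import Cfsg.Agent.H79.ProdChar
import Cfsg.Agent.S0144

set_option autoImplicit false
set_option linter.all false

/-! The three-term relation lemma for S2219 (helper4). -/

namespace Cfsg.Agent.H4.K3

open Cfsg Subgroup
open Cfsg.Agent.CharBase

universe u

section arith

theorem form_of_dvd {q a b d : ℕ} (hq : q.Prime) (hd : d ∣ 9 * 2 ^ a * q ^ b) (h3 : ¬ 3 ∣ d) :
    ∃ i j, d = 2 ^ i * q ^ j := by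
  have h1 : d.Coprime 9 := by
    have : d.Coprime 3 := ((Nat.Prime.coprime_iff_not_dvd Nat.prime_three).2 h3).symm
    exact Nat.Coprime.pow_right 2 this
  have h2 : d ∣ 2 ^ a * q ^ b := by
    rw [mul_assoc] at hd
    exact h1.dvd_of_dvd_mul_left hd
  obtain ⟨u, v, hu, hv, rfl⟩ := exists_dvd_and_dvd_of_dvd_mul h2
  obtain ⟨i, -, rfl⟩ := (Nat.dvd_prime_pow Nat.prime_two).1 hu
  obtain ⟨j, -, rfl⟩ := (Nat.dvd_prime_pow hq).1 hv
  exact ⟨i, j, rfl⟩

/-- `q ^ j = 2 ^ i ± 1` forces `j = 1` for a prime `q > 3`. -/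
theorem exp_one {q i j : ℕ} (hq : q.Prime) (hq5 : 5 ≤ q) (h : q ^ j = 2 ^ i + 1 ∨ q ^ j + 1 = 2 ^ i)
    (hj : j ≠ 0) : j = 1 := by
  have hodd : q % 2 = 1 := by
    rcases hq.eq_two_or_odd with h | h
    · omega
    · exact h
  have hqj : 5 ≤ q ^ j := by
    calc 5 ≤ q := hq5
      _ = q ^ 1 := (pow_one q).symm
      _ ≤ q ^ j := Nat.pow_le_pow_right hq.pos (by omega)
  have hi2 : 2 ≤ i := by
    by_contra hcon
    have : i = 0 ∨ i = 1 := by omega
    rcases this with rfl | rfl <;> rcases h with h | h <;> omega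
  have h4 : 4 ∣ 2 ^ i := by
    calc 4 = 2 ^ 2 := by norm_num
      _ ∣ 2 ^ i := pow_dvd_pow 2 hi2
  rcases Nat.even_or_odd j with he | ho
  · -- `j` even
    obtain ⟨m, hm⟩ := he
    have hm1 : 1 ≤ m := by omega
    set r := q ^ m with hr
    have hrr : q ^ j = r * r := by rw [hm, pow_add]
    have hr5 : 5 ≤ r := by
      calc 5 ≤ q := hq5
        _ = q ^ 1 := (pow_one q).symm
        _ ≤ q ^ m := Nat.pow_le_pow_right hq.pos hm1
    have hrodd : r % 2 = 1 := by
      rw [hr, Nat.pow_mod, hodd, one_pow]; rfl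
    rcases h with h | h
    · -- `(r-1)(r+1) = 2^i`
      have h5 : (r - 1) * (r + 1) = 2 ^ i := by
        have : r * r = 2 ^ i + 1 := by rw [← hrr, h]
        obtain ⟨s, hs⟩ : ∃ s, r = s + 1 := ⟨r - 1, by omega⟩
        rw [hs] at this ⊢
        simp only [Nat.add_sub_cancel]
        nlinarith
      obtain ⟨u, -, hu⟩ := (Nat.dvd_prime_pow Nat.prime_two).1 (Dvd.intro _ h5)
      obtain ⟨v, -, hv⟩ := (Nat.dvd_prime_pow Nat.prime_two).1 (Dvd.intro_left _ h5)
      have hu2 : 2 ≤ u := by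
        by_contra hcon
        have : u = 0 ∨ u = 1 := by omega
        rcases this with rfl | rfl <;> simp at hu <;> omega
      have hv2 : 2 ≤ v := by
        by_contra hcon
        have : v = 0 ∨ v = 1 := by omega
        rcases this with rfl | rfl <;> simp at hv <;> omega
      have h6 : 4 ∣ r - 1 := by rw [hu]; exact (by norm_num : (4:ℕ) = 2 ^ 2) ▸ pow_dvd_pow 2 hu2
      have h7 : 4 ∣ r + 1 := by rw [hv]; exact (by norm_num : (4:ℕ) = 2 ^ 2) ▸ pow_dvd_pow 2 hv2
      omega
    · have h5 : r * r % 4 = 1 := by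
        have : r % 4 = 1 ∨ r % 4 = 3 := by omega
        rcases this with h | h <;> simp [Nat.mul_mod, h]
      rw [hrr] at h
      omega
  · -- `j` odd
    obtain ⟨m, hm⟩ := ho
    rcases h with h | h
    · -- `q^j - 1 = (q-1)·(odd)`
      have h5 : ∃ s, Odd s ∧ q ^ j - 1 = (q - 1) * s := by
        refine ⟨∑ k ∈ Finset.range j, q ^ k, ?_, ?_⟩
        · rw [Finset.odd_sum_iff_odd_card_odd]
          have : (Finset.range j).filter (fun k => Odd (q ^ k)) = Finset.range j := by
            apply Finset.filter_true_of_mem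
            intro k _
            exact (Nat.odd_iff.2 hodd).pow
          rw [this, Finset.card_range]
          exact ⟨m, hm⟩
        · have := Nat.geomSum_eq (m := q) (by omega) j
          have h6 : (q - 1) ∣ q ^ j - 1 := by
            simpa using Nat.sub_dvd_pow_sub_pow q 1 j
          rw [this, Nat.mul_div_cancel' h6]
      obtain ⟨s, hs, hs'⟩ := h5
      have h7 : s ∣ 2 ^ i := by
        have : q ^ j - 1 = 2 ^ i := by omega
        rw [← this, hs']
        exact Dvd.intro_left _ rfl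
      obtain ⟨u, -, hu⟩ := (Nat.dvd_prime_pow Nat.prime_two).1 h7
      have hu0 : u = 0 := by
        by_contra hcon
        rw [hu] at hs
        exact (Nat.not_odd_iff_even.2 ((Nat.even_pow.2 ⟨even_two, hcon⟩))) hs
      rw [hu0, pow_zero] at hu
      rw [hu, mul_one] at hs'
      have h8 : q ^ j = q ^ 1 := by rw [pow_one]; omega
      exact Nat.pow_right_injective hq.two_le h8
    · -- `q^j + 1 = (q+1)·(odd)`
      have h5 : ∃ s : ℤ, Odd s ∧ ((q : ℤ) ^ j + 1) = (q + 1) * s := by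
        refine ⟨∑ k ∈ Finset.range j, (-(q : ℤ)) ^ k, ?_, ?_⟩
        · have hno : Odd (-(q : ℤ)) := by
            rw [Int.odd_iff]
            omega
          have key : ∀ n : ℕ, (Odd n → Odd (∑ k ∈ Finset.range n, (-(q : ℤ)) ^ k)) ∧
              (Even n → Even (∑ k ∈ Finset.range n, (-(q : ℤ)) ^ k)) := by
            intro n
            induction n with
            | zero => simp
            | succ n ih =>
              rw [Finset.sum_range_succ]
              constructor
              · intro h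
                have h1 : Even n := by
                  rcases Nat.even_or_odd n with h2 | h2
                  · exact h2
                  · exact absurd h (Nat.not_odd_iff_even.2 h2.add_one)
                exact (ih.2 h1).add_odd hno.pow
              · intro h
                have h1 : Odd n := by
                  rcases Nat.even_or_odd n with h2 | h2
                  · exact absurd h (Nat.not_even_iff_odd.2 h2.add_one)
                  · exact h2
                exact (ih.1 h1).add_odd hno.pow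
          exact (key j).1 ⟨m, hm⟩
        · have h6 := mul_neg_geom_sum (-(q : ℤ)) j
          have h7 : (-(q : ℤ)) ^ j = -(q : ℤ) ^ j := Odd.neg_pow ⟨m, hm⟩ _
          rw [h7] at h6
          linear_combination -h6
      obtain ⟨s, hs, hs'⟩ := h5
      have h7 : s ∣ 2 ^ i := by
        have : ((q : ℤ) ^ j + 1) = 2 ^ i := by exact_mod_cast h
        rw [← this, hs']
        exact Dvd.intro_left _ rfl
      have h9 : s.natAbs ∣ 2 ^ i := by
        have := Int.natAbs_dvd_natAbs.2 h7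
        simpa [Int.natAbs_pow] using this
      obtain ⟨u, -, hu⟩ := (Nat.dvd_prime_pow Nat.prime_two).1 h9
      have hu0 : u = 0 := by
        by_contra hcon
        have h10 : Odd s.natAbs := Int.natAbs_odd.2 hs
        rw [hu] at h10
        exact (Nat.not_odd_iff_even.2 ((Nat.even_pow.2 ⟨even_two, hcon⟩))) h10
      rw [hu0, pow_zero] at hu
      have hs1 : s = 1 := by
        rcases Int.natAbs_eq s with h | h
        · rw [h, hu]; rfl
        · exfalso
          rw [hu] at h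
          rw [h] at hs'
          have : (0 : ℤ) < (q : ℤ) ^ j := by positivity
          have : (0 : ℤ) < q := by exact_mod_cast hq.pos
          push_cast at hs'
          linarith
      rw [hs1, mul_one] at hs'
      have h8 : q ^ j = q ^ 1 := by
        rw [pow_one]
        have : (q : ℤ) ^ j = q := by linarith
        exact_mod_cast this
      exact Nat.pow_right_injective hq.two_le h8

/-- two consecutive numbers of the form `2 ^ i q ^ j`, both `> 1` -/
theorem consecutive {q a b d e : ℕ} (hq : q.Prime) (hq5 : 5 ≤ q) (hd : d ∣ 9 * 2 ^ a * q ^ b) (hd3 : ¬ 3 ∣ d)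
    (he : e ∣ 9 * 2 ^ a * q ^ b) (he3 : ¬ 3 ∣ e) (hd1 : 1 < d) (hed : e = d + 1) :
    (d = q ∧ ∃ i, e = 2 ^ i) ∨ (e = q ∧ ∃ i, d = 2 ^ i) := by
  obtain ⟨i, j, hij⟩ := form_of_dvd hq hd hd3
  obtain ⟨i', j', hij'⟩ := form_of_dvd hq he he3
  have hqodd : Odd q := hq.odd_of_ne_two (by omega)
  have key : ∀ i j i' j' : ℕ, ∀ d e : ℕ, d = 2 ^ i * q ^ j → e = 2 ^ i' * q ^ j' → Odd d → 1 < d → d.Coprime e →
      (e = d + 1 ∨ d = e + 1) → d = q ∧ ∃ i, e = 2 ^ i := by
    intro i j i' j' d e hd he ho hd1 hc h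
    have hi : i = 0 := by
      by_contra hcon
      rw [hd] at ho
      have : Even (2 ^ i * q ^ j) := (Nat.even_pow.2 ⟨even_two, hcon⟩).mul_right _
      exact (Nat.not_odd_iff_even.2 this) ho
    rw [hi, pow_zero, one_mul] at hd
    have hj : j ≠ 0 := by
      rintro rfl
      rw [pow_zero] at hd
      omega
    have hj' : j' = 0 := by
      by_contra hcon
      have h1 : q ∣ d := by rw [hd]; exact dvd_pow_self q hj
      have h2 : q ∣ e := by rw [he]; exact (dvd_pow_self q hcon).mul_left _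
      have h3 := Nat.dvd_gcd h1 h2
      rw [hc] at h3
      exact hq.one_lt.ne' (Nat.dvd_one.1 h3)
    rw [hj', pow_zero, mul_one] at he
    have h1 := exp_one (i := i') hq hq5 (by rw [← hd, ← he]; omega) hj
    rw [h1, pow_one] at hd
    exact ⟨hd, i', he⟩
  have hcop : d.Coprime e := by
    rw [hed]
    simp
  rcases Nat.even_or_odd d with hev | ho
  · right
    have ho : Odd e := by rw [hed]; exact hev.add_one
    exact key i' j' i j e d hij' hij ho (by omega) hcop.symm (Or.inr hed)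
  · left
    exact key i j i' j' d e hij hij' ho hd1 hcop (Or.inl hed)

end arith

section grp

open scoped ComplexConjugate

variable {G : Type u} [Group G] [Finite G] [IsSimpleGroup G]

theorem deg_eq_dg (χ : IrrCharacter G) : H75.deg χ = BR.dg χ := (H75.charDegree_eq_deg χ).symm

theorem one_lt_deg (hG : ¬ IsMulCommutative G) {χ : IrrCharacter G} (h : χ ≠ oneIrr G) : 1 < H75.deg χ := by
  have h1 := H75.deg_pos χ
  have h2 : H75.deg χ ≠ 1 := fun h3 =>
    h (BR.eq_one_of_perfect (BR.perfect_of_simple hG) (by rw [← deg_eq_dg]; exact h3))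
  omega

theorem center_bot (hG : ¬ IsMulCommutative G) : center G = ⊥ := by
  rcases (inferInstance : (center G).Normal).eq_bot_or_eq_top with h | h
  · exact h
  · exfalso
    apply hG
    refine ⟨⟨fun a b => ?_⟩⟩
    have h1 : b ∈ center G := by rw [h]; trivial
    exact (mem_center_iff.1 h1 a)

/-- Burnside vanishing -/
theorem vanish (hG : ¬ IsMulCommutative G) {r : ℕ} [hr : Fact r.Prime] (Q : Sylow r G) {x : G}
    (hxc : ∀ y ∈ (Q : Subgroup G), y * x = x * y) (hx1 : x ≠ 1) {χ : IrrCharacter G}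
    (hχ : χ ≠ oneIrr G) {j : ℕ} (hd : H75.deg χ = r ^ j) : (χ : G → ℂ) x = 0 := by
  apply BT.eq_zero_of_coprime (fun g hg => BT.faithful_of_simple hχ hg)
  · rw [center_bot hG, mem_bot]; exact hx1
  · rw [← deg_eq_dg, hd]
    apply Nat.Coprime.pow_left
    rw [Nat.Prime.coprime_iff_not_dvd hr.out]
    intro h
    apply Q.not_dvd_index
    refine h.trans ?_
    apply Subgroup.index_dvd_of_le
    intro y hy
    rw [mem_centralizer_singleton_iff]
    exact hxc y hy

theorem exists_central {r : ℕ} [hr : Fact r.Prime] (Q : Sylow r G) (hQ : r ∣ Nat.card G) :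
    ∃ x ∈ (Q : Subgroup G), x ≠ 1 ∧ ∀ y ∈ (Q : Subgroup G), y * x = x * y := by
  have h1 : r ∣ Nat.card (Q : Subgroup G) := Q.dvd_card_of_dvd_card hQ
  haveI : Nontrivial (Q : Subgroup G) := by
    rw [← Finite.one_lt_card_iff_nontrivial]
    exact lt_of_lt_of_le hr.out.one_lt (Nat.le_of_dvd Nat.card_pos h1)
  haveI := Q.isPGroup'.center_nontrivial
  obtain ⟨z, hz⟩ := exists_ne (1 : center (Q : Subgroup G))
  refine ⟨((z : (Q : Subgroup G)) : G), (z : (Q : Subgroup G)).2, ?_, ?_⟩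
  · intro h
    apply hz
    apply Subtype.ext
    apply Subtype.ext
    exact h
  · intro y hy
    have := mem_center_iff.1 z.2 ⟨y, hy⟩
    exact congrArg Subtype.val this

theorem van (hG : ¬ IsMulCommutative G) {q a b : ℕ} (hq : q.Prime) (hq2 : q ≠ 2) (hq3 : q ≠ 3)
    (hcard : Nat.card G = 9 * 2 ^ a * q ^ b) : Van G q := by
  haveI := Fact.mk hq
  have hb : b ≠ 0 := by
    rintro rfl
    have h1 : Group.IsSolvable G := by
      refine S0144.result (G := G) 3 2 2 a Nat.prime_three Nat.prime_two ?_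
      rw [hcard]; norm_num
    apply hG
    have h2 := BR.perfect_of_simple hG
    exfalso
    have h3 : IsSolvable G := h1
    have h4 := IsSolvable.commutator_lt_top_of_nontrivial G
    rw [h2] at h4
    exact lt_irrefl _ h4
  obtain ⟨Q⟩ : Nonempty (Sylow q G) := inferInstance
  have hqG : q ∣ Nat.card G := by rw [hcard]; exact (dvd_pow_self q hb).mul_left _
  obtain ⟨x, hx, hx1, hxc⟩ := exists_central Q hqG
  refine ⟨x, hx1, ?_, fun χ j hχ hd => vanish hG Q hxc hx1 hχ hd⟩
  intro h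
  obtain ⟨k, hk⟩ := (IsPGroup.iff_orderOf.1 Q.isPGroup') ⟨x, hx⟩
  rw [Subgroup.orderOf_mk] at hk
  rw [hk] at h
  exact hq3 ((Nat.prime_dvd_prime_iff_eq Nat.prime_three hq).1 (Nat.prime_three.dvd_of_dvd_pow h)).symm

/-- the Sylow `q`-subgroup has order `q`. -/
theorem b_one (hG : ¬ IsMulCommutative G) {q a b : ℕ} (hq : q.Prime) (hq5 : 5 ≤ q)
    (hcard : Nat.card G = 9 * 2 ^ a * q ^ b) {σ ρ : IrrCharacter G} {ε₁ ε₂ : ℤ}
    (h1 : ε₁ = 1 ∨ ε₁ = -1) (h2 : ε₂ = 1 ∨ ε₂ = -1) (hσ1 : σ ≠ oneIrr G) (hρ1 : ρ ≠ oneIrr G)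
    (hσ : H75.deg σ = q) (hρ : H75.deg ρ ≤ q + 1)
    (hrel : ∀ g : G, ¬ 3 ∣ orderOf g → 1 + (ε₁ : ℂ) * (σ : G → ℂ) g + (ε₂ : ℂ) * (ρ : G → ℂ) g = 0) :
    b = 1 := by
  classical
  haveI := Fact.mk hq
  haveI := Fintype.ofFinite G
  obtain ⟨Q⟩ : Nonempty (Sylow q G) := inferInstance
  have hqG : q ∣ Nat.card G := by rw [← hσ]; exact H75.deg_dvd σ
  have hreg : ∀ x ∈ (Q : Subgroup G), ¬ 3 ∣ orderOf x := by
    intro x hx h
    obtain ⟨k, hk⟩ := (IsPGroup.iff_orderOf.1 Q.isPGroup') ⟨x, hx⟩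
    rw [Subgroup.orderOf_mk] at hk
    rw [hk] at h
    have := (Nat.prime_dvd_prime_iff_eq Nat.prime_three hq).1 (Nat.prime_three.dvd_of_dvd_pow h)
    omega
  have hσx : ∀ x : G, (∀ y ∈ (Q : Subgroup G), y * x = x * y) → x ≠ 1 → (σ : G → ℂ) x = 0 :=
    fun x hxc hx1 => vanish hG Q hxc hx1 hσ1 (j := 1) (by rw [hσ, pow_one])
  have hρx : ∀ x ∈ (Q : Subgroup G), (∀ y ∈ (Q : Subgroup G), y * x = x * y) → x ≠ 1 → ‖(ρ : G → ℂ) x‖ = 1 := by
    intro x hx hxc hx1
    have h3 := hrel x (hreg x hx)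
    rw [hσx x hxc hx1, mul_zero, add_zero] at h3
    rcases h2 with h2 | h2
    · rw [h2] at h3
      have h4 : (ρ : G → ℂ) x = -1 := by
        push_cast at h3; linear_combination h3
      rw [h4]; simp
    · rw [h2] at h3
      have h4 : (ρ : G → ℂ) x = 1 := by
        push_cast at h3; linear_combination -h3
      rw [h4]; simp
  -- `Q` is commutative
  have hcomm : ∀ x y : (Q : Subgroup G), x * y = y * x := by
    haveI : Fintype (IrrCharacter (Q : Subgroup G)) := Fintype.ofFinite _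
    haveI : Fintype (Q : Subgroup G) := Fintype.ofFinite _
    have hres := isCharacter_restrict (irr_isCharacter ρ) (Q : Subgroup G)
    refine H75.comm_of_faithful_linear hres ?_ ?_
    · intro g hg
      have := BT.faithful_of_simple hρ1 (g := (g : G)) (by simpa using hg)
      exact Subtype.ext this
    · intro ψ hψ
      by_contra hne
      obtain ⟨m, hm, hsum⟩ := exists_mult_of_isCharacter hres
      have hmψ : m ψ ≠ 0 := by
        intro h0
        apply hψ
        convert (show classInner (fun x : (Q : Subgroup G) => (ρ : G → ℂ) x) (ψ : ↥(Q : Subgroup G) → ℂ) = 0 by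
          rw [hm ψ, h0]; simp)
      -- degree
      have hψd : ∃ k, H75.deg ψ = q ^ k := by
        have h3 := H75.deg_dvd ψ
        obtain ⟨n, hn⟩ := IsPGroup.iff_card.1 Q.isPGroup'
        rw [hn] at h3
        obtain ⟨k, -, hk⟩ := (Nat.dvd_prime_pow hq).1 h3
        exact ⟨k, hk⟩
      obtain ⟨k, hk⟩ := hψd
      have hk0 : k ≠ 0 := by
        rintro rfl
        apply hne
        rw [H75.deg_spec, hk]; simp
      have hψq : q ≤ H75.deg ψ := by
        rw [hk]
        calc q = q ^ 1 := (pow_one q).symm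
          _ ≤ q ^ k := Nat.pow_le_pow_right hq.pos (by omega)
      obtain ⟨x, hx, hx1, hxc⟩ := exists_central Q hqG
      have hxcen : (⟨x, hx⟩ : (Q : Subgroup G)) ∈ center (Q : Subgroup G) := by
        rw [mem_center_iff]
        intro y
        exact Subtype.ext (hxc y y.2)
      have hval : ∀ y : (Q : Subgroup G), (ρ : G → ℂ) y =
          ∑ θ : IrrCharacter (Q : Subgroup G), (m θ : ℂ) * (θ : ↥(Q : Subgroup G) → ℂ) y := by
        intro y
        have h3 := congrFun hsum y
        simp only [Finset.sum_apply, Pi.smul_apply] at h3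
        rw [h3]
        exact Finset.sum_congr rfl fun θ _ => by rw [nsmul_eq_mul]
      have hd : ((H75.deg ρ : ℕ) : ℝ) = ∑ θ : IrrCharacter (Q : Subgroup G), (m θ : ℝ) * (H75.deg θ : ℝ) := by
        have h3 := hval 1
        rw [OneMemClass.coe_one, H75.deg_spec] at h3
        have h4 : ((H75.deg ρ : ℕ) : ℂ) = ∑ θ : IrrCharacter (Q : Subgroup G), (m θ : ℂ) * (H75.deg θ : ℂ) := by
          rw [h3]
          exact Finset.sum_congr rfl fun θ _ => by rw [H75.deg_spec]
        exact_mod_cast h4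
      have hxv := hval ⟨x, hx⟩
      rw [← Finset.add_sum_erase _ _ (Finset.mem_univ ψ)] at hd hxv
      have hn1 : ‖(ψ : ↥(Q : Subgroup G) → ℂ) ⟨x, hx⟩‖ = (H75.deg ψ : ℝ) := by
        rw [H79.irr_central_norm ψ hxcen, H75.charDegree_eq_deg]
      have hrest : ‖∑ θ ∈ Finset.univ.erase ψ, (m θ : ℂ) * (θ : ↥(Q : Subgroup G) → ℂ) ⟨x, hx⟩‖ ≤
          ∑ θ ∈ Finset.univ.erase ψ, (m θ : ℝ) * (H75.deg θ : ℝ) := by
        refine (norm_sum_le _ _).trans (Finset.sum_le_sum fun θ _ => ?_)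
        rw [norm_mul, H79.irr_central_norm θ hxcen, H75.charDegree_eq_deg]
        simp
      have hx2 := hρx x hx hxc hx1
      have h5 : ‖(m ψ : ℂ) * (ψ : ↥(Q : Subgroup G) → ℂ) ⟨x, hx⟩‖ = (m ψ : ℝ) * (H75.deg ψ : ℝ) := by
        rw [norm_mul, hn1]; simp
      have h6 : (m ψ : ℝ) * (H75.deg ψ : ℝ) ≤ ‖(ρ : G → ℂ) x‖ +
          ∑ θ ∈ Finset.univ.erase ψ, (m θ : ℝ) * (H75.deg θ : ℝ) := by
        rw [← h5]
        have h7 : (m ψ : ℂ) * (ψ : ↥(Q : Subgroup G) → ℂ) ⟨x, hx⟩ = (ρ : G → ℂ) x -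
            ∑ θ ∈ Finset.univ.erase ψ, (m θ : ℂ) * (θ : ↥(Q : Subgroup G) → ℂ) ⟨x, hx⟩ := by
          rw [hxv]; ring
        rw [h7]
        exact (norm_sub_le _ _).trans (by linarith)
      rw [hx2] at h6
      have h8 : (q : ℝ) ≤ (m ψ : ℝ) * (H75.deg ψ : ℝ) := by
        have h9 : (1 : ℝ) ≤ (m ψ : ℝ) := by exact_mod_cast Nat.pos_of_ne_zero hmψ
        have h10 : (q : ℝ) ≤ (H75.deg ψ : ℝ) := by exact_mod_cast hψq
        nlinarith [Nat.cast_nonneg (α := ℝ) (H75.deg ψ)]
      have h11 : (H75.deg ρ : ℝ) ≤ q + 1 := by exact_mod_cast hρ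
      have h12 : (5 : ℝ) ≤ q := by exact_mod_cast hq5
      linarith
  -- `|Q| ∣ q`
  have hQq : Nat.card (Q : Subgroup G) ∣ q := by
    haveI : Fintype (Q : Subgroup G) := Fintype.ofFinite _
    have hres := isCharacter_restrict (irr_isCharacter σ) (Q : Subgroup G)
    obtain ⟨n, hn⟩ := classInner_natCast hres (isCharacter_of_isIrr (isIrrCharacter_one (G := (Q : Subgroup G))))
    have hsum : ∑ y : (Q : Subgroup G), (σ : G → ℂ) y = q := by
      rw [← Finset.add_sum_erase Finset.univ _ (Finset.mem_univ (1 : (Q : Subgroup G))),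
        Finset.sum_eq_zero, add_zero]
      · rw [OneMemClass.coe_one, H75.deg_spec, hσ]
      · intro y hy
        apply hσx
        · intro z hz
          exact congrArg Subtype.val (hcomm ⟨z, hz⟩ y)
        · intro h
          exact (Finset.mem_erase.1 hy).1 (Subtype.ext h)
    have hq0 : (Nat.card (Q : Subgroup G) : ℂ) ≠ 0 := by exact_mod_cast Nat.card_pos.ne'
    have h3 : (q : ℂ) = (Nat.card (Q : Subgroup G) : ℂ) * n := by
      rw [← hn, ← hsum]
      unfold classInner
      rw [← mul_assoc, mul_inv_cancel₀ hq0, one_mul]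
      exact Finset.sum_congr rfl fun y _ => by simp
    exact ⟨n, by exact_mod_cast h3⟩
  have hb1 : q ^ b ∣ Nat.card (Q : Subgroup G) :=
    Q.pow_dvd_card_of_pow_dvd_card (by rw [hcard]; exact Dvd.intro_left _ rfl)
  have hb2 : b < 2 := by
    by_contra hcon
    have h3 : q ^ 2 ∣ q := ((pow_dvd_pow q (by omega)).trans hb1).trans hQq
    have h4 := Nat.le_of_dvd hq.pos h3
    nlinarith [hq.one_lt]
  have hb0 : b ≠ 0 := by
    rintro rfl
    rw [hcard, pow_zero, mul_one] at hqG
    rcases hq.dvd_mul.1 hqG with h | h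
    · have : q ∣ 3 ^ 2 := by norm_num; exact h
      have := (Nat.prime_dvd_prime_iff_eq hq Nat.prime_three).1 (hq.dvd_of_dvd_pow this)
      omega
    · have := (Nat.prime_dvd_prime_iff_eq hq Nat.prime_two).1 (hq.dvd_of_dvd_pow h)
      omega
  omega

theorem tri (hG : ¬ IsMulCommutative G) {q a b : ℕ} (hq : q.Prime) (hq2 : q ≠ 2) (hq3 : q ≠ 3)
    (hcard : Nat.card G = 9 * 2 ^ a * q ^ b) : Tri G q b := by
  intro χ₁ χ₂ ε₁ ε₂ h1 h2 hχ₁ hχ₂ hd₁ hd₂ hrel
  have hq5 : 5 ≤ q := by
    have := hq.two_le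
    by_contra hcon
    have : q = 4 := by omega
    rw [this] at hq
    norm_num at hq
  have hlt₁ := one_lt_deg hG hχ₁
  have hlt₂ := one_lt_deg hG hχ₂
  have hdvd₁ : H75.deg χ₁ ∣ 9 * 2 ^ a * q ^ b := by rw [← hcard]; exact H75.deg_dvd χ₁
  have hdvd₂ : H75.deg χ₂ ∣ 9 * 2 ^ a * q ^ b := by rw [← hcard]; exact H75.deg_dvd χ₂
  have h3 := hrel 1 (by rw [orderOf_one]; norm_num)
  rw [H75.deg_spec, H75.deg_spec] at h3
  have h4 : 1 + ε₁ * (H75.deg χ₁ : ℤ) + ε₂ * (H75.deg χ₂ : ℤ) = 0 := by exact_mod_cast h3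
  have hcons : H75.deg χ₂ = H75.deg χ₁ + 1 ∨ H75.deg χ₁ = H75.deg χ₂ + 1 := by
    rcases h1 with h1 | h1 <;> rcases h2 with h2 | h2 <;> rw [h1, h2] at h4 <;> omega
  have hres : (H75.deg χ₁ = q ∧ ∃ i, H75.deg χ₂ = 2 ^ i) ∨ (H75.deg χ₂ = q ∧ ∃ i, H75.deg χ₁ = 2 ^ i) := by
    rcases hcons with h | h
    · exact consecutive hq hq5 hdvd₁ hd₁ hdvd₂ hd₂ hlt₁ h
    · exact (consecutive hq hq5 hdvd₂ hd₂ hdvd₁ hd₁ hlt₂ h).symm
  refine ⟨?_, hres⟩
  rcases hres with ⟨h, -⟩ | ⟨h, -⟩
  · exact b_one hG hq hq5 hcard h1 h2 hχ₁ hχ₂ h (by omega) hrel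
  · refine b_one hG hq hq5 hcard h2 h1 hχ₂ hχ₁ h (by omega) fun g hg => ?_
    rw [← hrel g hg]; ring

end grp

end Cfsg.Agent.H4.K3
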