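import Cfsg.Agent.H4.TwoBlk
import Cfsg.Agent.BlkC.RankOne

/-!
# 2-blocks with Klein four defect group: local analysis (owner: helper4)
-/

set_option autoImplicit false
set_option linter.style.haveILetI false
set_option linter.unusedSectionVars false

namespace Cfsg.Agent.H4

open scoped ComplexConjugate
open Cfsg Cfsg.Agent.CharBase Cfsg.Agent.Blk Cfsg.Agent.BlkInd Cfsg.Agent.BlkC

universe u

section Central

variable {G : Type u} [Group G] [Fintype G] {p : ℕ} [hp : Fact p.Prime] {M : Ideal AlgInt}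
variable {B : Set (IrrCharacter G)}

theorem isPPart_central {z : G} (hz : z ∈ Subgroup.center G) (hzp : ∃ k : ℕ, orderOf z = p ^ k)
    (y : G) : IsPPart p (z * y) z ↔ ¬ p ∣ orderOf y := by
  have hc : ∀ g : G, z * g = g * z := fun g => ((Subgroup.mem_center_iff.mp hz) g).symm
  constructor
  · rintro ⟨y', h1, -, -, h2⟩
    rwa [mul_left_cancel h1] at h2
  · intro h
    exact ⟨y, rfl, hc y, hzp, h⟩

/-- the subsections with central first component contribute the regular inner product -/
theorem sum_indB_central (hM : IsPModular p M) {z : G} (hz : z ∈ Subgroup.center G)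
    (hzp : ∃ k : ℕ, orderOf z = p ^ k) [Fintype (Subgroup.centralizer ({z} : Set G))]
    (hB : IsPBlock M B) {χ : IrrCharacter G} (hχ : χ ∈ B) :
    ∑ b ∈ indB M (Subgroup.centralizer ({z} : Set G)) B, sc p z b (χ : G → ℂ) (χ : G → ℂ) =
      regInner p (χ : G → ℂ) (χ : G → ℂ) := by
  classical
  rw [sum_indB_sc hM hzp rfl hB hχ hχ]
  unfold regInner
  congr 1
  symm
  refine Fintype.sum_equiv (Equiv.mulLeft z) _ _ fun y => ?_
  have hc : ∀ g : G, g * z * g⁻¹ = z := fun g => by
    rw [(Subgroup.mem_center_iff.mp hz) g]; group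
  obtain ⟨ω, -, h2, h3⟩ := H79.irr_central_mul χ hz
  have h4 : (∃ h : G, IsPPart p (z * y) (h * z * h⁻¹)) ↔ ¬ p ∣ orderOf y := by
    constructor
    · rintro ⟨h, hh⟩
      rw [hc h] at hh
      exact (isPPart_central hz hzp y).mp hh
    · intro h
      exact ⟨1, by rw [hc 1]; exact (isPPart_central hz hzp y).mpr h⟩
  change _ = if ∃ h : G, IsPPart p (z * y) (h * z * h⁻¹) then
    (χ : G → ℂ) (z * y) * conj ((χ : G → ℂ) (z * y)) else 0
  unfold regConj
  by_cases hy : p ∣ orderOf y
  · rw [if_pos hy, mul_zero, if_neg (fun h => (h4.mp h) hy)]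
  · rw [if_neg hy, if_pos (h4.mpr hy), h3, map_mul]
    have h5 : ω * conj ω = 1 := by
      rw [Complex.mul_conj, Complex.normSq_eq_norm_sq, h2]; norm_num
    linear_combination (-(χ : G → ℂ) y * conj ((χ : G → ℂ) y)) * h5

end Central

section Klein

variable {G : Type u} [Group G] [Fintype G] {M : Ideal AlgInt}
variable {B : Set (IrrCharacter G)}

/-- a four group of exponent two containing two different involutions is generated by them -/
theorem le_center_of_four {H : Type u} [Group H] [Finite H] {D : Subgroup H}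
    (hcard : Nat.card D = 4) {z u : H} (hzD : z ∈ D) (huD : u ∈ D) (hz : z ∈ Subgroup.center H)
    (hu : u ∈ Subgroup.center H) (hz2 : z * z = 1) (hu2 : u * u = 1) (hz1 : z ≠ 1) (hu1 : u ≠ 1)
    (hzu : z ≠ u) : D ≤ Subgroup.center H := by
  classical
  have hzi : z⁻¹ = z := inv_eq_of_mul_eq_one_left hz2
  set S : Finset H := {1, z, u, z * u} with hS
  have h1 : (1 : H) ∉ ({z, u, z * u} : Finset H) := by
    simp only [Finset.mem_insert, Finset.mem_singleton, not_or]
    refine ⟨hz1.symm, hu1.symm, fun h => hzu ?_⟩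
    have : u = z⁻¹ := eq_inv_of_mul_eq_one_right h.symm
    rw [this, hzi]
  have h2 : z ∉ ({u, z * u} : Finset H) := by
    simp only [Finset.mem_insert, Finset.mem_singleton, not_or]
    exact ⟨hzu, fun h => hu1 (by simpa using h.symm)⟩
  have h3 : u ∉ ({z * u} : Finset H) := by
    simp only [Finset.mem_singleton]
    exact fun h => hz1 (by simpa using h.symm)
  have hScard : S.card = 4 := by
    rw [hS, Finset.card_insert_of_notMem h1, Finset.card_insert_of_notMem h2,
      Finset.card_insert_of_notMem h3, Finset.card_singleton]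
  have hSD : (S : Set H) ⊆ (D : Set H) := by
    intro y hy
    rw [hS] at hy
    simp only [Finset.coe_insert, Finset.coe_singleton, Set.mem_insert_iff,
      Set.mem_singleton_iff] at hy
    rcases hy with rfl | rfl | rfl | rfl
    · exact D.one_mem
    · exact hzD
    · exact huD
    · exact D.mul_mem hzD huD
  have hDS : (S : Set H) = (D : Set H) := by
    apply Set.eq_of_subset_of_ncard_le hSD
    rw [Set.ncard_coe_finset, hScard]
    exact hcard.le
  intro y hy
  have : y ∈ (S : Set H) := by rw [hDS]; exact hy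
  rw [hS] at this
  simp only [Finset.coe_insert, Finset.coe_singleton, Set.mem_insert_iff,
    Set.mem_singleton_iff] at this
  rcases this with rfl | rfl | rfl | rfl
  · exact Subgroup.one_mem _
  · exact hz
  · exact hu
  · exact Subgroup.mul_mem _ hz hu

theorem mem_zpowers_iff_of_sq {H : Type u} [Group H] {z y : H} (hz : z * z = 1) :
    y ∈ Subgroup.zpowers z ↔ y = 1 ∨ y = z := by
  constructor
  · intro h
    obtain ⟨k, rfl⟩ := Subgroup.mem_zpowers_iff.mp h
    rcases Int.even_or_odd' k with ⟨m, h | h⟩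
    · left
      rw [h, zpow_mul, show z ^ (2 : ℤ) = 1 by rw [zpow_two]; exact hz, one_zpow]
    · right
      rw [h, zpow_add, zpow_mul, show z ^ (2 : ℤ) = 1 by rw [zpow_two]; exact hz, one_zpow,
        one_mul, zpow_one]
  · rintro (rfl | rfl)
    · exact Subgroup.one_mem _
    · exact Subgroup.mem_zpowers _

/-- local data: a subsection `(x, b)` of a block of defect two with elementary abelian defect
groups and with a central involution `z ≠ x`. -/
theorem loc_four_central (hM : IsPModular 2 M) (hB : IsPBlock M B) (hd : blockDefect 2 B = 2)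
    (hexp : ∀ E, IsDefectGroup 2 M B E → ∀ y ∈ E, y * y = 1)
    {z : G} (hz : z ∈ Subgroup.center G) (hz2 : orderOf z = 2) {x : G}
    (hx : ∃ k : ℕ, orderOf x = 2 ^ k) (hx1 : x ≠ 1) (hxz : x ≠ z) {C : Subgroup G} [Fintype C]
    (hC : C = Subgroup.centralizer ({x} : Set G)) {b : Set (IrrCharacter C)}
    (hind : IsInducedBlock M C b B) : orderOf x = 2 ∧ blockDefect 2 b = 2 ∧
      UB 2 (2 ^ blockDefect 2 b) b := by
  haveI := isPrime_of_isPModular hM
  obtain ⟨D, hD⟩ := exists_defectGroup hM hind.1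
  obtain ⟨E, hE, hDE⟩ := defect_le_of_induced hM hind hD
  have hEc : Nat.card E = 4 := by rw [card_defectGroup hM hB hE, hd]; norm_num
  have hDexp : ∀ y ∈ D, y * y = 1 := by
    intro y hy
    have := hexp E hE (y : G) (hDE ⟨y, hy, rfl⟩)
    exact Subtype.ext this
  have hDc : Nat.card D ≤ 4 := by
    rw [← hEc, Nat.card_congr (D.equivMapOfInjective C.subtype C.subtype_injective).toEquiv]
    exact Subgroup.card_le_of_le hDE
  have hxD := self_mem_defect hM hx hC hind.1 hD
  have hx2 : x * x = 1 := congrArg Subtype.val (hDexp _ hxD)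
  have hzC : z ∈ C := by
    rw [hC, Subgroup.mem_centralizer_singleton_iff]
    exact ((Subgroup.mem_center_iff.mp hz) x).symm
  have hzcen : (⟨z, hzC⟩ : C) ∈ Subgroup.center C := by
    rw [Subgroup.mem_center_iff]
    intro g
    exact Subtype.ext ((Subgroup.mem_center_iff.mp hz) g)
  have hzD : (⟨z, hzC⟩ : C) ∈ D := mem_defect hM hx hC hind.1 hD hzcen
    ⟨1, by rw [← Subgroup.orderOf_coe]; simpa using hz2⟩
  have hzz : z * z = 1 := by rw [← pow_two, ← hz2, pow_orderOf_eq_one]
  have hz1 : z ≠ 1 := by rintro rfl; rw [orderOf_one] at hz2; omega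
  -- order of `D`
  have h4 : Nat.card D = 4 := by
    have hdvd : Nat.card D = 2 ^ blockDefect 2 b := card_defectGroup hM hind.1 hD
    -- three distinct elements
    have h3 : 2 < Nat.card D := by
      classical
      by_contra hle
      have hle2 : Nat.card D ≤ 2 := by omega
      have hcz : Nat.card (Subgroup.zpowers (⟨z, hzC⟩ : C)) = 2 := by
        rw [Nat.card_zpowers, ← Subgroup.orderOf_coe]; exact hz2
      have hzle : Subgroup.zpowers (⟨z, hzC⟩ : C) ≤ D := Subgroup.zpowers_le.mpr hzD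
      have heq : Subgroup.zpowers (⟨z, hzC⟩ : C) = D :=
        Subgroup.eq_of_le_of_card_ge hzle (by omega)
      rw [← heq, mem_zpowers_iff_of_sq] at hxD
      · rcases hxD with h | h
        · exact hx1 (congrArg Subtype.val h)
        · exact hxz (congrArg Subtype.val h)
      · exact Subtype.ext hzz
    rw [hdvd] at h3 hDc ⊢
    have h5 : blockDefect 2 b ≤ 2 := by
      by_contra h
      have : 2 ^ 3 ≤ 2 ^ blockDefect 2 b := Nat.pow_le_pow_right (by norm_num) (by omega)
      omega
    have h6 : blockDefect 2 b = 2 := by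
      rcases Nat.lt_or_ge (blockDefect 2 b) 2 with h | h
      · exfalso
        have : 2 ^ blockDefect 2 b ≤ 2 ^ 1 := Nat.pow_le_pow_right (by norm_num) (by omega)
        omega
      · omega
    rw [h6]; norm_num
  have hdb : blockDefect 2 b = 2 := by
    have := card_defectGroup hM hind.1 hD
    rw [h4] at this
    have h2 : 2 ^ 2 = 2 ^ blockDefect 2 b := by rw [← this]; norm_num
    exact (Nat.pow_right_injective (le_refl 2) h2).symm
  refine ⟨orderOf_eq_prime (by rw [pow_two]; exact hx2) hx1, hdb, ?_⟩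
  have hcen : D ≤ Subgroup.center C := by
    refine le_center_of_four h4 hzD hxD hzcen (mem_center_self hC) (Subtype.ext hzz)
      (Subtype.ext hx2) ?_ ?_ ?_
    · intro h; exact hz1 (congrArg Subtype.val h)
    · intro h; exact hx1 (congrArg Subtype.val h)
    · intro h; exact hxz (congrArg Subtype.val h).symm
  have := UB_of_central hM hind.1 hD hcen
  rw [h4] at this
  rw [hdb]
  exact this

variable [∀ x : G, Fintype (Subgroup.centralizer ({x} : Set G))]

/-- blocks with Klein four defect group of a group with a central involution -/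
theorem klein_central (hM : IsPModular 2 M) (hB : IsPBlock M B) (hd : blockDefect 2 B = 2)
    (hexp : ∀ E, IsDefectGroup 2 M B E → ∀ y ∈ E, y * y = 1)
    {z : G} (hz : z ∈ Subgroup.center G) (hz2 : orderOf z = 2) :
    Nat.card B = 4 ∧ UB 2 (2 ^ blockDefect 2 B) B := by
  classical
  haveI := isPrime_of_isPModular hM
  have hzp : ∃ k : ℕ, orderOf z = 2 ^ k := ⟨1, by rw [hz2, pow_one]⟩
  have hz1 : z ≠ 1 := by rintro rfl; rw [orderOf_one] at hz2; omega
  obtain ⟨X, hX, hzX⟩ := exists_isNTRep_mem hzp hz1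
  have hh := heights_zero hM hB (by omega)
  set S : Finset (Σ x : G, Set (IrrCharacter (Subgroup.centralizer ({x} : Set G)))) :=
    (X.erase z).sigma fun x => indB M (Subgroup.centralizer ({x} : Set G)) B with hS
  have hF : ∀ s : (Σ x : G, Set (IrrCharacter (Subgroup.centralizer ({x} : Set G)))),
      ∃ f : IrrCharacter G → ℤ, s ∈ S → SqData s.1 s.2 B f := by
    intro s
    by_cases hs : s ∈ S
    · rw [hS, Finset.mem_sigma] at hs
      have h1 := Finset.mem_of_mem_erase hs.1
      obtain ⟨h2, h3, h4⟩ := loc_four_central hM hB hd hexp hz hz2 (hX.pel _ h1) (hX.ne_one _ h1)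
        (Finset.ne_of_mem_erase hs.1) rfl (mem_indB.mp hs.2)
      obtain ⟨f, hf, -⟩ := sqData_of_unit hM h2 rfl (mem_indB.mp hs.2) h4 (by rw [h3, hd]) hh
      exact ⟨f, fun _ => hf⟩
    · exact ⟨0, fun h => absurd h hs⟩
  choose F hF2 using hF
  -- the basic equation
  have key : ∀ χ ∈ B, contrib 2 B χ χ = 1 ∧ (∀ s ∈ S, (F s χ) ^ 2 = 1) ∧ S.card = 2 := by
    intro χ hχ
    have h1 := contrib_add_sum hM hB hX hχ
    rw [← Finset.add_sum_erase X _ hzX, ← Finset.mul_sum, sum_indB_central hM hz hzp hB hχ,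
      contrib_regInner hχ, Finset.sum_sigma' (X.erase z)] at h1
    have h2 : ((2 * contrib 2 B χ χ + ∑ s ∈ S, (F s χ) ^ 2 : ℤ) : ℂ) = ((4 : ℤ) : ℂ) := by
      have e1 : ∑ s ∈ (X.erase z).sigma fun x => indB M (Subgroup.centralizer ({x} : Set G)) B,
          ((2 : ℕ) : ℂ) ^ blockDefect 2 B * sc 2 s.1 s.2 (χ : G → ℂ) (χ : G → ℂ) =
            ((∑ s ∈ S, (F s χ) ^ 2 : ℤ) : ℂ) := by
        push_cast
        rw [← hS]
        refine Finset.sum_congr rfl fun s hs => ?_
        rw [(hF2 s hs).sc_eq χ χ]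
        push_cast
        ring
      rw [e1, hd] at h1
      push_cast at h1 ⊢
      linear_combination h1
    have h3 : 2 * contrib 2 B χ χ + ∑ s ∈ S, (F s χ) ^ 2 = 4 := by exact_mod_cast h2
    have h4 := contrib_odd hM hB hχ (hh χ hχ)
    have h5 := contrib_self_pos (p := 2) hχ
    have h6 : 0 ≤ ∑ s ∈ S, (F s χ) ^ 2 := Finset.sum_nonneg fun s _ => sq_nonneg _
    have h7 : contrib 2 B χ χ = 1 := by omega
    have h8 : ∑ s ∈ S, (F s χ) ^ 2 = 2 := by omega
    have h9 : ∀ s ∈ S, (F s χ) ^ 2 = 1 := by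
      intro s hs
      have h10 : (F s χ) ^ 2 ≤ ∑ s ∈ S, (F s χ) ^ 2 :=
        Finset.single_le_sum (fun s _ => sq_nonneg (F s χ)) hs
      have h11 := (hF2 s hs).ne_zero χ hχ
      have h12 : F s χ ≤ 1 := by nlinarith
      have h13 : -1 ≤ F s χ := by nlinarith
      have h14 : F s χ = 1 ∨ F s χ = -1 := by omega
      rcases h14 with h | h <;> rw [h] <;> norm_num
    refine ⟨h7, h9, ?_⟩
    rw [Finset.sum_congr rfl h9] at h8
    simp only [Finset.sum_const, nsmul_eq_mul, mul_one] at h8
    exact_mod_cast h8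
  obtain ⟨χ₀, hχ₀⟩ := block_nonempty hB
  obtain ⟨s, hs⟩ : S.Nonempty := by
    rw [← Finset.card_pos, (key χ₀ hχ₀).2.2]; norm_num
  have hk : (Nat.card B : ℤ) = 4 := by
    have h8 := (hF2 s hs).sum_eq
    rw [Finset.sum_congr rfl fun χ hχ => (key χ (mem_Bfin.mp hχ)).2.1 s hs, hd] at h8
    rw [natCard_eq_Bfin]
    simpa using h8
  have hl : blockRank 2 B = 1 := by
    have h9 := sum_contrib_self hM hB
    rw [Finset.sum_congr rfl fun χ hχ => (key χ (mem_Bfin.mp hχ)).1, hd] at h9
    have h10 := natCard_eq_Bfin (B := B)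
    simp only [Finset.sum_const, nsmul_eq_mul, mul_one] at h9
    push_cast at h9
    omega
  refine ⟨by exact_mod_cast hk, ?_⟩
  have hself : ∀ χ ∈ B, ((2 ^ blockDefect 2 B : ℕ) : ℂ) * regInner 2 (χ : G → ℂ) (χ : G → ℂ) = 1 := by
    intro χ hχ
    have := contrib_regInner (p := 2) hχ χ
    rw [(key χ hχ).1] at this
    push_cast at this ⊢
    exact this
  -- proportionality factor is one
  have hprop : ∀ η ∈ B, ∀ ψ ∈ B, charDegree (η : G → ℂ) = charDegree (ψ : G → ℂ) := by
    intro η hη ψ hψ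
    have h1 : ∀ y : G, (charDegree (ψ : G → ℂ) : ℂ) * pRegularPart 2 (η : G → ℂ) y =
        (charDegree (η : G → ℂ) : ℂ) * pRegularPart 2 (ψ : G → ℂ) y := by
      intro y
      by_cases hy : 2 ∣ orderOf y
      · rw [pRegularPart_apply_of_sing hy, pRegularPart_apply_of_sing hy, mul_zero, mul_zero]
      · rw [pRegularPart_apply_of_reg hy, pRegularPart_apply_of_reg hy]
        have := proportional_of_rank_one hl hη hψ hy
        linear_combination this
    have h2 : (charDegree (ψ : G → ℂ) : ℂ) ^ 2 * regInner 2 (η : G → ℂ) (η : G → ℂ) =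
        (charDegree (η : G → ℂ) : ℂ) ^ 2 * regInner 2 (ψ : G → ℂ) (ψ : G → ℂ) := by
      rw [← classInner_pRegularPart_both, ← classInner_pRegularPart_both]
      unfold classInner
      rw [mul_left_comm, mul_left_comm ((charDegree (η : G → ℂ) : ℂ) ^ 2)]
      congr 1
      rw [Finset.mul_sum, Finset.mul_sum]
      refine Finset.sum_congr rfl fun y _ => ?_
      have e1 := h1 y
      have e2 := congrArg conj e1
      rw [map_mul, map_mul, Complex.conj_natCast, Complex.conj_natCast] at e2
      calc (charDegree (ψ : G → ℂ) : ℂ) ^ 2 *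
          (pRegularPart 2 (η : G → ℂ) y * conj (pRegularPart 2 (η : G → ℂ) y)) =
          ((charDegree (ψ : G → ℂ) : ℂ) * pRegularPart 2 (η : G → ℂ) y) *
            ((charDegree (ψ : G → ℂ) : ℂ) * conj (pRegularPart 2 (η : G → ℂ) y)) := by ring
        _ = ((charDegree (η : G → ℂ) : ℂ) * pRegularPart 2 (ψ : G → ℂ) y) *
            ((charDegree (η : G → ℂ) : ℂ) * conj (pRegularPart 2 (ψ : G → ℂ) y)) := by rw [e1, e2]
        _ = _ := by ring
    have h3 : ((charDegree (ψ : G → ℂ) : ℂ)) ^ 2 = ((charDegree (η : G → ℂ) : ℂ)) ^ 2 := by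
      have hq : ((2 ^ blockDefect 2 B : ℕ) : ℂ) ≠ 0 := by
        have : (2 ^ blockDefect 2 B : ℕ) ≠ 0 := pow_ne_zero _ (by norm_num)
        exact_mod_cast this
      have e1 := hself η hη
      have e2 := hself ψ hψ
      have h4 : ((2 ^ blockDefect 2 B : ℕ) : ℂ) * ((charDegree (ψ : G → ℂ) : ℂ) ^ 2 *
          regInner 2 (η : G → ℂ) (η : G → ℂ)) = ((2 ^ blockDefect 2 B : ℕ) : ℂ) *
          ((charDegree (η : G → ℂ) : ℂ) ^ 2 * regInner 2 (ψ : G → ℂ) (ψ : G → ℂ)) := by rw [h2]
      rw [mul_left_comm, e1, mul_left_comm, e2, mul_one, mul_one] at h4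
      exact h4
    have h4 : (charDegree (ψ : G → ℂ)) ^ 2 = (charDegree (η : G → ℂ)) ^ 2 := by exact_mod_cast h3
    exact (Nat.pow_left_injective (n := 2) (by norm_num) h4).symm
  have hval : ∀ η ∈ B, ∀ ψ ∈ B, ∀ y : G, ¬ 2 ∣ orderOf y → (η : G → ℂ) y = (ψ : G → ℂ) y := by
    intro η hη ψ hψ y hy
    have h1 := proportional_of_rank_one hl hη hψ hy
    rw [hprop η hη ψ hψ] at h1
    have h2 : (charDegree (ψ : G → ℂ) : ℂ) ≠ 0 := by exact_mod_cast (charDegree_pos ψ).ne'
    apply mul_right_cancel₀ h2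
    rw [h1]; ring
  refine ⟨hval, fun η hη ψ hψ => ?_⟩
  rw [← hself η hη]
  congr 1
  rw [← classInner_pRegularPart_both, ← classInner_pRegularPart_both]
  have : pRegularPart 2 (ψ : G → ℂ) = pRegularPart 2 (η : G → ℂ) := by
    funext y
    by_cases hy : 2 ∣ orderOf y
    · rw [pRegularPart_apply_of_sing hy, pRegularPart_apply_of_sing hy]
    · rw [pRegularPart_apply_of_reg hy, pRegularPart_apply_of_reg hy, hval ψ hψ η hη y hy]
  rw [this]

end Klein

end Cfsg.Agent.H4
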