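import Mathlib

/-!
# Integral bases of lattices with rational Gram matrix (owner: helper4)
-/

set_option autoImplicit false
set_option linter.style.haveILetI false
set_option linter.unusedSectionVars false

namespace Cfsg.Agent.H4

open scoped ComplexConjugate BigOperators

section

variable {X ι : Type*} [Fintype X]

/-- the standard hermitian form -/
noncomputable def hf (f g : X → ℂ) : ℂ := ∑ x, f x * conj (g x)

theorem hf_self_eq_zero {f : X → ℂ} (h : hf f f = 0) : f = 0 := by
  funext x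
  have h1 : ∑ x, Complex.normSq (f x) = 0 := by
    have : ((∑ x, Complex.normSq (f x) : ℝ) : ℂ) = 0 := by
      push_cast
      rw [← h]
      exact Finset.sum_congr rfl fun x _ => (Complex.mul_conj _).symm
    exact_mod_cast this
  rw [Finset.sum_eq_zero_iff_of_nonneg fun x _ => Complex.normSq_nonneg _] at h1
  exact Complex.normSq_eq_zero.mp (h1 x (Finset.mem_univ x))

theorem hf_add_left (f g h : X → ℂ) : hf (f + g) h = hf f h + hf g h := by
  unfold hf; rw [← Finset.sum_add_distrib]
  exact Finset.sum_congr rfl fun x _ => by rw [Pi.add_apply]; ring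

theorem hf_add_right (f g h : X → ℂ) : hf f (g + h) = hf f g + hf f h := by
  unfold hf; rw [← Finset.sum_add_distrib]
  exact Finset.sum_congr rfl fun x _ => by rw [Pi.add_apply, map_add]; ring

theorem hf_sum_left {κ : Type*} (s : Finset κ) (c : κ → ℂ) (f : κ → X → ℂ) (h : X → ℂ) :
    hf (∑ i ∈ s, c i • f i) h = ∑ i ∈ s, c i * hf (f i) h := by
  unfold hf
  simp only [Finset.mul_sum]
  rw [Finset.sum_comm]
  refine Finset.sum_congr rfl fun x _ => ?_
  rw [Finset.sum_apply, Finset.sum_mul]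
  exact Finset.sum_congr rfl fun i _ => by rw [Pi.smul_apply, smul_eq_mul]; ring

theorem hf_sum_right {κ : Type*} (s : Finset κ) (c : κ → ℂ) (f : κ → X → ℂ) (h : X → ℂ) :
    hf h (∑ i ∈ s, c i • f i) = ∑ i ∈ s, conj (c i) * hf h (f i) := by
  unfold hf
  simp only [Finset.mul_sum]
  rw [Finset.sum_comm]
  refine Finset.sum_congr rfl fun x _ => ?_
  rw [Finset.sum_apply, map_sum, Finset.mul_sum]
  exact Finset.sum_congr rfl fun i _ => by rw [Pi.smul_apply, smul_eq_mul, map_mul]; ring

theorem hf_rat {V : Set (X → ℂ)} (hV : ∀ f ∈ V, ∀ g ∈ V, ∃ r : ℚ, hf f g = r) :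
    ∀ f ∈ Submodule.span ℤ V, ∀ g ∈ Submodule.span ℤ V, ∃ r : ℚ, hf f g = r := by
  have key : ∀ f ∈ V, ∀ g ∈ Submodule.span ℤ V, ∃ r : ℚ, hf f g = r := by
    intro f hf' g hg
    induction hg using Submodule.span_induction with
    | mem x hx => exact hV f hf' x hx
    | zero => exact ⟨0, by simp [hf]⟩
    | add x y _ _ h1 h2 =>
      obtain ⟨r, hr⟩ := h1; obtain ⟨s, hs⟩ := h2
      exact ⟨r + s, by rw [hf_add_right, hr, hs]; push_cast; rfl⟩
    | smul a x _ h =>
      obtain ⟨r, hr⟩ := h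
      refine ⟨a * r, ?_⟩
      have : hf f (a • x) = a * hf f x := by
        unfold hf
        rw [Finset.mul_sum]
        refine Finset.sum_congr rfl fun y _ => ?_
        rw [Pi.smul_apply, zsmul_eq_mul, map_mul, map_intCast]; ring
      rw [this, hr]; push_cast; rfl
  intro f hf' g hg
  induction hf' using Submodule.span_induction with
  | mem x hx => exact key x hx g hg
  | zero => exact ⟨0, by simp [hf]⟩
  | add x y _ _ h1 h2 =>
    obtain ⟨r, hr⟩ := h1; obtain ⟨s, hs⟩ := h2
    exact ⟨r + s, by rw [hf_add_left, hr, hs]; push_cast; rfl⟩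
  | smul a x _ h =>
    obtain ⟨r, hr⟩ := h
    refine ⟨a * r, ?_⟩
    have : hf (a • x) g = a * hf x g := by
      unfold hf
      rw [Finset.mul_sum]
      refine Finset.sum_congr rfl fun y _ => ?_
      rw [Pi.smul_apply, zsmul_eq_mul]; ring
    rw [this, hr]; push_cast; rfl

/-- `ℤ`-independent families with rational Gram matrix are `ℂ`-independent -/
theorem linearIndependent_of_rat {n : ℕ} {φ : Fin n → X → ℂ} (hφ : LinearIndependent ℤ φ)
    (hrat : ∀ i j, ∃ r : ℚ, hf (φ i) (φ j) = r) : LinearIndependent ℂ φ := by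
  classical
  choose g hg using hrat
  set A : Matrix (Fin n) (Fin n) ℚ := Matrix.of fun i k => g i k with hA
  have hdet : A.det ≠ 0 := by
    intro h0
    obtain ⟨v, hv0, hv⟩ := Matrix.exists_mulVec_eq_zero_iff.mpr h0
    -- clear denominators
    obtain ⟨N, hN0, hN⟩ : ∃ N : ℕ, N ≠ 0 ∧ ∀ i, ∃ m : ℤ, (N : ℚ) * v i = m := by
      refine ⟨∏ i, (v i).den, Finset.prod_ne_zero_iff.mpr fun i _ => (v i).den_nz, fun i => ?_⟩
      rw [← Finset.mul_prod_erase _ _ (Finset.mem_univ i)]
      refine ⟨(∏ k ∈ Finset.univ.erase i, ((v k).den : ℤ)) * (v i).num, ?_⟩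
      push_cast
      have := Rat.den_mul_eq_num (v i)
      linear_combination (∏ k ∈ Finset.univ.erase i, ((v k).den : ℚ)) * this
    choose m hm using hN
    have hsum : ∑ i, (m i : ℂ) • φ i = 0 := by
      apply hf_self_eq_zero
      rw [hf_sum_left]
      refine Finset.sum_eq_zero fun i _ => ?_
      rw [hf_sum_right]
      have h1 : ∑ k, conj (m k : ℂ) * hf (φ i) (φ k) = ((∑ k, (m k : ℚ) * g i k : ℚ) : ℂ) := by
        push_cast
        refine Finset.sum_congr rfl fun k _ => ?_
        rw [hg, map_intCast]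
      have h2 : ∑ k, (m k : ℚ) * g i k = 0 := by
        have h3 : ∑ k, g i k * v k = 0 := congrFun hv i
        have h4 : ∑ k, (m k : ℚ) * g i k = (N : ℚ) * ∑ k, g i k * v k := by
          rw [Finset.mul_sum]
          exact Finset.sum_congr rfl fun k _ => by rw [← hm k]; ring
        rw [h4, h3, mul_zero]
      rw [h1, h2]; simp
    apply hv0
    have h5 : ∀ i, m i = 0 := by
      refine Fintype.linearIndependent_iff.mp hφ m ?_
      rw [← hsum]
      exact Finset.sum_congr rfl fun i _ => by funext x; simp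
    funext i
    have h6 := hm i
    rw [h5 i, Int.cast_zero] at h6
    rcases mul_eq_zero.mp h6 with h | h
    · exact absurd (Nat.cast_eq_zero.mp h) hN0
    · exact h
  rw [Fintype.linearIndependent_iff]
  intro c hc
  have hdet' : (A.map (algebraMap ℚ ℂ)).det ≠ 0 := by
    rw [← RingHom.mapMatrix_apply, ← RingHom.map_det]
    exact (map_ne_zero _).mpr hdet
  have h7 : Matrix.vecMul c (A.map (algebraMap ℚ ℂ)) = 0 := by
    funext k
    have h8 : hf (∑ i, c i • φ i) (φ k) = 0 := by rw [hc]; simp [hf]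
    rw [hf_sum_left] at h8
    rw [Pi.zero_apply, ← h8]
    simp only [Matrix.vecMul, dotProduct, Matrix.map_apply, hA, Matrix.of_apply]
    exact Finset.sum_congr rfl fun i _ => by rw [hg]; rfl
  have h9 := Matrix.eq_zero_of_vecMul_eq_zero hdet' h7
  exact fun i => congrFun h9 i

/-- a lattice spanned by functions with rational Gram matrix has a `ℤ`-basis that is
`ℂ`-independent -/
theorem exists_lattice_basis {κ : Type*} (S : Finset κ) (F : κ → X → ℂ)
    (hF : ∀ η ∈ S, ∀ θ ∈ S, ∃ r : ℚ, hf (F η) (F θ) = r) :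
    ∃ (n : ℕ) (φ : Fin n → X → ℂ) (α : κ → Fin n → ℤ) (x : Fin n → κ → ℤ),
      LinearIndependent ℂ φ ∧ (∀ η ∈ S, F η = ∑ i, (α η i : ℂ) • φ i) ∧
      (∀ i, φ i = ∑ η ∈ S, (x i η : ℂ) • F η) ∧
      n = Module.finrank ℂ (Submodule.span ℂ (F '' (S : Set κ))) := by
  classical
  set Λ : Submodule ℤ (X → ℂ) := Submodule.span ℤ (F '' (S : Set κ)) with hΛ
  haveI : Module.Finite ℤ Λ := by
    rw [hΛ]
    exact Module.Finite.span_of_finite ℤ (S.finite_toSet.image F)
  haveI : Module.Free ℤ Λ := Module.free_of_finite_type_torsion_free'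
  set bs := Module.finBasis ℤ Λ with hbs
  set n := Module.finrank ℤ Λ with hn
  set φ : Fin n → X → ℂ := fun i => (bs i : X → ℂ) with hφ
  have hrat : ∀ f ∈ Λ, ∀ g ∈ Λ, ∃ r : ℚ, hf f g = r := by
    refine hf_rat ?_
    rintro _ ⟨η, hη, rfl⟩ _ ⟨θ, hθ, rfl⟩
    exact hF η hη θ hθ
  have hZ : LinearIndependent ℤ φ :=
    bs.linearIndependent.map' Λ.subtype (Submodule.ker_subtype Λ)
  have hC : LinearIndependent ℂ φ :=
    linearIndependent_of_rat hZ fun i k => hrat _ (bs i).2 _ (bs k).2
  have hx : ∀ i, ∃ c : κ → ℤ, ∑ η ∈ S, c η • F η = φ i := by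
    intro i
    obtain ⟨c, hc⟩ := (Submodule.mem_span_image_finset_iff_exists_fun ℤ).mp (bs i).2
    refine ⟨fun η => if h : η ∈ S then c ⟨η, h⟩ else 0, ?_⟩
    change _ = (bs i : X → ℂ)
    rw [← hc, ← Finset.sum_coe_sort S]
    refine Finset.sum_congr rfl fun η _ => ?_
    change (if h : (η : κ) ∈ S then c ⟨η, h⟩ else 0) • F η = _
    rw [dif_pos η.2]
  choose x hx using hx
  have hα : ∀ η, ∃ a : Fin n → ℤ, η ∈ S → F η = ∑ i, (a i : ℂ) • φ i := by
    intro η
    by_cases hη : η ∈ S
    · have hmem : F η ∈ Λ := Submodule.subset_span ⟨η, hη, rfl⟩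
      refine ⟨fun i => bs.repr ⟨F η, hmem⟩ i, fun _ => ?_⟩
      have h1 := congrArg (Subtype.val) (bs.sum_repr ⟨F η, hmem⟩)
      rw [Submodule.coe_sum] at h1
      refine (Eq.symm h1).trans ?_
      refine Finset.sum_congr rfl fun i _ => ?_
      funext y
      simp [hφ]
    · exact ⟨0, fun h => absurd h hη⟩
  choose α hα using hα
  have hx' : ∀ i, φ i = ∑ η ∈ S, (x i η : ℂ) • F η := by
    intro i
    rw [← hx i]
    refine Finset.sum_congr rfl fun η _ => ?_
    funext y
    simp
  refine ⟨n, φ, α, x, hC, fun η hη => hα η hη, hx', ?_⟩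
  have hspan : Submodule.span ℂ (F '' (S : Set κ)) = Submodule.span ℂ (Set.range φ) := by
    apply le_antisymm
    · rw [Submodule.span_le]
      rintro _ ⟨η, hη, rfl⟩
      rw [SetLike.mem_coe, hα η hη]
      exact Submodule.sum_mem _ fun i _ => Submodule.smul_mem _ _ (Submodule.subset_span ⟨i, rfl⟩)
    · rw [Submodule.span_le]
      rintro _ ⟨i, rfl⟩
      rw [SetLike.mem_coe, hx' i]
      exact Submodule.sum_mem _ fun η hη =>
        Submodule.smul_mem _ _ (Submodule.subset_span ⟨η, hη, rfl⟩)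
  rw [hspan, finrank_span_eq_card hC, Fintype.card_fin]

end

end Cfsg.Agent.H4
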