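import Cfsg.Agent.H4.AbelLoc
import Cfsg.Agent.BlkInd.Link
import Cfsg.Agent.Star.Loc

/-!
# Existence of major subsections (owner: helper4)
-/

set_option autoImplicit false
set_option linter.style.haveILetI false
set_option linter.unusedSectionVars false

namespace Cfsg.Agent.H4

open scoped ComplexConjugate
open Cfsg Cfsg.Agent.CharBase Cfsg.Agent.Blk Cfsg.Agent.BlkInd Cfsg.Agent.BlkC Cfsg.Agent.BlkF

universe u

section mod

variable {G : Type u} [Group G] [Fintype G] {k : Type*} [Field k] {p : ℕ} [hp : Fact p.Prime]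
variable [CharP k p]

/-- central subpairs: `P` is a defect group of `f` in `C_G(Q)` -/
theorem isDef_centralizer_of_central {P : Subgroup G} {e : MonoidAlgebra k G} (he : MMax p P e)
    {Q : Subgroup G} {f : MonoidAlgebra k G} (hPC : P ≤ Subgroup.centralizer (Q : Set G))
    (hQ : MLe p Q f P e) : IsDef p (Subgroup.centralizer (Q : Set G)) f P := by
  have hp := hQ.left_pair he.1
  obtain ⟨-, u, hu, hD⟩ := he.centralizer_defect hQ
  have h1 := hD.cj u⁻¹
  rw [cj_cj, inv_mul_cancel, cj_one_left, ← map_conj_centralizer, map_conj_map_conj,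
    inv_mul_cancel, map_conj_one] at h1
  refine h1.of_card_le hp.blk.fixed hPC he.1.isPGroup ?_ ?_
  · have h2 := hQ.br_inf_centralizer_ne he.1
    rwa [inf_eq_left.2 hPC] at h2
  · rw [Blk.card_map_conj]
    exact Nat.card_mono (Set.toFinite _) (inf_le_left : P ⊓ _ ≤ P)

end mod

variable {G : Type u} [Group G] [Fintype G] {p : ℕ} [hp : Fact p.Prime] {M : Ideal AlgInt}
variable {B : Set (IrrCharacter G)}

/-- a maximal pair -/
theorem exists_maxPair [M.IsPrime] (hM : IsPModular p M) (hB : IsPBlock M B) {D : Subgroup G}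
    (hD : IsDefectGroup p M B D) :
    ∃ e : MonoidAlgebra (kM M) G, MPairOf p (eB M B) D e ∧ MMax p D e := by
  haveI := charP_kM hM
  exact exists_max_pair (isBlk_eB hB) ((isDefectGroup_iff hM hB D).mp hD)

/-- a block of `C_G(D)` inducing `B` -/
theorem exists_root [M.IsPrime] (hM : IsPModular p M) (hB : IsPBlock M B) {D : Subgroup G}
    (hD : IsDefectGroup p M B D) :
    ∃ c : Set (IrrCharacter (Subgroup.centralizer (D : Set G))),
      IsInducedBlock M (Subgroup.centralizer (D : Set G)) c B := by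
  haveI := charP_kM hM
  obtain ⟨e, he, -⟩ := exists_maxPair hM hB hD
  obtain ⟨c, hc, hce⟩ := exists_isPBlock_of_mpair he.1
  refine ⟨c, (Star.isInducedBlock_iff_pair hM he.1.isPGroup hc hB).mpr ?_⟩
  rw [hce]; exact he

/-- **existence of major subsections** -/
theorem exists_major [M.IsPrime] (hM : IsPModular p M) (hB : IsPBlock M B) {D : Subgroup G}
    (hD : IsDefectGroup p M B D) {z : G} (hzD : z ∈ D) (hzc : ∀ d ∈ D, d * z = z * d) :
    ∃ b : Set (IrrCharacter (Subgroup.centralizer ({z} : Set G))),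
      IsInducedBlock M (Subgroup.centralizer ({z} : Set G)) b B ∧
      IsDefectGroup p M b (D.subgroupOf (Subgroup.centralizer ({z} : Set G))) := by
  classical
  haveI := charP_kM hM
  obtain ⟨e, he, hmax⟩ := exists_maxPair hM hB hD
  have hDp := isPGroup_of_isDefectGroup hD
  have hz : ∃ k : ℕ, orderOf z = p ^ k := by
    obtain ⟨k, hk⟩ := (IsPGroup.iff_orderOf.mp hDp) ⟨z, hzD⟩
    exact ⟨k, by rw [← hk, ← Subgroup.orderOf_coe]⟩
  have hle : Subgroup.zpowers z ≤ D := Subgroup.zpowers_le.mpr hzD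
  obtain ⟨f, hf, -⟩ := existsUnique_mle hmax.1 hle
  have hpair : MPairOf p (eB M B) (Subgroup.zpowers z) f := (hf.pairOf_iff hmax.1).mp he
  have hblk : IsBlk (Subgroup.centralizer ({z} : Set G)) f := by
    have := hpair.1.blk
    rwa [centralizer_zpowers_eq] at this
  obtain ⟨b, hb1, hb2⟩ := exists_EB hblk
  have hDC : D ≤ Subgroup.centralizer ({z} : Set G) := by
    intro d hd
    rw [Subgroup.mem_centralizer_singleton_iff]
    exact hzc d hd
  refine ⟨b, ind_of_mpairOf hM hB hz rfl hb1 (by rw [hb2]; exact hpair), ?_⟩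
  rw [isDefectGroup_subgroupOf_iff hM hb1 hDC, hb2]
  have h1 := isDef_centralizer_of_central hmax (Q := Subgroup.zpowers z) (f := f)
    (by rw [centralizer_zpowers_eq]; exact hDC) hf
  rwa [centralizer_zpowers_eq] at h1

end Cfsg.Agent.H4
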