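import Cfsg.Agent.H4.DerLen
import Cfsg.Agent.Cop.Basic
import Cfsg.Agent.H67.ConjCover
import Cfsg.Agent.Solv.Frattini
import Cfsg.Agent.Char.RelGlaub2
import Cfsg.Agent.S4445
import Cfsg.Agent.S0887
import Cfsg.Agent.SigF.Trans

/-!
# `Irr_{p'}(G) ⊆ Irr_{q'}(G)` in `p`-solvable and `q`-solvable groups (owner: helper4)
-/

set_option autoImplicit false

namespace Cfsg.Agent.H4.PQ

open Subgroup Cfsg Cfsg.Agent.CharBase Cfsg.Agent.Char Cfsg.Agent.H75
open scoped ComplexConjugate Pointwise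

universe u

section Cop

variable {G : Type u} [Group G] [Finite G]

/-- a conjugate of `A` in a supplement of `K` in `KA` -/
theorem exists_conj_mem {A K M : Subgroup G} (hAK : A ≤ normalizer (K : Set G))
    (hcop : (Nat.card A).Coprime (Nat.card K)) (hsolv : Group.IsSolvable A ∨ Group.IsSolvable K)
    (hML : M ≤ K ⊔ A) (hsup : A ≤ M ⊔ K) :
    ∃ n ∈ K, ∀ a ∈ A, n * a * n⁻¹ ∈ M := by
  have hLN : K ⊔ A ≤ normalizer (K : Set G) := sup_le le_normalizer hAK
  have hMN : M ≤ normalizer (K : Set G) := hML.trans hLN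
  have hsup' : M ⊔ K = K ⊔ A :=
    le_antisymm (sup_le hML le_sup_left) (sup_le le_sup_right hsup)
  have hKA : K.relIndex (A ⊔ K) = Nat.card A := by
    rw [Cop.relIndex_sup_eq hAK]
    have : K.relIndex A = (⊥ : Subgroup G).relIndex A := by
      rw [← Subgroup.inf_relIndex_right, inf_comm, Cop.inf_eq_bot_of_coprime hcop]
    rw [this, Subgroup.relIndex_bot_left]
  have hKM : K.relIndex M = Nat.card A := by
    rw [← Cop.relIndex_sup_eq hMN, hsup', sup_comm, hKA]
  have hnorm : (K.subgroupOf M).Normal := by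
    constructor
    intro x hx y
    exact (mem_normalizer_iff.1 (hMN y.2) (x : G)).1 hx
  have hcardKM : Nat.card (K.subgroupOf M) ∣ Nat.card K := by
    have h1 : Nat.card (K.subgroupOf M) = Nat.card ((K.subgroupOf M).map M.subtype) :=
      (Nat.card_congr ((K.subgroupOf M).equivMapOfInjective _ M.subtype_injective).toEquiv)
    rw [h1]
    apply Subgroup.card_dvd_of_le
    rintro _ ⟨x, hx, rfl⟩
    exact hx
  have hcop' : (Nat.card (K.subgroupOf M)).Coprime (K.subgroupOf M).index := by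
    change (Nat.card (K.subgroupOf M)).Coprime (K.relIndex M)
    rw [hKM]
    exact (Nat.Coprime.coprime_dvd_left hcardKM hcop.symm)
  obtain ⟨B, hB⟩ := Subgroup.exists_right_complement'_of_coprime hcop'
  have hBcard : Nat.card (B.map M.subtype) = Nat.card A := by
    rw [← hKM, ← Nat.card_congr (B.equivMapOfInjective _ M.subtype_injective).toEquiv]
    exact (hB.symm.index_eq_card).symm
  have hBL : B.map M.subtype ≤ K ⊔ A := by
    rintro _ ⟨x, _, rfl⟩
    exact hML x.2
  obtain ⟨n, hn, hn'⟩ := Cop.sz_rel hAK hBL hBcard hcop.symm hsolv.symm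
  refine ⟨n, hn, ?_⟩
  intro a ha
  have h1 : n * a * n⁻¹ ∈ B.map M.subtype := by
    rw [← hn', Hall.mem_conj_smul]
    have : n⁻¹ * (n * a * n⁻¹) * n = a := by group
    rwa [this]
  obtain ⟨x, _, hx⟩ := h1
  rw [← hx]
  exact x.2

/-- Glauberman's lemma for classes: an invariant class contains a fixed element -/
theorem exists_fixed_of_class {A K : Subgroup G} (hAK : A ≤ normalizer (K : Set G))
    (hcop : (Nat.card A).Coprime (Nat.card K)) (hsolv : Group.IsSolvable A ∨ Group.IsSolvable K)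
    {c : G} (hc : ∀ a ∈ A, ∃ n ∈ K, a * c * a⁻¹ = n * c * n⁻¹) :
    ∃ n ∈ K, n * c * n⁻¹ ∈ centralizer (A : Set G) := by
  obtain ⟨n, hn, h1⟩ := exists_conj_mem (M := (K ⊔ A) ⊓ centralizer ({c} : Set G)) hAK hcop hsolv inf_le_left (by
    intro a ha
    obtain ⟨k, hk, hk'⟩ := hc a ha
    have h2 : k⁻¹ * a ∈ (K ⊔ A) ⊓ centralizer ({c} : Set G) := by
      refine mem_inf.mpr ⟨mul_mem (mem_sup_left (K.inv_mem hk)) (mem_sup_right ha), ?_⟩
      rw [mem_centralizer_singleton_iff]
      have h3 : a * c = k * c * k⁻¹ * a := by rw [← hk']; group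
      calc k⁻¹ * a * c = k⁻¹ * (a * c) := by group
        _ = k⁻¹ * (k * c * k⁻¹ * a) := by rw [h3]
        _ = c * (k⁻¹ * a) := by group
    have h3 : a = k * (k⁻¹ * a) := by group
    rw [h3]
    exact mul_mem (mem_sup_right hk) (mem_sup_left h2))
  refine ⟨n⁻¹, K.inv_mem hn, ?_⟩
  rw [mem_centralizer_iff]
  intro a ha
  have h2 := mem_centralizer_singleton_iff.mp (h1 a ha).2
  calc a * (n⁻¹ * c * n⁻¹⁻¹) = n⁻¹ * ((n * a * n⁻¹) * c) * n := by group
    _ = n⁻¹ * (c * (n * a * n⁻¹)) * n := by rw [h2]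
    _ = n⁻¹ * c * n⁻¹⁻¹ * a := by group

/-- fixed elements which are conjugate are conjugate in the fixed points -/
theorem exists_fixed_conj {A K : Subgroup G} (hAK : A ≤ normalizer (K : Set G))
    (hcop : (Nat.card A).Coprime (Nat.card K)) (hsolv : Group.IsSolvable A ∨ Group.IsSolvable K)
    {c d : G} (hc : c ∈ centralizer (A : Set G)) (hd : d ∈ centralizer (A : Set G)) {n : G} (hn : n ∈ K)
    (hcd : n * c * n⁻¹ = d) : ∃ m ∈ K ⊓ centralizer (A : Set G), m * c * m⁻¹ = d := by
  rw [mem_centralizer_iff] at hc hd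
  set D := K ⊓ centralizer ({d} : Set G) with hD
  have hAD : A ≤ normalizer (D : Set G) := by
    refine le_trans ?_ (Subgroup.inf_normalizer_le_normalizer_inf)
    refine le_inf hAK (le_trans ?_ le_normalizer)
    intro a ha
    rw [mem_centralizer_singleton_iff]
    exact hd a ha
  have hcopD : (Nat.card A).Coprime (Nat.card D) :=
    Nat.Coprime.coprime_dvd_right (Subgroup.card_dvd_of_le inf_le_left) hcop
  obtain ⟨m, hm, hm'⟩ := Cop.exists_mul_normalizes hAD hcopD
    (hsolv.imp_right (Cop.isSolvable_of_le inf_le_left)) (x := n⁻¹) (by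
      intro a ha
      refine mem_inf.mpr ⟨?_, ?_⟩
      · rw [inv_inv]
        have h1 : a * n⁻¹ * a⁻¹ ∈ K := Cop.conj_mem_of_le_normalizer hAK ha (K.inv_mem hn)
        have h2 : n * a * n⁻¹ * a⁻¹ = n * (a * n⁻¹ * a⁻¹) := by group
        rw [h2]
        exact mul_mem hn h1
      · rw [mem_centralizer_singleton_iff, inv_inv]
        have h1 := hc a ha
        have h2 := hd a ha
        have h3 : (n * a * n⁻¹) * d = d * (n * a * n⁻¹) := by
          rw [← hcd]
          calc (n * a * n⁻¹) * (n * c * n⁻¹) = n * (a * c) * n⁻¹ := by group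
            _ = n * (c * a) * n⁻¹ := by rw [h1]
            _ = (n * c * n⁻¹) * (n * a * n⁻¹) := by group
        have h4 : a⁻¹ * d = d * a⁻¹ := by
          calc a⁻¹ * d = a⁻¹ * (d * a) * a⁻¹ := by group
            _ = a⁻¹ * (a * d) * a⁻¹ := by rw [h2]
            _ = d * a⁻¹ := by group
        calc n * a * n⁻¹ * a⁻¹ * d = n * a * n⁻¹ * (a⁻¹ * d) := by group
          _ = (n * a * n⁻¹ * d) * a⁻¹ := by rw [h4]; group
          _ = d * (n * a * n⁻¹ * a⁻¹) := by rw [h3]; group)
  have h1 : n⁻¹ * m ∈ centralizer (A : Set G) :=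
    Cop.mem_centralizer_of_normalizes hAK hcop (K.mul_mem (K.inv_mem hn) hm.1) hm'
  refine ⟨(n⁻¹ * m)⁻¹, mem_inf.mpr ⟨K.inv_mem (K.mul_mem (K.inv_mem hn) hm.1), inv_mem h1⟩, ?_⟩
  have h2 := mem_centralizer_singleton_iff.mp hm.2
  calc (n⁻¹ * m)⁻¹ * c * (n⁻¹ * m)⁻¹⁻¹ = m⁻¹ * (n * c * n⁻¹) * m := by group
    _ = m⁻¹ * (d * m) := by rw [hcd]; group
    _ = m⁻¹ * (m * d) := by rw [h2]
    _ = d := by group

/-- If every `A`-invariant class is `S`-invariant then the fixed points agree (`A ≤ S`) -/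
theorem centralizer_eq_of_class {A S K : Subgroup G} (hAS : A ≤ S) (hSK : S ≤ normalizer (K : Set G))
    (hcop : (Nat.card S).Coprime (Nat.card K)) (hsolv : Group.IsSolvable S)
    (hcl : ∀ c ∈ K ⊓ centralizer (A : Set G), ∀ s ∈ S, ∃ n ∈ K, s * c * s⁻¹ = n * c * n⁻¹) :
    K ⊓ centralizer (A : Set G) ≤ centralizer (S : Set G) := by
  have hAK := hAS.trans hSK
  have hcopA : (Nat.card A).Coprime (Nat.card K) :=
    Nat.Coprime.coprime_dvd_left (Subgroup.card_dvd_of_le hAS) hcop
  have hsA : Group.IsSolvable A := Cop.isSolvable_of_le hAS hsolv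
  set C := K ⊓ centralizer (A : Set G) with hC
  have h1 : (centralizer (S : Set G)).subgroupOf C = ⊤ := by
    apply H67.eq_top_of_conj_cover
    intro c
    obtain ⟨n, hn, hn'⟩ := exists_fixed_of_class hSK hcop (Or.inl hsolv) (hcl c c.2)
    have h2 : n * (c : G) * n⁻¹ ∈ centralizer (A : Set G) := centralizer_le hAS hn'
    obtain ⟨m, hm, hm'⟩ := exists_fixed_conj hAK hcopA (Or.inl hsA) c.2.2 h2 hn rfl
    refine ⟨⟨m, hm⟩, ?_⟩
    rw [mem_subgroupOf]
    change m * (c : G) * m⁻¹ ∈ _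
    rw [hm']
    exact hn'
  intro c hc
  have h2 : (⟨c, hc⟩ : C) ∈ (centralizer (S : Set G)).subgroupOf C := by rw [h1]; exact mem_top _
  exact h2

end Cop

/-- the hypothesis -/
def XX (p q : ℕ) (G : Type u) [Group G] : Prop :=
  ∀ χ : IrrCharacter G, ¬ p ∣ charDegree (χ : G → ℂ) → ¬ q ∣ charDegree (χ : G → ℂ)

section Chars

variable {G : Type u} [Group G]

theorem XX.quotient {p q : ℕ} (h : XX p q G) (N : Subgroup G) [N.Normal] : XX p q (G ⧸ N) := by
  intro χ hp hq
  have h1 := isIrrCharacter_comp_surjective χ.2 (QuotientGroup.mk' N) (QuotientGroup.mk'_surjective N)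
  refine h ⟨_, h1⟩ ?_ ?_
  · simpa [charDegree] using hp
  · simpa [charDegree] using hq

variable [Fintype G] {p q : ℕ} [hp : Fact p.Prime] [hq : Fact q.Prime]

/-- a character of degree prime to `p` above one of a subgroup of `p'`-index -/
theorem exists_over_p' (H : Subgroup G) [Fintype H] (hH : ¬ p ∣ H.index) {μ : H → ℂ} (hμ : IsIrrCharacter H μ)
    (hμp : ¬ p ∣ charDegree μ) :
    ∃ χ : IrrCharacter G, ¬ p ∣ charDegree (χ : G → ℂ) ∧ classInner (fun h : H => (χ : G → ℂ) h) μ ≠ 0 := by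
  classical
  have : Fintype (IrrCharacter G) := Fintype.ofFinite _
  have hI : IsCharacter G (indFun H μ) := indFun_isCharacter H μ (isCharacter_of_isIrr hμ)
  have hnat : ∀ χ : IrrCharacter G, ∃ a : ℕ, classInner (indFun H μ) (χ : G → ℂ) = a := fun χ =>
    classInner_natCast hI (irr_isCharacter χ)
  choose a ha using hnat
  have h1 : H.index * charDegree μ = ∑ χ : IrrCharacter G, a χ * charDegree (χ : G → ℂ) := by
    have h2 := classFun_apply_eq_sum (isClassFunction_of_isCharacter hI) (1 : G)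
    have h3 : μ 1 = charDegree μ := BlkC.charDegree_spec ⟨μ, hμ⟩
    rw [indFun_one_apply, h3] at h2
    have h4 : ((H.index * charDegree μ : ℕ) : ℂ) = ((∑ χ : IrrCharacter G, a χ * charDegree (χ : G → ℂ) : ℕ) : ℂ) := by
      push_cast
      rw [h2]
      refine Finset.sum_congr rfl fun χ _ => ?_
      rw [ha χ, BlkC.charDegree_spec]
    exact_mod_cast h4
  have h2 : ¬ p ∣ ∑ χ : IrrCharacter G, a χ * charDegree (χ : G → ℂ) := by
    rw [← h1, hp.out.dvd_mul]
    push Not
    exact ⟨hH, hμp⟩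
  obtain ⟨χ, hχ⟩ : ∃ χ : IrrCharacter G, ¬ p ∣ a χ * charDegree (χ : G → ℂ) := by
    by_contra hcon
    push Not at hcon
    exact h2 (Finset.dvd_sum fun χ _ => hcon χ)
  refine ⟨χ, fun hd => hχ (Dvd.dvd.mul_left hd _), ?_⟩
  have h3 : classInner μ (fun h : H => (χ : G → ℂ) h) ≠ 0 := by
    rw [← frobenius_reciprocity H μ _ (irr_isClassFunction χ), ha χ]
    intro h0
    apply hχ
    have : a χ = 0 := by exact_mod_cast h0
    rw [this, zero_mul]
    exact dvd_zero _
  rwa [classInner_comm_of_isCharacter (isCharacter_restrict (irr_isCharacter χ) H) (isCharacter_of_isIrr hμ)]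

/-- a constituent of the restriction restricts to a constituent -/
theorem inner_ne_zero_of_le {T N : Subgroup G} [Fintype T] [Fintype N] (hNT : N ≤ T) {χ : G → ℂ} (hχ : IsCharacter G χ)
    {μ : T → ℂ} (hμ : IsIrrCharacter T μ) {θ : N → ℂ} (hθ : IsCharacter N θ)
    (h1 : classInner (fun t : T => χ t) μ ≠ 0) (h2 : classInner (fun n : N => μ ⟨n, hNT n.2⟩) θ ≠ 0) :
    classInner (fun n : N => χ n) θ ≠ 0 := by
  classical
  have : Fintype (IrrCharacter T) := Fintype.ofFinite _
  have hT := isCharacter_restrict hχ T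
  have h3 := classInner_restrict_le_eq_sum hNT (isClassFunction_of_isCharacter hT) θ
  have hn1 : ∀ ξ : IrrCharacter T, ∃ a : ℕ, classInner (fun t : T => χ t) (ξ : T → ℂ) = a := fun ξ =>
    classInner_natCast hT (irr_isCharacter ξ)
  have hn2 : ∀ ξ : IrrCharacter T, ∃ a : ℕ, classInner (fun n : N => (ξ : T → ℂ) ⟨n, hNT n.2⟩) θ = a := fun ξ => by
    have h4 : IsCharacter N (fun n : N => (ξ : T → ℂ) ⟨n, hNT n.2⟩) :=
      isCharacter_comp (irr_isCharacter ξ) (Subgroup.inclusion hNT)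
    exact classInner_natCast h4 hθ
  choose a ha using hn1
  choose b hb using hn2
  have h4 : classInner (fun n : N => χ n) θ = ((∑ ξ : IrrCharacter T, a ξ * b ξ : ℕ) : ℂ) := by
    push_cast
    refine h3.trans (Finset.sum_congr rfl fun ξ _ => ?_)
    rw [ha, hb]
  rw [h4]
  have h5 : a ⟨μ, hμ⟩ ≠ 0 := by
    intro h0
    apply h1
    have := ha ⟨μ, hμ⟩
    rw [h0] at this
    simpa using this
  have h6 : b ⟨μ, hμ⟩ ≠ 0 := by
    intro h0
    apply h2
    have := hb ⟨μ, hμ⟩
    rw [h0] at this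
    simpa using this
  have h7 : 0 < ∑ ξ : IrrCharacter T, a ξ * b ξ := by
    apply Finset.sum_pos' (fun _ _ => Nat.zero_le _)
    exact ⟨⟨μ, hμ⟩, Finset.mem_univ _, Nat.mul_pos (Nat.pos_of_ne_zero h5) (Nat.pos_of_ne_zero h6)⟩
  exact_mod_cast h7.ne'

/-- the index of the inertia group divides the degree -/
theorem index_inertia_dvd (N : Subgroup G) [N.Normal] [Fintype N] (χ : IrrCharacter G) {θ : N → ℂ} (hθ : IsIrrCharacter N θ)
    (h : classInner (fun n : N => (χ : G → ℂ) n) θ ≠ 0) : (inertia N θ).index ∣ charDegree (χ : G → ℂ) := by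
  have h1 := clifford_degree N χ.2 hθ h
  obtain ⟨m, hm⟩ := classInner_natCast (isCharacter_restrict (irr_isCharacter χ) N) (isCharacter_of_isIrr hθ)
  have h3 : θ 1 = charDegree θ := BlkC.charDegree_spec ⟨θ, hθ⟩
  rw [hm, h3, BlkC.charDegree_spec] at h1
  have h2 : charDegree (χ : G → ℂ) = m * ((inertia N θ).index * charDegree θ) := by exact_mod_cast h1
  exact ⟨m * charDegree θ, by rw [h2]; ring⟩

end Chars

section T2

variable {G : Type u} [Group G] [Finite G] {p q : ℕ} [hp : Fact p.Prime] [hq : Fact q.Prime]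

theorem sylow_le_core (hpq : p ≠ q) (hsolv : IsPSolvable p G) (P : Sylow p G) (Q : Sylow q G)
    (hPQ : (P : Subgroup G) ≤ normalizer ((Q : Subgroup G) : Set G)) : (Q : Subgroup G) ≤ pPrimeCore p G := by
  set K := pPrimeCore p G with hK
  have hKn : K.Normal := inferInstanceAs (pPrimeCore p G).Normal
  let π := QuotientGroup.mk' K
  have hπ : Function.Surjective π := QuotientGroup.mk'_surjective K
  have hcore : pPrimeCore p (G ⧸ K) = ⊥ := Solv.pPrimeCore_quotient_pPrimeCore p
  have hHH := H76.centralizer_pCore_le (H76.isPSolvable_quotient K hsolv) hcore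
  set R := pCore p (G ⧸ K) with hR
  have hRn : R.Normal := inferInstanceAs (pCore p (G ⧸ K)).Normal
  set Q' := (Q : Subgroup G).map π with hQ'
  have hQ'q : IsPGroup q Q' := Q.2.map π
  have hRp : IsPGroup p R := Solv.pCore_isPGroup p
  have hRP : R ≤ (P : Subgroup G).map π := by
    have := Solv.pCore_le_sylow (p := p) (P.mapSurjective hπ)
    rwa [Sylow.coe_mapSurjective] at this
  have hRQ : R ≤ normalizer (Q' : Set (G ⧸ K)) := by
    refine hRP.trans ?_
    refine (map_mono hPQ).trans ?_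
    exact le_normalizer_map π
  have hdisj : R ⊓ Q' = ⊥ := (IsPGroup.disjoint_of_ne p q hpq R Q' hRp hQ'q).eq_bot
  have hcomm : ⁅Q', R⁆ = ⊥ := by
    rw [eq_bot_iff, ← hdisj]
    refine le_inf ?_ ?_
    · exact commutator_le_right Q' R
    · rw [← le_normalizer_iff_commutator_le_left]
      exact hRQ
  have hQC : Q' ≤ R := by
    refine le_trans ?_ hHH
    rwa [commutator_eq_bot_iff_le_centralizer] at hcomm
  have hQbot : Q' = ⊥ := by
    rw [inf_eq_right.mpr hQC] at hdisj
    exact hdisj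
  rw [hQ', Subgroup.map_eq_bot_iff, QuotientGroup.ker_mk'] at hQbot
  exact hQbot

/-- the `P`-invariant Sylow `q`-subgroup lies in every overgroup of `P` of `q'`-index -/
theorem le_of_index (hpq : p ≠ q) (hsolv : IsPSolvable p G) (P : Sylow p G) (Q : Sylow q G)
    (hN : normalizer ((P : Subgroup G) : Set G) ≤ normalizer ((Q : Subgroup G) : Set G)) (T : Subgroup G)
    (hPT : (P : Subgroup G) ≤ T) (hT : ¬ q ∣ T.index) : (Q : Subgroup G) ≤ T := by
  have hPQ : (P : Subgroup G) ≤ normalizer ((Q : Subgroup G) : Set G) := le_normalizer.trans hN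
  set K := pPrimeCore p G with hK
  have hKn : K.Normal := inferInstanceAs (pPrimeCore p G).Normal
  have hQK : (Q : Subgroup G) ≤ K := sylow_le_core hpq hsolv P Q hPQ
  have hKcop : (Nat.card K).Coprime p := Solv.pPrimeCore_card_coprime p
  obtain ⟨k, hk⟩ := IsPGroup.iff_card.mp P.isPGroup'
  have hcop : (Nat.card (P : Subgroup G)).Coprime (Nat.card K) := by
    rw [hk]
    exact Nat.Coprime.pow_left _ hKcop.symm
  have hsP : Group.IsSolvable (P : Subgroup G) := by
    have : Group.IsNilpotent (P : Subgroup G) := P.isPGroup'.isNilpotent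
    infer_instance
  set D := T ⊓ K with hD
  have hPD : (P : Subgroup G) ≤ normalizer (D : Set G) := by
    refine le_trans ?_ inf_normalizer_le_normalizer_inf
    refine le_inf (hPT.trans le_normalizer) ?_
    rw [normalizer_eq_top]
    exact le_top
  have hcopD : (Nat.card (P : Subgroup G)).Coprime (Nat.card D) :=
    Nat.Coprime.coprime_dvd_right (card_dvd_of_le inf_le_right) hcop
  obtain ⟨Q₁, hQ₁⟩ := Cop.exists_invariant_sylow hPD hcopD (Or.inl hsP) q
  set R := (Q₁ : Subgroup D).map D.subtype with hR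
  have hRD : R ≤ D := by
    rintro _ ⟨x, _, rfl⟩
    exact x.2
  -- R has the right order
  have hRcard : Nat.card R = q ^ (Nat.card D).factorization q := by
    rw [hR, Cop.card_map_subtype, Q₁.card_eq_multiplicity]
  have hG0 : Nat.card G ≠ 0 := Nat.card_pos.ne'
  have hqq := hq.out
  have hTv : (Nat.card T).factorization q = (Nat.card G).factorization q := by
    rw [← T.card_mul_index, Nat.factorization_mul Nat.card_pos.ne' index_ne_zero_of_finite, Finsupp.add_apply,
      Nat.factorization_eq_zero_of_not_dvd hT, add_zero]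
  have hmono : ∀ A B : Subgroup G, A ≤ B → (Nat.card A).factorization q ≤ (Nat.card B).factorization q := by
    intro A B hAB
    exact (Nat.factorization_le_iff_dvd Nat.card_pos.ne' Nat.card_pos.ne').mpr (card_dvd_of_le hAB) q
  have hKv : (Nat.card K).factorization q = (Nat.card G).factorization q := by
    apply le_antisymm
    · exact (Nat.factorization_le_iff_dvd Nat.card_pos.ne' hG0).mpr (card_subgroup_dvd_card K) q
    · have h1 := card_dvd_of_le hQK
      rw [Q.card_eq_multiplicity] at h1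
      exact (hqq.pow_dvd_iff_le_factorization Nat.card_pos.ne').mp h1
  have hDv : (Nat.card D).factorization q = (Nat.card K).factorization q := by
    have h1 := congrArg (fun n => n.factorization q) (Solv.mul_card_sup_of_normal T K)
    rw [← hD] at h1
    rw [Nat.factorization_mul Nat.card_pos.ne' Nat.card_pos.ne', Nat.factorization_mul Nat.card_pos.ne' Nat.card_pos.ne',
      Finsupp.add_apply, Finsupp.add_apply] at h1
    have h2 := hmono T (T ⊔ K) le_sup_left
    have h3 : (Nat.card (T ⊔ K : Subgroup G)).factorization q ≤ (Nat.card G).factorization q :=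
      (Nat.factorization_le_iff_dvd Nat.card_pos.ne' hG0).mpr (card_subgroup_dvd_card _) q
    omega
  obtain ⟨R', hR'⟩ := Cop.exists_sylow_map_eq (K := K) (P := R) (p := q) (hRD.trans inf_le_right) (by rw [hRcard, hDv])
  obtain ⟨Q', hQ'⟩ := Cop.exists_sylow_map_eq (K := K) (P := (Q : Subgroup G)) (p := q) hQK (by
    rw [Q.card_eq_multiplicity, hKv])
  have hPK : (P : Subgroup G) ≤ normalizer (K : Set G) := by
    rw [normalizer_eq_top]
    exact le_top
  obtain ⟨k, hk, hk'⟩ := Cop.sylow_trans Q' R'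
  rw [hQ', hR'] at hk'
  obtain ⟨c, hc, h1⟩ := Cop.exists_centralizer_conj hPK hcop (Or.inl hsP) hPQ hQ₁ hk hk'
  have h2 : (c : G) ∈ normalizer ((Q : Subgroup G) : Set G) := hN (centralizer_le_normalizer _ hc.2)
  rw [Cop.conj_smul_eq_of_mem_normalizer h2] at h1
  rw [h1]
  exact hRD.trans inf_le_left

end T2

section Steps

variable {G : Type u} [Group G] [Fintype G] {p q : ℕ} [hp : Fact p.Prime] [hq : Fact q.Prime]

theorem exists_frattini' (N : Subgroup G) [hN : N.Normal] (Q : Sylow q G)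
    (hcop : (Nat.card (Q : Subgroup G)).Coprime (Nat.card N)) {x : G}
    (hx : ∀ y ∈ Q, ∃ y' ∈ Q, ∃ n ∈ N, x * y * x⁻¹ = y' * n) :
    ∃ n ∈ N, n⁻¹ * x ∈ normalizer ((Q : Subgroup G) : Set G) := by
  have hQN : (Q : Subgroup G) ≤ normalizer (N : Set G) := by rw [normalizer_eq_top]; exact le_top
  have hsQ : Group.IsSolvable (Q : Subgroup G) := by
    have : Group.IsNilpotent (Q : Subgroup G) := Q.isPGroup'.isNilpotent
    infer_instance
  have hB : MulAut.conj x • (Q : Subgroup G) ≤ N ⊔ (Q : Subgroup G) := by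
    intro z hz
    rw [Hall.mem_conj_smul] at hz
    obtain ⟨y', hy', n, hn, heq⟩ := hx _ hz
    have h1 : z = y' * n := by rw [← heq]; group
    rw [h1]
    exact mul_mem (mem_sup_right hy') (mem_sup_left hn)
  have hcard : Nat.card (MulAut.conj x • (Q : Subgroup G) : Subgroup G) = Nat.card (Q : Subgroup G) :=
    Nat.card_congr (Subgroup.equivSMul (MulAut.conj x) (Q : Subgroup G)).symm.toEquiv
  obtain ⟨n, hn, hn'⟩ := Cop.sz_rel hQN hB hcard hcop.symm (Or.inr hsQ)
  refine ⟨n, hn, ?_⟩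
  apply Cop.mem_normalizer_of_conj_smul_eq
  rw [← Hall.conj_smul_conj_smul, ← hn', Hall.conj_smul_conj_smul, inv_mul_cancel, map_one, one_smul]

theorem exists_frattini (hpq : p ≠ q) (N : Subgroup G) [hN : N.Normal] (hNp : IsPGroup p N) (Q : Sylow q G) {x : G}
    (hx : ∀ y ∈ Q, ∃ y' ∈ Q, ∃ n ∈ N, x * y * x⁻¹ = y' * n) :
    ∃ n ∈ N, n⁻¹ * x ∈ normalizer ((Q : Subgroup G) : Set G) := by
  apply exists_frattini' N Q ?_ hx
  obtain ⟨i, hi⟩ := IsPGroup.iff_card.mp Q.isPGroup'
  obtain ⟨j, hj⟩ := IsPGroup.iff_card.mp hNp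
  rw [hi, hj]
  exact Nat.Coprime.pow i j ((Nat.coprime_primes hp.out hq.out).mpr hpq).symm

/-- inertia groups of characters of a normal subgroup fixed by `P` contain `Q` -/
theorem sylow_le_inertia (hpq : p ≠ q) (hsolv : IsPSolvable p G) (h : XX p q G) (P : Sylow p G) (N : Subgroup G)
    [hN : N.Normal] [Fintype N] (Q : Sylow q G)
    (hQ : normalizer (((P : Subgroup G).map (QuotientGroup.mk' N) : Subgroup (G ⧸ N)) : Set (G ⧸ N)) ≤
      normalizer (((Q : Subgroup G).map (QuotientGroup.mk' N) : Subgroup (G ⧸ N)) : Set (G ⧸ N)))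
    {χ : IrrCharacter G} (hχ : ¬ p ∣ charDegree (χ : G → ℂ)) {θ : N → ℂ} (hθ : IsIrrCharacter N θ)
    (hne : classInner (fun n : N => (χ : G → ℂ) n) θ ≠ 0) (hPθ : (P : Subgroup G) ≤ inertia N θ) :
    (Q : Subgroup G) ≤ inertia N θ := by
  have h1 := index_inertia_dvd N χ hθ hne
  have h2 : ¬ q ∣ (inertia N θ).index := fun hd => h χ hχ (hd.trans h1)
  set T := inertia N θ with hT
  have hNT : N ≤ T := le_inertia N (isClassFunction_of_isCharacter (isCharacter_of_isIrr hθ))
  let π := QuotientGroup.mk' N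
  have hπ : Function.Surjective π := QuotientGroup.mk'_surjective N
  have hidx : (T.map π).index = T.index := by
    rw [index_map, QuotientGroup.ker_mk', sup_eq_left.mpr hNT, MonoidHom.range_eq_top.mpr hπ, index_top, mul_one]
  have h3 := le_of_index hpq (H76.isPSolvable_quotient N hsolv) (P.mapSurjective hπ) (Q.mapSurjective hπ)
    (by rw [Sylow.coe_mapSurjective, Sylow.coe_mapSurjective]; exact hQ) (T.map π)
    (by rw [Sylow.coe_mapSurjective]; exact map_mono hPθ) (by rw [hidx]; exact h2)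
  rw [Sylow.coe_mapSurjective] at h3
  intro x hx
  obtain ⟨t, ht, htx⟩ := h3 (mem_map_of_mem π hx)
  have h4 : t⁻¹ * x ∈ N := QuotientGroup.eq.mp htx
  have h5 : x = t * (t⁻¹ * x) := by group
  rw [h5]
  exact mul_mem ht (hNT h4)

/-- Step 2: an abelian normal `p`-subgroup -/
theorem step_p (hpq : p ≠ q) (hsolv : IsPSolvable p G) (h : XX p q G) (P : Sylow p G) (N : Subgroup G)
    [hN : N.Normal] (hNp : IsPGroup p N) (hNc : ∀ a ∈ N, ∀ b ∈ N, a * b = b * a) (Q : Sylow q G)
    (hQ : normalizer (((P : Subgroup G).map (QuotientGroup.mk' N) : Subgroup (G ⧸ N)) : Set (G ⧸ N)) ≤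
      normalizer (((Q : Subgroup G).map (QuotientGroup.mk' N) : Subgroup (G ⧸ N)) : Set (G ⧸ N)))
    (hE : ∀ g ∈ normalizer ((P : Subgroup G) : Set G), ∀ y ∈ Q, ∃ y' ∈ Q, ∃ n ∈ N, g * y * g⁻¹ = y' * n) :
    normalizer ((P : Subgroup G) : Set G) ≤ normalizer ((Q : Subgroup G) : Set G) := by
  classical
  have : Fintype N := Fintype.ofFinite N
  have : Fintype (P : Subgroup G) := Fintype.ofFinite _
  have hpp := hp.out
  have hqq := hq.out
  have hNP : N ≤ (P : Subgroup G) := hNp.le_sylow_of_normal P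
  have hcoprime : Nat.Coprime p q := (Nat.coprime_primes hpp hqq).mpr hpq
  have hQN : ∀ x, x ∈ Q → x ∈ N → x = 1 := by
    intro x hx hxN
    obtain ⟨i, hi⟩ := Q.2 ⟨x, hx⟩
    obtain ⟨j, hj⟩ := hNp ⟨x, hxN⟩
    have hi' : x ^ q ^ i = 1 := congrArg Subtype.val hi
    have hj' : x ^ p ^ j = 1 := congrArg Subtype.val hj
    have h1 : orderOf x ∣ 1 := by
      rw [← Nat.Coprime.gcd_eq_one (Nat.Coprime.pow j i hcoprime)]
      exact Nat.dvd_gcd (orderOf_dvd_of_pow_eq_one hj') (orderOf_dvd_of_pow_eq_one hi')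
    exact orderOf_eq_one_iff.mp (Nat.dvd_one.mp h1)
  -- it is enough that Q centralizes N
  suffices hcen : ∀ y ∈ Q, ∀ n ∈ N, y * n = n * y by
    have key : ∀ g ∈ normalizer ((P : Subgroup G) : Set G), ∀ y ∈ Q, g * y * g⁻¹ ∈ Q := by
      intro g hg y hy
      obtain ⟨y', hy', n, hn, heq⟩ := hE g hg y hy
      have hc : Commute y' n := hcen y' hy' n hn
      obtain ⟨i, hi⟩ := Q.2 ⟨y, hy⟩
      have hi' : y ^ q ^ i = 1 := congrArg Subtype.val hi
      obtain ⟨i', hi''⟩ := Q.2 ⟨y', hy'⟩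
      have hy'' : y' ^ q ^ i' = 1 := congrArg Subtype.val hi''
      have h1 : (y' * n) ^ q ^ (i + i') = 1 := by
        rw [← heq, conj_pow, pow_add, pow_mul, hi', one_pow]
        group
      rw [hc.mul_pow] at h1
      have h2 : y' ^ q ^ (i + i') = 1 := by rw [add_comm, pow_add, pow_mul, hy'', one_pow]
      rw [h2, one_mul] at h1
      obtain ⟨j, hj⟩ := hNp ⟨n, hn⟩
      have hj' : n ^ p ^ j = 1 := congrArg Subtype.val hj
      have h3 : orderOf n ∣ 1 := by
        rw [← Nat.Coprime.gcd_eq_one (Nat.Coprime.pow j (i + i') hcoprime)]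
        exact Nat.dvd_gcd (orderOf_dvd_of_pow_eq_one hj') (orderOf_dvd_of_pow_eq_one h1)
      have h4 : n = 1 := orderOf_eq_one_iff.mp (Nat.dvd_one.mp h3)
      rw [heq, h4, mul_one]
      exact hy'
    intro g hg
    rw [mem_normalizer_iff]
    intro x
    constructor
    · exact key g hg x
    · intro hx
      have h1 := key g⁻¹ (inv_mem hg) _ hx
      have h2 : g⁻¹ * (g * x * g⁻¹) * g⁻¹⁻¹ = x := by group
      rwa [h2] at h1
  by_contra hcon
  push Not at hcon
  obtain ⟨y₀, hy₀, n₀, hn₀, hne₀⟩ := hcon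
  -- P₀
  set P₀ := (normalizer ((Q : Subgroup G) : Set G)).subgroupOf (P : Subgroup G) with hP₀
  have hP₀top : P₀ ≠ ⊤ := by
    intro h0
    rw [hP₀, subgroupOf_eq_top] at h0
    have h1 : n₀ ∈ normalizer ((Q : Subgroup G) : Set G) := h0 (hNP hn₀)
    have h2 : n₀ * y₀ * n₀⁻¹ ∈ (Q : Subgroup G) := (mem_normalizer_iff.mp h1 y₀).mp hy₀
    have h3 : n₀ * y₀ * n₀⁻¹ * y₀⁻¹ ∈ (Q : Subgroup G) := mul_mem h2 (inv_mem hy₀)
    have h4 : n₀ * y₀ * n₀⁻¹ * y₀⁻¹ ∈ N := by
      have h5 := hN.conj_mem n₀⁻¹ (inv_mem hn₀) y₀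
      have h6 : n₀ * y₀ * n₀⁻¹ * y₀⁻¹ = n₀ * (y₀ * n₀⁻¹ * y₀⁻¹) := by group
      rw [h6]
      exact mul_mem hn₀ h5
    have h5 := hQN _ h3 h4
    apply hne₀
    have h6 : n₀ * y₀ = y₀ * n₀ := by
      calc n₀ * y₀ = (n₀ * y₀ * n₀⁻¹ * y₀⁻¹) * (y₀ * n₀) := by group
        _ = y₀ * n₀ := by rw [h5, one_mul]
    exact h6.symm
  obtain ⟨P₁, hP₁, hP₀₁⟩ := (eq_top_or_exists_le_coatom P₀).resolve_left hP₀top
  obtain ⟨hP₁n, hP₁i⟩ := Solv.coatom_of_pGroup P.isPGroup' P₁ hP₁
  -- P = N P₀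
  have hgen : ∀ x ∈ (P : Subgroup G), ∃ n ∈ N, n⁻¹ * x ∈ normalizer ((Q : Subgroup G) : Set G) :=
    fun x hx => exists_frattini hpq N hNp Q (fun y hy => hE x (le_normalizer hx) y hy)
  -- a linear character of P with P₁ in its kernel
  have hcard : Nat.card ((P : Subgroup G) ⧸ P₁) = p := hP₁i
  have hcyc : IsCyclic ((P : Subgroup G) ⧸ P₁) := isCyclic_of_prime_card hcard
  have hcomm : ∀ a b : (P : Subgroup G) ⧸ P₁, a * b = b * a := by
    intro a b
    obtain ⟨g, hg⟩ := hcyc.exists_generator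
    obtain ⟨k, hk⟩ := hg a
    obtain ⟨l, hl⟩ := hg b
    rw [← hk, ← hl]
    exact (Commute.refl g).zpow_zpow k l
  obtain ⟨x₀, hx₀⟩ : ∃ x₀ : (P : Subgroup G) ⧸ P₁, x₀ ≠ 1 := by
    have : Nontrivial ((P : Subgroup G) ⧸ P₁) := by
      rw [← Finite.one_lt_card_iff_nontrivial, hcard]
      exact hpp.one_lt
    exact exists_ne 1
  obtain ⟨β, hβ⟩ : ∃ β : IrrCharacter ((P : Subgroup G) ⧸ P₁), (β : (P : Subgroup G) ⧸ P₁ → ℂ) x₀ ≠ (β : (P : Subgroup G) ⧸ P₁ → ℂ) 1 := by
    by_contra hcon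
    push Not at hcon
    have h1 := isConj_of_irr_eq hcon
    obtain ⟨c, hc⟩ := isConj_iff.mp h1
    apply hx₀
    have h3 : x₀ = c⁻¹ * 1 * c := by rw [← hc]; group
    rw [h3]; group
  have hβ1 : (β : (P : Subgroup G) ⧸ P₁ → ℂ) 1 = 1 := by
    apply CC.degree_one_of_commutator β.2
    intro x y
    rw [commutatorElement_eq_one_iff_mul_comm.mpr (hcomm x y)]
  have hβc := irr_isCharacter β
  set μ : ↥(P : Subgroup G) → ℂ := fun x => (β : (P : Subgroup G) ⧸ P₁ → ℂ) (QuotientGroup.mk x) with hμ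
  have hμirr : IsIrrCharacter (P : Subgroup G) μ := isIrrCharacter_inflate P₁ β.2
  have hμc := isCharacter_of_isIrr hμirr
  have hμ1 : μ 1 = 1 := hβ1
  have hμP₁ : ∀ x ∈ P₁, μ x = 1 := by
    intro x hx
    change (β : (P : Subgroup G) ⧸ P₁ → ℂ) (QuotientGroup.mk x) = 1
    rw [(QuotientGroup.eq_one_iff x).mpr hx, hβ1]
  let lam : N → ℂ := fun n => μ ⟨n, hNP n.2⟩
  have hlam : IsCharacter N lam := isCharacter_comp hμc (Subgroup.inclusion hNP)
  have hlam1 : lam 1 = 1 := hμ1
  have hlamirr : IsIrrCharacter N lam := by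
    have h1 := isIrrCharacter_of_hom (linHom hlam hlam1)
    exact h1
  -- lam is nontrivial
  have hnontriv : ∃ n : N, lam n ≠ 1 := by
    by_contra hcon
    push Not at hcon
    obtain ⟨x, rfl⟩ := QuotientGroup.mk_surjective x₀
    apply hβ
    obtain ⟨n, hn, hnx⟩ := hgen x x.2
    have h1 : (⟨n⁻¹ * x, mul_mem (inv_mem (hNP hn)) x.2⟩ : (P : Subgroup G)) ∈ P₁ := hP₀₁ (mem_subgroupOf.mpr hnx)
    have h2 : x = (⟨n, hNP hn⟩ : (P : Subgroup G)) * ⟨n⁻¹ * x, mul_mem (inv_mem (hNP hn)) x.2⟩ := by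
      apply Subtype.ext
      change (x : G) = n * (n⁻¹ * x)
      group
    have h3 : μ x = 1 := by
      rw [h2, linChar_mul hμc hμ1, hμP₁ _ h1, mul_one]
      exact hcon ⟨n, hn⟩
    rw [hβ1]
    exact h3
  -- lam is trivial on C_N(Q)
  have hlamC : ∀ c, (hc : c ∈ N) → c ∈ centralizer ((Q : Subgroup G) : Set G) → lam ⟨c, hc⟩ = 1 := by
    intro c hc hcQ
    apply hμP₁
    apply hP₀₁
    rw [mem_subgroupOf]
    exact centralizer_le_normalizer _ hcQ
  -- the character of G
  have hPi : ¬ p ∣ (P : Subgroup G).index := P.not_dvd_index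
  obtain ⟨χ, hχ, hχP⟩ := exists_over_p' (P : Subgroup G) hPi hμirr (by
    have h1 : charDegree μ = 1 := charDegree_eq (by rw [hμ1]; simp)
    rw [h1]
    exact hpp.one_lt.ne' ∘ Nat.dvd_one.mp)
  have hχN : classInner (fun n : N => (χ : G → ℂ) n) lam ≠ 0 := by
    refine inner_ne_zero_of_le hNP (irr_isCharacter χ) hμirr hlam hχP ?_
    change classInner lam lam ≠ 0
    rw [classInner_self_of_irr hlamirr]
    exact one_ne_zero
  have hPlam : (P : Subgroup G) ≤ inertia N lam := by
    intro x hx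
    rw [mem_inertia_iff]
    intro n
    change μ ⟨x * n * x⁻¹, _⟩ = μ ⟨n, _⟩
    have h1 := linChar_conj_elt hμc hμ1 ⟨n, hNP n.2⟩ ⟨x, hx⟩
    rw [← h1]
    rfl
  have hQlam := sylow_le_inertia hpq hsolv h P N Q hQ hχ hlamirr hχN hPlam
  -- contradiction
  obtain ⟨n, hn⟩ := hnontriv
  apply hn
  have hQNn : (Q : Subgroup G) ≤ normalizer (N : Set G) := by rw [normalizer_eq_top]; exact le_top
  have hcop : (Nat.card (Q : Subgroup G)).Coprime (Nat.card N) := by
    obtain ⟨i, hi⟩ := IsPGroup.iff_card.mp Q.isPGroup'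
    obtain ⟨j, hj⟩ := IsPGroup.iff_card.mp hNp
    rw [hi, hj]
    exact Nat.Coprime.pow i j hcoprime.symm
  have hsQ : Group.IsSolvable (Q : Subgroup G) := by
    have : Group.IsNilpotent (Q : Subgroup G) := Q.isPGroup'.isNilpotent
    infer_instance
  obtain ⟨u, hu, c, hc, huc⟩ := Cop.exists_eq_mul_of_mem hQNn hcop (Or.inl hsQ) n.2
  have hle : ⁅N, (Q : Subgroup G)⁆ ≤ N := commutator_le_left N _
  have hlu : ∀ u (hu : u ∈ ⁅N, (Q : Subgroup G)⁆), lam ⟨u, hle hu⟩ = 1 := by
    intro u hu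
    let Kr : Subgroup G := (linHom hlam hlam1).ker.map N.subtype
    have h1 : ⁅N, (Q : Subgroup G)⁆ ≤ Kr := by
      rw [commutator_le]
      intro a ha y hy
      have h2 : a * y * a⁻¹ * y⁻¹ ∈ N := by
        have h5 := hN.conj_mem a⁻¹ (inv_mem ha) y
        have h6 : a * y * a⁻¹ * y⁻¹ = a * (y * a⁻¹ * y⁻¹) := by group
        rw [h6]
        exact mul_mem ha h5
      refine ⟨⟨a * y * a⁻¹ * y⁻¹, h2⟩, ?_, rfl⟩
      change lam ⟨a * y * a⁻¹ * y⁻¹, h2⟩ = 1
      have h3 := (mem_inertia_iff N).mp (hQlam hy) ⟨a⁻¹, inv_mem ha⟩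
      have h4 : (⟨a * y * a⁻¹ * y⁻¹, h2⟩ : N) = ⟨a, ha⟩ * ⟨y * a⁻¹ * y⁻¹, hN.conj_mem _ (inv_mem ha) y⟩ := by
        apply Subtype.ext
        change a * y * a⁻¹ * y⁻¹ = a * (y * a⁻¹ * y⁻¹)
        group
      rw [h4, linChar_mul hlam hlam1]
      have h5 : lam ⟨y * a⁻¹ * y⁻¹, hN.conj_mem _ (inv_mem ha) y⟩ = lam ⟨a⁻¹, inv_mem ha⟩ := h3
      rw [h5, ← linChar_mul hlam hlam1]
      have h6 : (⟨a, ha⟩ * ⟨a⁻¹, inv_mem ha⟩ : N) = 1 := Subtype.ext (mul_inv_cancel a)
      rw [h6, hlam1]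
    obtain ⟨z, hz, hzu⟩ := h1 hu
    have h2 : z = ⟨u, hle hu⟩ := Subtype.ext hzu
    rw [← h2]
    exact hz
  have h1 : n = (⟨u, hle hu⟩ : N) * ⟨c, hc.1⟩ := Subtype.ext huc
  rw [h1, linChar_mul hlam hlam1, hlu u hu, hlamC c hc.1 hc.2, mul_one]


/-- Step 3: a normal `{p,q}'`-subgroup -/
theorem step_pq' (hpq : p ≠ q) (hsolv : IsPSolvable p G) (h : XX p q G) (P : Sylow p G) (N : Subgroup G)
    [hN : N.Normal] (hNp : ¬ p ∣ Nat.card N) (hNq : ¬ q ∣ Nat.card N) (Q₀ : Sylow q G)
    (hQ : normalizer (((P : Subgroup G).map (QuotientGroup.mk' N) : Subgroup (G ⧸ N)) : Set (G ⧸ N)) ≤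
      normalizer (((Q₀ : Subgroup G).map (QuotientGroup.mk' N) : Subgroup (G ⧸ N)) : Set (G ⧸ N))) :
    ∃ Q : Sylow q G, normalizer ((P : Subgroup G) : Set G) ≤ normalizer ((Q : Subgroup G) : Set G) := by
  classical
  have : Fintype N := Fintype.ofFinite N
  have : Fintype (P : Subgroup G) := Fintype.ofFinite _
  have hpp := hp.out
  have hqq := hq.out
  have hcoprime : Nat.Coprime p q := (Nat.coprime_primes hpp hqq).mpr hpq
  let π := QuotientGroup.mk' N
  have hπ : Function.Surjective π := QuotientGroup.mk'_surjective N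
  -- E = Q₀ N
  set E : Subgroup G := (((Q₀ : Subgroup G).map π : Subgroup (G ⧸ N))).comap π with hE
  have hEeq : E = (Q₀ : Subgroup G) ⊔ N := by rw [hE, comap_map_eq, QuotientGroup.ker_mk']
  have hPE : normalizer ((P : Subgroup G) : Set G) ≤ normalizer (E : Set G) := by
    intro g hg
    rw [hE, ← comap_normalizer_eq_of_surjective _ hπ, mem_comap]
    apply hQ
    exact le_normalizer_map π (mem_map_of_mem π hg)
  have hcardQ₀ : Nat.card (Q₀ : Subgroup G) = q ^ (Nat.card G).factorization q := Q₀.card_eq_multiplicity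
  have hQ₀N : (Nat.card (Q₀ : Subgroup G)).Coprime (Nat.card N) := by
    rw [hcardQ₀]
    exact Nat.Coprime.pow_left _ ((hqq.coprime_iff_not_dvd).mpr hNq)
  have hEcard : Nat.card E = Nat.card (Q₀ : Subgroup G) * Nat.card N := by
    have h1 := Solv.mul_card_sup_of_normal (Q₀ : Subgroup G) N
    rw [Cop.inf_eq_bot_of_coprime hQ₀N, card_bot, mul_one, ← hEeq] at h1
    exact h1
  have hcopE : (Nat.card (P : Subgroup G)).Coprime (Nat.card E) := by
    obtain ⟨k, hk⟩ := IsPGroup.iff_card.mp P.isPGroup'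
    rw [hk, hEcard, hcardQ₀]
    refine Nat.Coprime.pow_left _ (Nat.Coprime.mul_right (Nat.Coprime.pow_right _ hcoprime) ?_)
    exact (hpp.coprime_iff_not_dvd).mpr hNp
  have hsP : Group.IsSolvable (P : Subgroup G) := by
    have : Group.IsNilpotent (P : Subgroup G) := P.isPGroup'.isNilpotent
    infer_instance
  obtain ⟨Q₁, hQ₁⟩ := Cop.exists_invariant_sylow (le_normalizer.trans hPE) hcopE (Or.inl hsP) q
  set R := (Q₁ : Subgroup E).map E.subtype with hR
  have hRE : R ≤ E := by
    rintro _ ⟨x, _, rfl⟩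
    exact x.2
  have hEv : (Nat.card E).factorization q = (Nat.card G).factorization q := by
    rw [hEcard, Nat.factorization_mul Nat.card_pos.ne' Nat.card_pos.ne', Finsupp.add_apply,
      Nat.factorization_eq_zero_of_not_dvd hNq, add_zero, hcardQ₀, hqq.factorization_pow, Finsupp.single_eq_same]
  have hRcard : Nat.card R = q ^ (Nat.card G).factorization q := by
    rw [hR, Cop.card_map_subtype, Q₁.card_eq_multiplicity, hEv]
  let Q : Sylow q G := Sylow.ofCard R hRcard
  have hQR : (Q : Subgroup G) = R := rfl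
  refine ⟨Q, ?_⟩
  have hPQ : (P : Subgroup G) ≤ normalizer ((Q : Subgroup G) : Set G) := hQ₁
  -- Q N = E
  have hQE : (Q : Subgroup G) ⊔ N = E := by
    have hle : (Q : Subgroup G) ⊔ N ≤ E := sup_le hRE (by rw [hEeq]; exact le_sup_right)
    apply SetLike.coe_injective
    apply Set.eq_of_subset_of_ncard_le hle
    have h1 := Solv.mul_card_sup_of_normal (Q : Subgroup G) N
    have h2 : (Nat.card (Q : Subgroup G)).Coprime (Nat.card N) := by
      rw [Q.card_eq_multiplicity, ← hcardQ₀]; exact hQ₀N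
    rw [Cop.inf_eq_bot_of_coprime h2, card_bot, mul_one, Q.card_eq_multiplicity, ← hcardQ₀, ← hEcard] at h1
    exact h1.ge
  have hQmap : (Q : Subgroup G).map π = (Q₀ : Subgroup G).map π := by
    have h1 : ((Q : Subgroup G).map π).comap π = ((Q₀ : Subgroup G).map π).comap π := by
      rw [comap_map_eq, QuotientGroup.ker_mk', hQE]
    exact comap_injective hπ h1
  have hQ' : normalizer (((P : Subgroup G).map (QuotientGroup.mk' N) : Subgroup (G ⧸ N)) : Set (G ⧸ N)) ≤
      normalizer (((Q : Subgroup G).map (QuotientGroup.mk' N) : Subgroup (G ⧸ N)) : Set (G ⧸ N)) := by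
    change _ ≤ normalizer (((Q : Subgroup G).map π : Subgroup (G ⧸ N)) : Set (G ⧸ N))
    rw [hQmap]
    exact hQ
  -- P-invariant characters of N are Q-invariant
  have hinv : ∀ θ : IrrCharacter N, (P : Subgroup G) ≤ inertia N (θ : N → ℂ) →
      (Q : Subgroup G) ≤ inertia N (θ : N → ℂ) := by
    intro θ hPθ
    set L : Subgroup G := (P : Subgroup G) ⊔ N with hL
    have : Fintype L := Fintype.ofFinite L
    have hNL : N ≤ L := le_sup_right
    have hLθ : L ≤ inertia N (θ : N → ℂ) := sup_le hPθ (le_inertia N (irr_isClassFunction θ))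
    set N' := N.subgroupOf L with hN'
    have : Fintype N' := Fintype.ofFinite N'
    let e : N' ≃* N := subgroupOfEquivOfLe hNL
    have hcardN' : Nat.card N' = Nat.card N := Nat.card_congr e.toEquiv
    let θ' : N' → ℂ := fun x => (θ : N → ℂ) (e x)
    have hθ' : IsIrrCharacter N' θ' := isIrrCharacter_comp_surjective θ.2 e.toMonoidHom e.surjective
    have hinv' : ∀ t : L, cj N' t θ' = θ' := by
      intro t
      funext x
      have h1 := (mem_inertia_iff N).mp (hLθ t.2) (e x)
      rw [cj_apply]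
      show (θ : N → ℂ) (e _) = (θ : N → ℂ) (e x)
      rw [← h1]
      rfl
    have hcopL : (Nat.card N').Coprime N'.index := by
      rw [hcardN']
      have h1 : N'.index ∣ Nat.card (P : Subgroup G) := by
        change N.relIndex L ∣ _
        rw [hL, relIndex_sup_right]
        exact relIndex_dvd_card _ _
      refine Nat.Coprime.coprime_dvd_right h1 ?_
      obtain ⟨k, hk⟩ := IsPGroup.iff_card.mp P.isPGroup'
      rw [hk]
      exact (Nat.Coprime.pow_left _ ((hpp.coprime_iff_not_dvd).mpr hNp)).symm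
    obtain ⟨η, hη, hηN⟩ := Glaub.exists_extension_of_hall N' hcopL hθ' hinv'
    have hηp : ¬ p ∣ charDegree η := by
      have h1 : charDegree η = charDegree (θ : N → ℂ) := by
        apply charDegree_eq
        have h2 := hηN 1
        rw [coe_one] at h2
        rw [h2, ← BlkC.charDegree_spec]
        show (θ : N → ℂ) (e 1) = _
        rw [map_one]
      rw [h1]
      intro hd
      exact hNp (hd.trans (BlkC.charDegree_dvd_card θ))
    have hLi : ¬ p ∣ L.index := fun hd => P.not_dvd_index (hd.trans (index_dvd_of_le le_sup_left))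
    obtain ⟨χ, hχ, hχL⟩ := exists_over_p' L hLi hη hηp
    have hχN : classInner (fun n : N => (χ : G → ℂ) n) (θ : N → ℂ) ≠ 0 := by
      refine inner_ne_zero_of_le hNL (irr_isCharacter χ) hη (irr_isCharacter θ) hχL ?_
      have h1 : (fun n : N => η ⟨n, hNL n.2⟩) = (θ : N → ℂ) := by
        funext n
        exact hηN ⟨⟨n, hNL n.2⟩, mem_subgroupOf.mpr n.2⟩
      rw [h1, classInner_irr_self]
      exact one_ne_zero
    exact sylow_le_inertia hpq hsolv h P N Q hQ' hχ θ.2 hχN hPθ
  -- S = P Q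
  set S : Subgroup G := (P : Subgroup G) ⊔ (Q : Subgroup G) with hS
  have hsQ : Group.IsSolvable (Q : Subgroup G) := by
    have : Group.IsNilpotent (Q : Subgroup G) := Q.isPGroup'.isNilpotent
    infer_instance
  have hSsolv : Group.IsSolvable S := by
    have h1 := SigF.solvable_sup hsQ hsP hPQ
    rw [sup_comm] at h1
    exact h1
  have hScop : (Nat.card S).Coprime (Nat.card N) := by
    have h1 : Nat.card S = Nat.card (Q : Subgroup G) * (Q : Subgroup G).relIndex (P : Subgroup G) := by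
      have h2 := Cop.relIndex_sup_eq hPQ
      rw [← h2]
      have h3 := relIndex_mul_relIndex ⊥ (Q : Subgroup G) ((P : Subgroup G) ⊔ (Q : Subgroup G)) bot_le le_sup_right
      rw [relIndex_bot_left, relIndex_bot_left] at h3
      exact h3.symm
    have h2 : Nat.card S ∣ Nat.card (Q : Subgroup G) * Nat.card (P : Subgroup G) := by
      rw [h1]
      exact Nat.mul_dvd_mul_left _ (relIndex_dvd_card _ _)
    refine Nat.Coprime.coprime_dvd_left h2 (Nat.Coprime.mul_left ?_ ?_)
    · rw [Q.card_eq_multiplicity, ← hcardQ₀]; exact hQ₀N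
    · obtain ⟨k, hk⟩ := IsPGroup.iff_card.mp P.isPGroup'
      rw [hk]
      exact Nat.Coprime.pow_left _ ((hpp.coprime_iff_not_dvd).mpr hNp)
  have hSN : S ≤ normalizer (N : Set G) := by rw [normalizer_eq_top]; exact le_top
  have hPcop : (Nat.card (P : Subgroup G)).Coprime (Nat.card N) :=
    Nat.Coprime.coprime_dvd_left (card_dvd_of_le le_sup_left) hScop
  have hcen : N ⊓ centralizer ((P : Subgroup G) : Set G) ≤ centralizer (S : Set G) := by
    apply centralizer_eq_of_class le_sup_left hSN hScop hSsolv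
    have hnormS : ∀ s ∈ S, ∀ g ∈ N, s * g * s⁻¹ ∈ N := fun s _ g hg => hN.conj_mem g hg s
    have hnormP : ∀ s ∈ (P : Subgroup G), ∀ g ∈ N, s * g * s⁻¹ ∈ N := fun s _ g hg => hN.conj_mem g hg s
    have e1 := S4445.result N S hnormS hScop.symm hSsolv
    have e2 := S4445.result N (P : Subgroup G) hnormP hPcop.symm hsP
    have hmem : ∀ (θ : IrrCharacter N) (s : G), s ∈ inertia N (θ : N → ℂ) ↔
        ∀ g g' : N, (g' : G) = s * g * s⁻¹ → (θ : N → ℂ) g' = (θ : N → ℂ) g := by
      intro θ s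
      rw [mem_inertia_iff]
      constructor
      · intro h1 g g' hgg
        have h2 : g' = ⟨s * g * s⁻¹, hN.conj_mem _ g.2 s⟩ := Subtype.ext hgg
        rw [h2]
        exact h1 g
      · intro h1 n
        exact h1 n _ rfl
    have e3 : Nat.card {χ : IrrCharacter N // (∀ s ∈ S, ∀ g g' : N, (g' : G) = s * g * s⁻¹ → (χ : N → ℂ) g' = (χ : N → ℂ) g)} =
        Nat.card {χ : IrrCharacter N // (∀ s ∈ (P : Subgroup G), ∀ g g' : N, (g' : G) = s * g * s⁻¹ → (χ : N → ℂ) g' = (χ : N → ℂ) g)} := by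
      apply Nat.card_congr
      refine Equiv.subtypeEquivRight fun θ => ?_
      constructor
      · intro h1 s hs
        exact h1 s (le_sup_left (a := (P : Subgroup G)) hs)
      · intro h1
        have h2 : (P : Subgroup G) ≤ inertia N (θ : N → ℂ) := fun s hs => (hmem θ s).mpr (h1 s hs)
        have h3 : S ≤ inertia N (θ : N → ℂ) := sup_le h2 (hinv θ h2)
        intro s hs
        exact (hmem θ s).mp (h3 hs)
    rw [e1, e2] at e3
    -- the two sets of classes agree
    have hsub : ∀ K : ConjClasses N, (∀ s ∈ (P : Subgroup G), ∀ g g' : N, (g' : G) = s * g * s⁻¹ →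
        ConjClasses.mk g = K → ConjClasses.mk g' = K) → ∀ s ∈ S, ∀ g g' : N, (g' : G) = s * g * s⁻¹ →
        ConjClasses.mk g = K → ConjClasses.mk g' = K := by
      have hfin : Finite (ConjClasses N) := Quotient.finite _
      let f : {K : ConjClasses N // ∀ s ∈ S, ∀ g g' : N, (g' : G) = s * g * s⁻¹ → ConjClasses.mk g = K → ConjClasses.mk g' = K} →
          {K : ConjClasses N // ∀ s ∈ (P : Subgroup G), ∀ g g' : N, (g' : G) = s * g * s⁻¹ → ConjClasses.mk g = K → ConjClasses.mk g' = K} :=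
        fun K => ⟨K.1, fun s hs => K.2 s (le_sup_left (a := (P : Subgroup G)) hs)⟩
      have hf : Function.Injective f := by
        intro a b hab
        apply Subtype.ext
        exact congrArg (fun z : {K : ConjClasses N // ∀ s ∈ (P : Subgroup G), ∀ g g' : N, (g' : G) = s * g * s⁻¹ → ConjClasses.mk g = K → ConjClasses.mk g' = K} => z.1) hab
      have hs : Function.Surjective f := by
        have := Fintype.ofFinite {K : ConjClasses N // ∀ s ∈ S, ∀ g g' : N, (g' : G) = s * g * s⁻¹ → ConjClasses.mk g = K → ConjClasses.mk g' = K}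
        have := Fintype.ofFinite {K : ConjClasses N // ∀ s ∈ (P : Subgroup G), ∀ g g' : N, (g' : G) = s * g * s⁻¹ → ConjClasses.mk g = K → ConjClasses.mk g' = K}
        refine ((Fintype.bijective_iff_injective_and_card f).mpr ⟨hf, ?_⟩).2
        rw [← Nat.card_eq_fintype_card, ← Nat.card_eq_fintype_card]
        exact e3
      intro K hK
      obtain ⟨K', hK'⟩ := hs ⟨K, hK⟩
      have h1 : K'.1 = K := congrArg (fun z : {K : ConjClasses N // ∀ s ∈ (P : Subgroup G), ∀ g g' : N, (g' : G) = s * g * s⁻¹ → ConjClasses.mk g = K → ConjClasses.mk g' = K} => z.1) hK'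
      rw [← h1]
      exact K'.2
    intro c hc s hs
    have hcP : ∀ a ∈ (P : Subgroup G), a * c = c * a := fun a ha => mem_centralizer_iff.mp hc.2 a ha
    have h1 := hsub (ConjClasses.mk ⟨c, hc.1⟩) (by
      intro a ha g g' hgg hmk
      obtain ⟨d, hd⟩ := isConj_iff.mp (ConjClasses.mk_eq_mk_iff_isConj.mp hmk)
      rw [ConjClasses.mk_eq_mk_iff_isConj, isConj_iff]
      have h3 : a * (d : G) * a⁻¹ ∈ N := hN.conj_mem _ d.2 a
      refine ⟨⟨a * (d : G) * a⁻¹, h3⟩, ?_⟩
      apply Subtype.ext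
      have h4 : (d : G) * g * (d : G)⁻¹ = c := congrArg Subtype.val hd
      change a * (d : G) * a⁻¹ * g' * (a * (d : G) * a⁻¹)⁻¹ = c
      rw [hgg]
      calc a * (d : G) * a⁻¹ * (a * g * a⁻¹) * (a * (d : G) * a⁻¹)⁻¹ = a * ((d : G) * g * (d : G)⁻¹) * a⁻¹ := by group
        _ = a * c * a⁻¹ := by rw [h4]
        _ = c := by rw [hcP a ha]; group) s hs ⟨c, hc.1⟩ ⟨s * c * s⁻¹, hN.conj_mem c hc.1 s⟩ rfl rfl
    obtain ⟨d, hd⟩ := isConj_iff.mp (ConjClasses.mk_eq_mk_iff_isConj.mp h1.symm)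
    exact ⟨d, d.2, (congrArg Subtype.val hd).symm⟩
  -- conclusion
  intro g hg
  have hgE : g ∈ normalizer (E : Set G) := hPE hg
  have hQE' : ∀ y ∈ Q, ∃ y' ∈ Q, ∃ n ∈ N, g * y * g⁻¹ = y' * n := by
    intro y hy
    have h1 : g * y * g⁻¹ ∈ E := (mem_normalizer_iff.mp hgE y).mp (hRE hy)
    rw [← hQE, ← SetLike.mem_coe, mul_normal, Set.mem_mul] at h1
    obtain ⟨y', hy', n, hn, heq⟩ := h1
    exact ⟨y', hy', n, hn, heq.symm⟩
  have hQcop : (Nat.card (Q : Subgroup G)).Coprime (Nat.card N) := by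
    rw [Q.card_eq_multiplicity, ← hcardQ₀]; exact hQ₀N
  obtain ⟨n, hn, hnx⟩ := exists_frattini' N Q hQcop hQE'
  -- both Q and its conjugate by g are P-invariant
  have hPg : (P : Subgroup G) ≤ normalizer ((MulAut.conj g • (Q : Subgroup G) : Subgroup G) : Set G) := by
    intro a ha
    rw [Cop.mem_normalizer_conj_smul]
    exact hPQ ((mem_normalizer_iff''.mp hg a).mp ha)
  have hconj : MulAut.conj n • (Q : Subgroup G) = MulAut.conj g • (Q : Subgroup G) := by
    have h1 := Cop.conj_smul_eq_of_mem_normalizer hnx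
    have h2 := congrArg (fun X : Subgroup G => MulAut.conj n • X) h1
    simp only [Hall.conj_smul_conj_smul] at h2
    rw [mul_inv_cancel_left] at h2
    exact h2.symm
  have hPN : (P : Subgroup G) ≤ normalizer (N : Set G) := by rw [normalizer_eq_top]; exact le_top
  obtain ⟨c, hc, hc'⟩ := Cop.exists_centralizer_conj hPN hPcop (Or.inl hsP) hPQ hPg hn hconj
  have h1 : c ∈ centralizer (S : Set G) := hcen hc
  have h2 : c ∈ normalizer ((Q : Subgroup G) : Set G) :=
    centralizer_le_normalizer _ (centralizer_le (le_sup_right (a := (P : Subgroup G))) h1)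
  rw [Cop.conj_smul_eq_of_mem_normalizer h2] at hc'
  exact Cop.mem_normalizer_of_conj_smul_eq hc'.symm

end Steps

section Main

variable {p q : ℕ} [hp : Fact p.Prime] [hq : Fact q.Prime]

/-- **Main theorem**: if all `p'`-degrees are prime to `q` in a `p`-solvable and `q`-solvable group then the
normalizer of a Sylow `p`-subgroup normalizes a Sylow `q`-subgroup. -/
theorem star (hpq : p ≠ q) (m : ℕ) : ∀ (G : Type u) [Group G] [Finite G], Nat.card G = m → IsPSolvable p G →
    IsPSolvable q G → XX p q G → ∀ P : Sylow p G, ∃ Q : Sylow q G,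
      normalizer ((P : Subgroup G) : Set G) ≤ normalizer ((Q : Subgroup G) : Set G) := by
  induction m using Nat.strong_induction_on with
  | _ m ih =>
  intro G _ _ hcard hps hqs h P
  classical
  have : Fintype G := Fintype.ofFinite G
  have hpp := hp.out
  have hqq := hq.out
  rcases subsingleton_or_nontrivial G with hs | hnt
  · obtain ⟨Q⟩ : Nonempty (Sylow q G) := inferInstance
    refine ⟨Q, fun g _ => ?_⟩
    rw [Subsingleton.elim g 1]
    exact one_mem _
  have hlt : ∀ (N : Subgroup G) [N.Normal], N ≠ ⊥ → Nat.card (G ⧸ N) < m := by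
    intro N hN hne
    rw [← hcard, N.card_eq_card_quotient_mul_card_subgroup]
    have h1 : 1 < Nat.card N := (one_lt_card_iff_ne_bot N).mpr hne
    have h2 : 0 < Nat.card (G ⧸ N) := Nat.card_pos
    nlinarith
  -- the inductive step
  have hstep : ∀ (N : Subgroup G) [N.Normal], N ≠ ⊥ → ∃ Q : Sylow q G,
      normalizer (((P : Subgroup G).map (QuotientGroup.mk' N) : Subgroup (G ⧸ N)) : Set (G ⧸ N)) ≤
      normalizer (((Q : Subgroup G).map (QuotientGroup.mk' N) : Subgroup (G ⧸ N)) : Set (G ⧸ N)) := by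
    intro N hN hne
    obtain ⟨Q', hQ'⟩ := ih _ (hlt N hne) (G ⧸ N) rfl (H76.isPSolvable_quotient N hps) (H76.isPSolvable_quotient N hqs)
      (h.quotient N) (P.mapSurjective (QuotientGroup.mk'_surjective N))
    obtain ⟨Q, hQ⟩ := Sylow.mapSurjective_surjective (QuotientGroup.mk'_surjective N) q Q'
    refine ⟨Q, ?_⟩
    rw [← hQ, Sylow.coe_mapSurjective, Sylow.coe_mapSurjective] at hQ'
    exact hQ'
  have hE : ∀ (N : Subgroup G) [N.Normal] (Q : Sylow q G),
      normalizer (((P : Subgroup G).map (QuotientGroup.mk' N) : Subgroup (G ⧸ N)) : Set (G ⧸ N)) ≤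
      normalizer (((Q : Subgroup G).map (QuotientGroup.mk' N) : Subgroup (G ⧸ N)) : Set (G ⧸ N)) →
      ∀ g ∈ normalizer ((P : Subgroup G) : Set G), ∀ y ∈ Q, ∃ y' ∈ Q, ∃ n ∈ N, g * y * g⁻¹ = y' * n := by
    intro N hN Q hQ g hg y hy
    let π := QuotientGroup.mk' N
    have h1 : π g ∈ normalizer (((Q : Subgroup G).map π : Subgroup (G ⧸ N)) : Set (G ⧸ N)) :=
      hQ (le_normalizer_map π (mem_map_of_mem π hg))
    have h2 := (mem_normalizer_iff.mp h1 (π y)).mp (mem_map_of_mem π hy)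
    obtain ⟨y', hy', heq⟩ := h2
    refine ⟨y', hy', y'⁻¹ * (g * y * g⁻¹), ?_, by group⟩
    apply QuotientGroup.eq.mp
    exact heq
  by_cases hq0 : pCore q G = ⊥
  · have hK : pPrimeCore q G ≠ ⊥ := (S1901.exists_core_ne_bot hqs).resolve_left (not_not.mpr hq0)
    by_cases hp0 : pCore p G = ⊥
    · -- Step 3
      set K := pPrimeCore q G with hKdef
      have hKn : K.Normal := inferInstanceAs (pPrimeCore q G).Normal
      have : Nontrivial K := (nontrivial_iff_ne_bot K).mpr hK
      have hKp : IsPSolvable p K := H76.isPSolvable_subgroup K hps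
      have h3K : pPrimeCore p K ≠ ⊥ := by
        refine (S1901.exists_core_ne_bot hKp).resolve_left (not_not.mpr ?_)
        have h1 := Solv.map_subtype_pCore_le p K
        rw [hp0, le_bot_iff, map_eq_bot_iff_of_injective _ K.subtype_injective] at h1
        exact h1
      set M := pPrimeCore p G ⊓ K with hM
      have hMn : M.Normal := inferInstance
      have hM1 : M ≠ ⊥ := by
        intro h0
        apply h3K
        have h1 := Solv.map_subtype_pPrimeCore_le p K
        have h2 : (pPrimeCore p K).map K.subtype ≤ M := le_inf h1 (by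
          rintro _ ⟨x, _, rfl⟩
          exact x.2)
        rw [h0, le_bot_iff, map_eq_bot_iff_of_injective _ K.subtype_injective] at h2
        exact h2
      have hMp : ¬ p ∣ Nat.card M := by
        intro hd
        have h1 : (Nat.card (pPrimeCore p G)).Coprime p := Solv.pPrimeCore_card_coprime p
        have h2 := Nat.Coprime.coprime_dvd_left (hd.trans (card_dvd_of_le inf_le_left)) h1
        rw [Nat.coprime_self] at h2
        exact hpp.one_lt.ne' h2
      have hMq : ¬ q ∣ Nat.card M := by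
        intro hd
        have h1 : (Nat.card (pPrimeCore q G)).Coprime q := Solv.pPrimeCore_card_coprime q
        have h2 := Nat.Coprime.coprime_dvd_left (hd.trans (card_dvd_of_le inf_le_right)) h1
        rw [Nat.coprime_self] at h2
        exact hqq.one_lt.ne' h2
      obtain ⟨Q, hQ⟩ := hstep M hM1
      exact step_pq' hpq hps h P M hMp hMq Q hQ
    · -- Step 2
      set C := pCore p G with hCdef
      have hCp : IsPGroup p C := Solv.pCore_isPGroup p
      have hCn : C.Normal := inferInstanceAs (pCore p G).Normal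
      set N := (center C).map C.subtype with hNdef
      have hNn : N.Normal := inferInstance
      have hN1 : N ≠ ⊥ := by
        have : Nontrivial C := (nontrivial_iff_ne_bot C).mpr hp0
        have hZ := hCp.center_nontrivial
        intro h0
        rw [hNdef, (map_eq_bot_iff_of_injective _ C.subtype_injective)] at h0
        exact (nontrivial_iff_ne_bot _).mp hZ h0
      have hNc : ∀ a ∈ N, ∀ b ∈ N, a * b = b * a := by
        rintro _ ⟨a, ha, rfl⟩ _ ⟨b, hb, rfl⟩
        exact congrArg C.subtype (mem_center_iff.mp hb a)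
      have hNp : IsPGroup p N := (hCp.to_subgroup _).map _
      obtain ⟨Q, hQ⟩ := hstep N hN1
      exact ⟨Q, step_p hpq hps h P N hNp hNc Q hQ (hE N Q hQ)⟩
  · -- Step 1
    obtain ⟨Q, hQ⟩ := hstep (pCore q G) hq0
    refine ⟨Q, ?_⟩
    have hle : pCore q G ≤ (Q : Subgroup G) := Solv.pCore_le_sylow Q
    have key : ∀ g ∈ normalizer ((P : Subgroup G) : Set G), ∀ y ∈ Q, g * y * g⁻¹ ∈ Q := by
      intro g hg y hy
      obtain ⟨y', hy', n, hn, heq⟩ := hE (pCore q G) Q hQ g hg y hy
      rw [heq]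
      exact mul_mem hy' (hle hn)
    intro g hg
    rw [mem_normalizer_iff]
    intro x
    constructor
    · exact key g hg x
    · intro hx
      have h1 := key g⁻¹ (inv_mem hg) _ hx
      have h2 : g⁻¹ * (g * x * g⁻¹) * g⁻¹⁻¹ = x := by group
      rwa [h2] at h1


/-- if moreover `O_{p'}(G) = 1` then `q` does not divide the order -/
theorem not_dvd_of_core {G : Type u} [Group G] [Finite G] (hpq : p ≠ q) (hps : IsPSolvable p G)
    (hqs : IsPSolvable q G) (h : XX p q G) (hcore : pPrimeCore p G = ⊥) : ¬ q ∣ Nat.card G := by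
  obtain ⟨P⟩ : Nonempty (Sylow p G) := inferInstance
  obtain ⟨Q, hQ⟩ := star hpq _ G rfl hps hqs h P
  have h1 := sylow_le_core hpq hps P Q (le_normalizer.trans hQ)
  rw [hcore, le_bot_iff] at h1
  intro hd
  have h2 := Q.card_eq_multiplicity
  rw [h1, card_bot] at h2
  have h3 : 0 < (Nat.card G).factorization q := hq.out.factorization_pos_of_dvd Nat.card_pos.ne' hd
  have h4 : 1 < q ^ (Nat.card G).factorization q := Nat.one_lt_pow h3.ne' hq.out.one_lt
  omega

end Main

end Cfsg.Agent.H4.PQ
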