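import Cfsg.Agent.H4.SecSum
import Cfsg.Agent.H4.KleinBlock
import Cfsg.Agent.BlkInd.Canon2
import Cfsg.Agent.S0936

/-!
# Blocks of `p`-regular rank one (owner: helper4)
-/

set_option autoImplicit false
set_option linter.style.haveILetI false
set_option linter.unusedSectionVars false

namespace Cfsg.Agent.H4

open scoped ComplexConjugate
open Cfsg Cfsg.Agent.CharBase Cfsg.Agent.Blk Cfsg.Agent.BlkInd Cfsg.Agent.BlkC

universe u

variable {G : Type u} [Group G] {p : ℕ} {M : Ideal AlgInt} {B : Set (IrrCharacter G)}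

theorem blockRank_eq_one_of_prop {θ : IrrCharacter G} (hθ : θ ∈ B)
    (hθ0 : pRegularPart p (θ : G → ℂ) ≠ 0)
    (h : ∀ χ ∈ B, ∃ c : ℂ, ∀ g : G, ¬ p ∣ orderOf g → (χ : G → ℂ) g = c * (θ : G → ℂ) g) :
    blockRank p B = 1 := by
  have h1 : Submodule.span ℂ ((fun χ : IrrCharacter G => pRegularPart p (χ : G → ℂ)) '' B) =
      Submodule.span ℂ {pRegularPart p (θ : G → ℂ)} := by
    apply le_antisymm
    · rw [Submodule.span_le]
      rintro _ ⟨χ, hχ, rfl⟩
      obtain ⟨c, hc⟩ := h χ hχ
      rw [SetLike.mem_coe, Submodule.mem_span_singleton]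
      refine ⟨c, ?_⟩
      funext g
      by_cases hg : p ∣ orderOf g
      · simp only [Pi.smul_apply, pRegularPart_apply_of_sing hg, smul_zero]
      · simp only [Pi.smul_apply, pRegularPart_apply_of_reg hg, smul_eq_mul]
        exact (hc g hg).symm
    · rw [Submodule.span_singleton_le_iff_mem]
      exact Submodule.subset_span ⟨θ, hθ, rfl⟩
  unfold blockRank
  rw [h1]
  exact finrank_span_singleton hθ0

theorem pRegularPart_irr_ne_zero [Finite G] (hp : p.Prime) (θ : IrrCharacter G) :
    pRegularPart p (θ : G → ℂ) ≠ 0 := by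
  intro h
  have h1 := congrFun h 1
  rw [pRegularPart_apply_of_reg (by rw [orderOf_one]; exact hp.one_lt.ne' ∘ Nat.dvd_one.mp)] at h1
  have h2 := charDegree_spec θ
  rw [h1] at h2
  have h3 := charDegree_pos θ
  have h4 : (charDegree (θ : G → ℂ) : ℂ) = 0 := h2.symm
  exact h3.ne' (by exact_mod_cast h4)

/-- blocks with a defect group `D`, `G = D C_G(D)` -/
theorem blockRank_eq_one_of_sup [Finite G] [hp : Fact p.Prime] (hM : IsPModular p M)
    (hB : IsPBlock M B) {D : Subgroup G} (hG : D ⊔ Subgroup.centralizer (D : Set G) = ⊤)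
    (hD : IsPGroup p D) (hBD : IsDefectGroup p M B D) : blockRank p B = 1 := by
  classical
  haveI := Fintype.ofFinite G
  haveI := Fintype.ofFinite D
  haveI := isPrime_of_isPModular hM
  obtain ⟨χ, hχ, hker⟩ := exists_canon hM hG hD hB
  refine blockRank_eq_one_of_prop hχ (pRegularPart_irr_ne_zero hp.out χ) fun θ hθ => ?_
  obtain ⟨ζ, hζ⟩ := exists_canonMul hM hG hD hB hBD hχ hker hθ
  refine ⟨(ζ : D → ℂ) 1, fun g hg => ?_⟩
  rw [hζ]
  have := canonMul_section (p := p) hG hD (ζ : D → ℂ) (irr_isCharacter χ) hker 1 hg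
  simpa using this

theorem blockRank_eq_one_of_central [Finite G] [hp : Fact p.Prime] (hM : IsPModular p M)
    (hB : IsPBlock M B) {D : Subgroup G} (hDZ : D ≤ Subgroup.center G)
    (hBD : IsDefectGroup p M B D) (hD : IsPGroup p D) : blockRank p B = 1 := by
  refine blockRank_eq_one_of_sup hM hB ?_ hD hBD
  rw [eq_top_iff]
  refine le_trans ?_ le_sup_right
  intro g _
  rw [Subgroup.mem_centralizer_iff]
  intro h hh
  exact ((Subgroup.mem_center_iff.mp (hDZ hh)) g).symm

/-- the principal block of a `p`-nilpotent group -/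
theorem blockRank_principal_of_npc [Finite G] (hM : IsPModular p M) {k : ℕ}
    (hk : (pPrimeCore p G).index = p ^ k) : blockRank p (principalBlock M G) = 1 := by
  haveI := Fact.mk hM.1
  haveI := isPrime_of_isPModular hM
  haveI := Fintype.ofFinite G
  have h1 : oneIrr G ∈ principalBlock M G := mem_blockOf_self (oneIrr G)
  refine blockRank_eq_one_of_prop h1 (pRegularPart_irr_ne_zero hM.1 _) fun χ hχ => ?_
  refine ⟨(χ : G → ℂ) 1, fun g hg => ?_⟩
  rw [principalBlock_eq_of_npc M hM ⟨k, hk⟩] at hχ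
  have h2 := hχ g (mem_of_regular_of_index hk hg)
  rw [h2]
  exact (mul_one _).symm

/-- the blocks of `C_G(x)` inducing the principal block -/
theorem indB_principal [Fintype G] (hM : IsPModular p M) {x : G} (hx : ∃ k : ℕ, orderOf x = p ^ k) :
    indB M (Subgroup.centralizer ({x} : Set G)) (principalBlock M G) =
      {principalBlock M (Subgroup.centralizer ({x} : Set G))} := by
  haveI := Fact.mk hM.1
  haveI := isPrime_of_isPModular hM
  ext b
  rw [mem_indB, Finset.mem_singleton]
  constructor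
  · intro h
    exact (Cfsg.Agent.S0936.result p M hM _ b ⟨_, h⟩).mp h
  · rintro rfl
    exact (Cfsg.Agent.S0936.result p M hM _ _
      (inducedBlockDefined_centralizer hM hx isPBlock_principalBlock)).mpr rfl

end Cfsg.Agent.H4
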