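import Cfsg.Agent.H4.CentData
import Cfsg.Agent.BlkC.Corollaries

/-!
# Blocks with defect group of order two or a Klein four group (owner: helper4)
-/

set_option autoImplicit false
set_option linter.style.haveILetI false
set_option linter.unusedSectionVars false

namespace Cfsg.Agent.H4

open scoped ComplexConjugate
open Cfsg Cfsg.Agent.CharBase Cfsg.Agent.Blk Cfsg.Agent.BlkInd Cfsg.Agent.BlkC

universe u

section General

variable {G : Type u} [Group G] [Fintype G] {p : ℕ} [hp : Fact p.Prime] {M : Ideal AlgInt}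
variable {B : Set (IrrCharacter G)}

theorem contrib_add_sum (hM : IsPModular p M) (hB : IsPBlock M B) {X : Finset G}
    (hX : IsNTRep p X) {χ : IrrCharacter G} (hχ : χ ∈ B)
    [∀ x : G, Fintype (Subgroup.centralizer ({x} : Set G))] :
    (contrib p B χ χ : ℂ) +
      ∑ x ∈ X, ∑ b ∈ indB M (Subgroup.centralizer ({x} : Set G)) B,
        (p : ℂ) ^ blockDefect p B * sc p x b (χ : G → ℂ) (χ : G → ℂ) =
          (p : ℂ) ^ blockDefect p B := by
  have h1 := charConj_mul_sum hM hB hX hχ hχ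
  rw [classInner_irr_self] at h1
  have h2 := congrArg (fun z => (p : ℂ) ^ blockDefect p B * z) h1
  simp only [mul_one, mul_add, Finset.mul_sum] at h2
  rw [← contrib_regInner hχ]
  exact h2

/-- the first component of a subsection lies in the defect groups of the second -/
theorem mem_defect {x : G} (hM : IsPModular p M) (hx : ∃ k : ℕ, orderOf x = p ^ k)
    {C : Subgroup G} [Fintype C] (hC : C = Subgroup.centralizer ({x} : Set G))
    {b : Set (IrrCharacter C)} (hb : IsPBlock M b) {D : Subgroup C} (hD : IsDefectGroup p M b D)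
    {z : C} (hz : z ∈ Subgroup.center C) (hzp : ∃ k : ℕ, orderOf z = p ^ k) : z ∈ D := by
  haveI := isPrime_of_isPModular hM
  haveI : (Subgroup.zpowers z).Normal := by
    constructor
    intro n hn g
    have h1 : n ∈ Subgroup.center C := (Subgroup.zpowers_le.mpr hz) hn
    rw [(Subgroup.mem_center_iff.mp h1 g), mul_inv_cancel_right]
    exact hn
  obtain ⟨k, hk⟩ := hzp
  exact normal_le_defectGroup hM (P := Subgroup.zpowers z)
    (IsPGroup.of_card (n := k) (by rw [Nat.card_zpowers, hk])) hb hD (Subgroup.mem_zpowers z)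

theorem self_mem_defect {x : G} (hM : IsPModular p M) (hx : ∃ k : ℕ, orderOf x = p ^ k)
    {C : Subgroup G} [Fintype C] (hC : C = Subgroup.centralizer ({x} : Set G))
    {b : Set (IrrCharacter C)} (hb : IsPBlock M b) {D : Subgroup C} (hD : IsDefectGroup p M b D) :
    (⟨x, mem_self hC⟩ : C) ∈ D :=
  mem_defect hM hx hC hb hD (mem_center_self hC) (by
    obtain ⟨k, hk⟩ := hx
    exact ⟨k, by rw [← Subgroup.orderOf_coe]; exact hk⟩)

end General

section Two

variable {G : Type u} [Group G] [Fintype G] {M : Ideal AlgInt}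
variable {B : Set (IrrCharacter G)}

/-- a subsection of rank one with integral contributions -/
structure SqData (x : G) {C : Subgroup G} [Fintype C] (b : Set (IrrCharacter C))
    (B : Set (IrrCharacter G)) (f : IrrCharacter G → ℤ) : Prop where
  sc_eq : ∀ χ ψ : IrrCharacter G, (2 : ℂ) ^ blockDefect 2 B * sc 2 x b (χ : G → ℂ) (ψ : G → ℂ) =
        ((f χ * f ψ : ℤ) : ℂ)
  sum_eq : ∑ χ ∈ Bfin B, (f χ) ^ 2 = 2 ^ blockDefect 2 B
  ne_zero : ∀ χ ∈ B, f χ ≠ 0
  rank_eq : blockRank 2 b = 1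

theorem sqData_of_unit (hM : IsPModular 2 M) {x : G} (hx : orderOf x = 2) {C : Subgroup G}
    [Fintype C] (hC : C = Subgroup.centralizer ({x} : Set G)) {b : Set (IrrCharacter C)}
    (hind : IsInducedBlock M C b B) (hU : UB 2 (2 ^ blockDefect 2 b) b)
    (hd : blockDefect 2 b = blockDefect 2 B)
    (hh : ∀ χ ∈ B, blockHeight 2 B (χ : G → ℂ) = 0) : ∃ f, SqData x b B f ∧
      ∀ θ ∈ b, ∀ (χ : IrrCharacter G) (y : C), ¬ 2 ∣ orderOf y →
        dpart 2 x b (χ : G → ℂ) y = (f χ : ℂ) * (θ : C → ℂ) y := by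
  haveI := isPrime_of_isPModular hM
  obtain ⟨f, h1, h2, h3⟩ := unit_data_inv hM hx hC hind hU
  rw [hd] at h2 h3
  refine ⟨f, ⟨?_, ?_, ?_, ?_⟩, h1⟩
  · intro χ ψ
    rw [← h2 χ ψ]; push_cast; rfl
  · rw [h3]; push_cast; rfl
  · intro χ hχ h0
    have h4 := BlkF.sc_ne_zero_of_major hM ⟨1, by rw [hx, pow_one]⟩ hC hind hd hχ (hh χ hχ)
      hχ (hh χ hχ)
    have h5 := h2 χ χ
    rw [h0] at h5
    simp only [mul_zero, Int.cast_zero, mul_eq_zero] at h5
    rcases h5 with h5 | h5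
    · have : (2 ^ blockDefect 2 B : ℕ) ≠ 0 := pow_ne_zero _ (by norm_num)
      exact this (by exact_mod_cast h5)
    · exact h4 h5
  · exact hU.rank (isPBlock_nonempty hind.1)

variable [∀ x : G, Fintype (Subgroup.centralizer ({x} : Set G))]

/-- the index set of nontrivial subsections -/
noncomputable def subs (M : Ideal AlgInt) (X : Finset G) (B : Set (IrrCharacter G)) :
    Finset (Σ x : G, Set (IrrCharacter (Subgroup.centralizer ({x} : Set G)))) :=
  X.sigma fun x => indB M (Subgroup.centralizer ({x} : Set G)) B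

theorem core_sum (hM : IsPModular 2 M) (hB : IsPBlock M B) {X : Finset G} (hX : IsNTRep 2 X)
    {F : (s : Σ x : G, Set (IrrCharacter (Subgroup.centralizer ({x} : Set G)))) →
      IrrCharacter G → ℤ} {S : Finset (Σ x : G, Set (IrrCharacter (Subgroup.centralizer ({x} : Set G))))}
    (hS : S = subs M X B)
    (hF : ∀ s ∈ S, SqData s.1 s.2 B (F s)) {χ : IrrCharacter G} (hχ : χ ∈ B) :
    contrib 2 B χ χ + ∑ s ∈ S, (F s χ) ^ 2 = 2 ^ blockDefect 2 B := by
  have h1 := contrib_add_sum hM hB hX hχ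
  rw [Finset.sum_sigma' X] at h1
  have h2 : ((contrib 2 B χ χ + ∑ s ∈ S, (F s χ) ^ 2 : ℤ) : ℂ) =
      ((2 ^ blockDefect 2 B : ℤ) : ℂ) := by
    push_cast
    rw [show ((2 : ℕ) : ℂ) = 2 by norm_num] at h1
    rw [← h1]
    congr 1
    rw [hS]
    refine Finset.sum_congr rfl fun s hs => ?_
    rw [(hF s (hS ▸ hs)).sc_eq χ χ]
    push_cast
    ring
  exact_mod_cast h2

theorem contrib_odd (hM : IsPModular 2 M) (hB : IsPBlock M B) {χ : IrrCharacter G} (hχ : χ ∈ B)
    (h0 : blockHeight 2 B (χ : G → ℂ) = 0) : ¬ (2 : ℤ) ∣ contrib 2 B χ χ := by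
  have := not_dvd_contrib hM hB hχ hχ h0
  rw [h0] at this
  simpa using this

theorem one_le_sq {n : ℤ} (h : n ≠ 0) : 1 ≤ n ^ 2 := by
  have : 0 < n ^ 2 := by positivity
  omega

/-- small defect: `d ≤ 2` -/
theorem heights_zero (hM : IsPModular 2 M) (hB : IsPBlock M B) (hd : blockDefect 2 B ≤ 2) :
    ∀ χ ∈ B, blockHeight 2 B (χ : G → ℂ) = 0 := by
  intro χ hχ
  by_contra h
  have h1 := height_add_two_le hM hB hχ (Nat.pos_of_ne_zero h)
  omega

theorem core_one (hM : IsPModular 2 M) (hB : IsPBlock M B) (hd : blockDefect 2 B = 1)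
    {X : Finset G} (hX : IsNTRep 2 X)
    (hF : ∀ x ∈ X, ∀ b ∈ indB M (Subgroup.centralizer ({x} : Set G)) B, ∃ f, SqData x b B f) :
    Nat.card B = 2 ∧ blockRank 2 B = 1 ∧ (subs M X B).card = 1 ∧
      ∀ x ∈ X, ∀ b ∈ indB M (Subgroup.centralizer ({x} : Set G)) B, ∀ f, SqData x b B f →
        ∀ χ ∈ B, f χ ^ 2 = 1 := by
  classical
  haveI := isPrime_of_isPModular hM
  have hF' : ∀ s : (Σ x : G, Set (IrrCharacter (Subgroup.centralizer ({x} : Set G)))),
      ∃ f : IrrCharacter G → ℤ, s ∈ subs M X B → SqData s.1 s.2 B f := by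
    intro s
    by_cases hs : s ∈ subs M X B
    · rw [subs, Finset.mem_sigma] at hs
      obtain ⟨f, hf⟩ := hF s.1 hs.1 s.2 hs.2
      exact ⟨f, fun _ => hf⟩
    · exact ⟨0, fun h => absurd h hs⟩
  choose F hF2 using hF'
  have hh := heights_zero hM hB (by omega)
  have key : ∀ χ ∈ B, contrib 2 B χ χ = 1 ∧ (subs M X B).card = 1 := by
    intro χ hχ
    have h1 := core_sum hM hB hX rfl hF2 hχ
    rw [hd] at h1
    have h2 := contrib_odd hM hB hχ (hh χ hχ)
    have h3 := contrib_self_pos (p := 2) hχ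
    have h4 : ((subs M X B).card : ℤ) ≤ ∑ s ∈ subs M X B, (F s χ) ^ 2 := by
      rw [← nsmul_one (subs M X B).card, ← Finset.sum_const]
      exact Finset.sum_le_sum fun s hs => one_le_sq ((hF2 s hs).ne_zero χ hχ)
    have h5 : contrib 2 B χ χ = 1 := by
      have : 0 ≤ ∑ s ∈ subs M X B, (F s χ) ^ 2 := Finset.sum_nonneg fun s _ => sq_nonneg _
      by_contra h
      have : contrib 2 B χ χ = 2 := by omega
      rw [this] at h2
      exact h2 dvd_rfl
    refine ⟨h5, ?_⟩
    have h6 : (subs M X B).card ≠ 0 := by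
      intro h
      rw [Finset.card_eq_zero] at h
      rw [h, Finset.sum_empty] at h1
      omega
    omega
  obtain ⟨χ₀, hχ₀⟩ := block_nonempty hB
  have hS := (key χ₀ hχ₀).2
  obtain ⟨s, hs⟩ := Finset.card_eq_one.mp hS
  have hsm : s ∈ subs M X B := by rw [hs]; exact Finset.mem_singleton_self s
  have h7 : ∀ χ ∈ B, (F s χ) ^ 2 = 1 := by
    intro χ hχ
    have h1 := core_sum hM hB hX rfl hF2 hχ
    rw [hs, Finset.sum_singleton, (key χ hχ).1, hd] at h1
    omega
  have hk : (Nat.card B : ℤ) = 2 := by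
    have h8 := (hF2 s hsm).sum_eq
    rw [Finset.sum_congr rfl fun χ hχ => h7 χ (mem_Bfin.mp hχ), hd] at h8
    rw [natCard_eq_Bfin]
    simpa using h8
  refine ⟨by exact_mod_cast hk, ?_, hS, ?_⟩
  · have h9 := sum_contrib_self hM hB
    rw [Finset.sum_congr rfl fun χ hχ => (key χ (mem_Bfin.mp hχ)).1, hd] at h9
    have h10 := natCard_eq_Bfin (B := B)
    simp only [Finset.sum_const, nsmul_eq_mul, mul_one] at h9
    push_cast at h9
    omega
  · intro x hx b hb f hf χ hχ
    have h1 : (⟨x, b⟩ : Σ x : G, Set (IrrCharacter (Subgroup.centralizer ({x} : Set G)))) ∈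
        subs M X B := Finset.mem_sigma.mpr ⟨hx, hb⟩
    rw [hs, Finset.mem_singleton] at h1
    subst h1
    have h2 := hf.sc_eq χ χ
    rw [(hF2 _ hsm).sc_eq χ χ] at h2
    have h3 : F ⟨x, b⟩ χ * F ⟨x, b⟩ χ = f χ * f χ := by exact_mod_cast h2
    rw [sq, ← h3, ← sq]
    exact h7 χ hχ

theorem core_two (hM : IsPModular 2 M) (hB : IsPBlock M B) (hd : blockDefect 2 B = 2)
    {X : Finset G} (hX : IsNTRep 2 X)
    (hF : ∀ x ∈ X, ∀ b ∈ indB M (Subgroup.centralizer ({x} : Set G)) B, ∃ f, SqData x b B f) :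
    Nat.card B = 4 ∧ ((subs M X B).card = 1 ∨ (subs M X B).card = 3) ∧
      blockRank 2 B + (subs M X B).card = 4 ∧
      ∀ x ∈ X, ∀ b ∈ indB M (Subgroup.centralizer ({x} : Set G)) B, ∀ f, SqData x b B f →
        ∀ χ ∈ B, f χ ^ 2 = 1 := by
  classical
  haveI := isPrime_of_isPModular hM
  have hF' : ∀ s : (Σ x : G, Set (IrrCharacter (Subgroup.centralizer ({x} : Set G)))),
      ∃ f : IrrCharacter G → ℤ, s ∈ subs M X B → SqData s.1 s.2 B f := by
    intro s
    by_cases hs : s ∈ subs M X B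
    · rw [subs, Finset.mem_sigma] at hs
      obtain ⟨f, hf⟩ := hF s.1 hs.1 s.2 hs.2
      exact ⟨f, fun _ => hf⟩
    · exact ⟨0, fun h => absurd h hs⟩
  choose F hF2 using hF'
  have hh := heights_zero hM hB (by omega)
  have key : ∀ χ ∈ B, (∀ s ∈ subs M X B, (F s χ) ^ 2 = 1) ∧
      contrib 2 B χ χ + ((subs M X B).card : ℤ) = 4 := by
    intro χ hχ
    have h1 := core_sum hM hB hX rfl hF2 hχ
    rw [hd] at h1
    have h2 := contrib_odd hM hB hχ (hh χ hχ)
    have h3 := contrib_self_pos (p := 2) hχ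
    have h4 : ∀ s ∈ subs M X B, (F s χ) ^ 2 = 1 := by
      intro s hs
      have h5 := one_le_sq ((hF2 s hs).ne_zero χ hχ)
      have h6 : (F s χ) ^ 2 ≤ ∑ s ∈ subs M X B, (F s χ) ^ 2 :=
        Finset.single_le_sum (fun s _ => sq_nonneg (F s χ)) hs
      have h7 : (F s χ) ^ 2 ≤ 3 := by omega
      have h8 : F s χ ≤ 1 := by nlinarith
      have h9 : -1 ≤ F s χ := by nlinarith
      have h10 := (hF2 s hs).ne_zero χ hχ
      have h11 : F s χ = 1 ∨ F s χ = -1 := by omega
      rcases h11 with h | h <;> rw [h] <;> norm_num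
    refine ⟨h4, ?_⟩
    rw [Finset.sum_congr rfl h4] at h1
    simp only [Finset.sum_const, nsmul_eq_mul, mul_one] at h1
    rw [h1]; norm_num
  obtain ⟨χ₀, hχ₀⟩ := block_nonempty hB
  have h4 := (key χ₀ hχ₀).2
  have hodd := contrib_odd hM hB hχ₀ (hh χ₀ hχ₀)
  have hpos := contrib_self_pos (p := 2) hχ₀
  -- there is a subsection
  have hne : (subs M X B).card ≠ 0 := by
    intro h
    rw [h] at h4
    omega
  obtain ⟨s, hs⟩ := Finset.card_pos.mp (Nat.pos_of_ne_zero hne)
  have hk : (Nat.card B : ℤ) = 4 := by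
    have h8 := (hF2 s hs).sum_eq
    rw [Finset.sum_congr rfl fun χ hχ => (key χ (mem_Bfin.mp hχ)).1 s hs, hd] at h8
    rw [natCard_eq_Bfin]
    simpa using h8
  refine ⟨by exact_mod_cast hk, by omega, ?_, ?_⟩
  · have h9 := card_eq_add_sum hM hB hX
    rw [Finset.sum_sigma' X] at h9
    have h10 : ∑ s ∈ X.sigma fun x => indB M (Subgroup.centralizer ({x} : Set G)) B,
        blockRank 2 s.2 = (subs M X B).card := by
      rw [Finset.card_eq_sum_ones]
      exact Finset.sum_congr rfl fun s hs => (hF2 s hs).rank_eq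
    rw [h10] at h9
    omega
  · intro x hx b hb f hf χ hχ
    have h1 : (⟨x, b⟩ : Σ x : G, Set (IrrCharacter (Subgroup.centralizer ({x} : Set G)))) ∈
        subs M X B := Finset.mem_sigma.mpr ⟨hx, hb⟩
    have h2 := hf.sc_eq χ χ
    rw [(hF2 _ h1).sc_eq χ χ] at h2
    have h3 : F ⟨x, b⟩ χ * F ⟨x, b⟩ χ = f χ * f χ := by exact_mod_cast h2
    rw [sq, ← h3, ← sq]
    exact (key χ hχ).1 _ h1

end Two

end Cfsg.Agent.H4
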