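import Cfsg.Agent.H4.ScVal

/-!
# Traces from `ℤ[ζ_{2^{j+1}}]` (owner: helper4)
-/

set_option autoImplicit false
set_option linter.style.haveILetI false
set_option linter.unusedSectionVars false

namespace Cfsg.Agent.H4

open scoped ComplexConjugate BigOperators
open Cfsg Cfsg.Agent.CharBase Cfsg.Agent.Blk Cfsg.Agent.BlkInd Cfsg.Agent.BlkC

instance : Fact (Nat.Prime 2) := ⟨Nat.prime_two⟩

variable {j : ℕ} {M : Ideal AlgInt}

/-- traces are divisible by `2^j` -/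
theorem exists_Tr2 {z : ℂ} (hz : z ∈ cycRing (2 ^ (j + 1))) :
    ∃ c : ℤ, Tr (2 ^ (j + 1)) z = (2 : ℂ) ^ j * (c : ℂ) := by
  classical
  have hn : 2 ^ (j + 1) ≠ 0 := pow_ne_zero _ two_ne_zero
  haveI : NeZero (2 ^ (j + 1)) := ⟨hn⟩
  obtain ⟨a, ha⟩ := exists_zmod_coeff hn hz
  have h1 : ∀ k : ZMod (2 ^ (j + 1)), ∃ c : ℤ, Tr (2 ^ (j + 1)) (zt (2 ^ (j + 1)) ^ k.val) =
      (2 : ℂ) ^ j * (c : ℂ) := by
    intro k
    have hroot : (zt (2 ^ (j + 1)) ^ k.val) ^ (2 ^ (j + 1)) = 1 := by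
      rw [← pow_mul, mul_comm, pow_mul, zt_pow_self hn, one_pow]
    refine ⟨2 * (if zt (2 ^ (j + 1)) ^ k.val = 1 then 1 else 0) -
      (if (zt (2 ^ (j + 1)) ^ k.val) ^ 2 = 1 then 1 else 0), ?_⟩
    have := Tr_root (p := 2) hroot
    rw [this]
    push_cast
    ring
  choose c hc using h1
  refine ⟨∑ k, a k * c k, ?_⟩
  rw [ha, Tr_sum]
  push_cast
  rw [Finset.mul_sum]
  refine Finset.sum_congr rfl fun k _ => ?_
  rw [Tr_int_mul, hc]
  ring

theorem Tr_conj {n : ℕ} (hn : n ≠ 0) {z : ℂ} (hz : z ∈ cycRing n) :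
    Tr n (conj z) = conj (Tr n z) := by
  unfold Tr
  rw [map_sum]
  refine Finset.sum_congr rfl fun a ha => ?_
  exact (isPow_sg hn (Finset.mem_filter.mp ha).2).map_conj hz

theorem Tr2_conj {z : ℂ} (hz : z ∈ cycRing (2 ^ (j + 1))) :
    Tr (2 ^ (j + 1)) (conj z) = Tr (2 ^ (j + 1)) z := by
  rw [Tr_conj (pow_ne_zero _ two_ne_zero) hz]
  obtain ⟨c, hc⟩ := exists_Tr2 hz
  have h2 : conj (2 : ℂ) = 2 := Complex.conj_ofNat 2
  rw [hc, map_mul, map_pow, map_intCast, h2]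

/-- **parity**: a real element is congruent to its normalized trace -/
theorem real_parity (hM : IsPModular 2 M) {z : ℂ} (hz : z ∈ cycRing (2 ^ (j + 1)))
    (hr : conj z = z) {c : ℤ} (hc : Tr (2 ^ (j + 1)) z = (2 : ℂ) ^ j * (c : ℂ)) :
    MemLocalIdeal M (z - c) := by
  classical
  haveI := isPrime_of_isPModular hM
  have hn : 2 ^ (j + 1) ≠ 0 := pow_ne_zero _ two_ne_zero
  have h2j : 0 < 2 ^ j := pow_pos two_pos _
  set ζ := zt (2 ^ (j + 1)) with hζ
  have hprim : IsPrimitiveRoot ζ (2 ^ (j + 1)) := zt_prim hn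
  have hζ0 : ζ ≠ 0 := hprim.ne_zero hn
  have hneg : ζ ^ (2 ^ j) = -1 := by
    have h1 : IsPrimitiveRoot (ζ ^ (2 ^ j)) 2 := hprim.pow (Nat.pos_of_ne_zero hn) (pow_succ 2 j)
    exact h1.eq_neg_one_of_two_right
  have hconj : ∀ k : ℕ, conj (ζ ^ k) = (ζ ^ k)⁻¹ := by
    intro k
    refine (Complex.inv_eq_conj ?_).symm
    rw [norm_pow, hprim.norm'_eq_one hn, one_pow]
  have hζ1 : ζ ∈ cycRing (2 ^ (j + 1)) := Subring.subset_closure hprim.pow_eq_one
  have hζmem : ∀ k : ℕ, ζ ^ k ∈ cycRing (2 ^ (j + 1)) := fun k => Subring.pow_mem _ hζ1 k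
  obtain ⟨a, ha⟩ := exists_ev (p := 2) hz
  set b : Fin (2 ^ j) → ℤ := fun r => a r 0 - a r 1 with hb
  have hzb : z = ∑ r : Fin (2 ^ j), (b r : ℂ) * ζ ^ (r : ℕ) := by
    rw [ha, ev]
    refine Finset.sum_congr rfl fun r _ => ?_
    rw [Fin.sum_univ_two, ← hζ]
    simp only [Fin.val_zero, Fin.val_one, mul_zero, add_zero, mul_one, pow_add, hneg, hb]
    push_cast
    ring
  have hTr : ∀ r : Fin (2 ^ j), Tr (2 ^ (j + 1)) (z * conj (ζ ^ (r : ℕ))) =
      (2 : ℂ) ^ j * (b r : ℂ) := by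
    intro r
    set δ : Fin (2 ^ j) → Fin 2 → ℤ := fun r' s' => if r' = r ∧ s' = 0 then 1 else 0 with hδ
    have hev : ev 2 j δ = ζ ^ (r : ℕ) := by
      rw [ev, Finset.sum_eq_single r]
      · rw [Fin.sum_univ_two, hδ]
        simp [hζ]
      · intro r' _ hr'
        refine Finset.sum_eq_zero fun s _ => ?_
        rw [hδ]
        simp [hr']
      · intro h; exact absurd (Finset.mem_univ _) h
    have h1 := Tr_ev_mul_conj (p := 2) a δ
    rw [hev, ← ha] at h1
    have h2 : (∑ r', ∑ s, ∑ s', (a r' s - a r' s') * (δ r' s - δ r' s') : ℤ) = 2 * b r := by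
      rw [Finset.sum_eq_single r]
      · simp only [Fin.sum_univ_two, hδ, hb]
        simp
        ring
      · intro r' _ hr'
        refine Finset.sum_eq_zero fun s _ => Finset.sum_eq_zero fun s' _ => ?_
        simp [hδ, hr']
      · intro h; exact absurd (Finset.mem_univ _) h
    rw [h2] at h1
    push_cast at h1
    have h3 : (2 : ℂ) * Tr (2 ^ (j + 1)) (z * conj (ζ ^ (r : ℕ))) =
        2 * ((2 : ℂ) ^ j * (b r : ℂ)) := by
      rw [h1]; ring
    exact mul_left_cancel₀ two_ne_zero h3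
  -- the zeroth coefficient
  have hb0 : b ⟨0, h2j⟩ = c := by
    have h1 := hTr ⟨0, h2j⟩
    simp only [pow_zero, map_one, mul_one] at h1
    rw [hc] at h1
    have h2 := mul_left_cancel₀ (pow_ne_zero j (two_ne_zero (α := ℂ))) h1
    exact_mod_cast h2.symm
  -- the involution
  have hinv : ∀ r r' : Fin (2 ^ j), (r : ℕ) + r' = 2 ^ j → b r' = - b r := by
    intro r r' hrr
    have h1 := hTr r'
    have h2 : z * conj (ζ ^ (r' : ℕ)) = - conj (z * conj (ζ ^ (r : ℕ))) := by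
      rw [map_mul, hr, Complex.conj_conj, hconj]
      have h3 : ζ ^ (r : ℕ) * ζ ^ (r' : ℕ) = -1 := by rw [← pow_add, hrr, hneg]
      have h4 : (ζ ^ (r' : ℕ)) ≠ 0 := pow_ne_zero _ hζ0
      rw [mul_inv_eq_iff_eq_mul₀ h4, ← mul_neg, mul_assoc, neg_mul, h3, neg_neg, mul_one]
    rw [h2, Tr_neg, Tr2_conj (Subring.mul_mem _ hz (cycRing_conj_mem (hζmem _))), hTr r] at h1
    have h3 : (2 : ℂ) ^ j * ((-b r : ℤ) : ℂ) = (2 : ℂ) ^ j * (b r' : ℂ) := by
      rw [← h1]; push_cast; ring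
    have h4 := mul_left_cancel₀ (pow_ne_zero j (two_ne_zero (α := ℂ))) h3
    exact_mod_cast h4.symm
  have hsum : ∑ r ∈ Finset.univ.erase (⟨0, h2j⟩ : Fin (2 ^ j)), b r = 0 := by
    have hlt : ∀ r ∈ Finset.univ.erase (⟨0, h2j⟩ : Fin (2 ^ j)), 2 ^ j - (r : ℕ) < 2 ^ j := by
      intro r hr
      have h1 := Finset.ne_of_mem_erase hr
      have h2 : (r : ℕ) ≠ 0 := fun h => h1 (Fin.ext h)
      omega
    have h1 : ∑ r ∈ Finset.univ.erase (⟨0, h2j⟩ : Fin (2 ^ j)), b r =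
        ∑ r ∈ Finset.univ.erase (⟨0, h2j⟩ : Fin (2 ^ j)), - b r := by
      refine Finset.sum_bij' (fun r hr => ⟨2 ^ j - (r : ℕ), hlt r hr⟩)
        (fun r hr => ⟨2 ^ j - (r : ℕ), hlt r hr⟩) ?_ ?_ ?_ ?_ ?_
      · intro r hr
        refine Finset.mem_erase.mpr ⟨fun h => ?_, Finset.mem_univ _⟩
        have h2 := congrArg Fin.val h
        simp only at h2
        have := r.2
        omega
      · intro r hr
        refine Finset.mem_erase.mpr ⟨fun h => ?_, Finset.mem_univ _⟩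
        have h2 := congrArg Fin.val h
        simp only at h2
        have := r.2
        omega
      · intro r hr
        apply Fin.ext
        simp only
        have := r.2
        omega
      · intro r hr
        apply Fin.ext
        simp only
        have := r.2
        omega
      · intro r hr
        have := r.2
        rw [hinv r ⟨2 ^ j - (r : ℕ), hlt r hr⟩ (by simp only; omega), neg_neg]
    rw [Finset.sum_neg_distrib] at h1
    omega
  have hfin : z - c = ∑ r : Fin (2 ^ j), (b r : ℂ) * (ζ ^ (r : ℕ) - 1) := by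
    have h1 : ∑ r : Fin (2 ^ j), (b r : ℂ) = (c : ℂ) := by
      have h2 : ∑ r : Fin (2 ^ j), b r = c := by
        rw [← Finset.add_sum_erase _ _ (Finset.mem_univ (⟨0, h2j⟩ : Fin (2 ^ j))), hsum, hb0,
          add_zero]
      rw [← h2]; push_cast; rfl
    rw [← h1, hzb, ← Finset.sum_sub_distrib]
    exact Finset.sum_congr rfl fun r _ => by ring
  rw [hfin]
  refine mli_sum _ _ fun r _ => mli_mul_left (mlr_intCast _) ?_
  refine mli_sub_one_of_pow_eq_one hM (n := j + 1) ?_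
  rw [← pow_mul, mul_comm, pow_mul, hprim.pow_eq_one, one_pow]

end Cfsg.Agent.H4
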