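import Cfsg.Agent.H4.ScVal
import Cfsg.Agent.BlkF.Sat

/-!
# Characters as functionals on the modular group algebra and nonvanishing of the
contributions of arbitrary subsections (owner: helper4)
-/

set_option autoImplicit false
set_option linter.style.haveILetI false
set_option linter.unusedSectionVars false

namespace Cfsg.Agent.H4

open scoped ComplexConjugate BigOperators
open Cfsg Cfsg.Agent.CharBase Cfsg.Agent.Blk Cfsg.Agent.BlkInd Cfsg.Agent.BlkC Cfsg.Agent.BlkF
open MonoidAlgebra

universe u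

section basic

variable {G : Type u} [Group G] [Fintype G] {M : Ideal AlgInt} [M.IsPrime]

/-- the character `χ` as a functional on `k[G]` -/
noncomputable def trF (χ : G → ℂ) (z : MonoidAlgebra (kM M) G) : kM M :=
  ∑ g : G, z.coeff g * rd M (χ g)

theorem rv_irr (χ : IrrCharacter G) : RV M (χ : G → ℂ) := fun g =>
  mlr_of_isIntegral (isIntegral_of_isCharacter (irr_isCharacter χ) g)

theorem trF_redc {χ : G → ℂ} (hχ : RV M χ) {F : G → ℂ} (hF : RV M F) :
    trF χ (redc M F) = rd M (∑ g : G, F g * χ g) := by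
  unfold trF
  rw [rd_sum _ _ fun g _ => mlr_mul (hF g) (hχ g)]
  exact Finset.sum_congr rfl fun g _ => by rw [redc_coeff, rd_mul (hF g) (hχ g)]

theorem trF_sum {ι : Type*} (χ : G → ℂ) (s : Finset ι) (f : ι → MonoidAlgebra (kM M) G) :
    trF χ (∑ i ∈ s, f i) = ∑ i ∈ s, trF χ (f i) := by
  unfold trF
  rw [Finset.sum_comm]
  refine Finset.sum_congr rfl fun g _ => ?_
  rw [coeff_sum, Finsupp.finsetSum_apply, Finset.sum_mul]

theorem sum_conv_mul (χ : IrrCharacter G) {f : G → ℂ} (hf : IsClassFunction G f) (f' : G → ℂ) :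
    ∑ g : G, conv f f' g * (χ : G → ℂ) g =
      omega (χ : G → ℂ) f * ∑ g : G, f' g * (χ : G → ℂ) g := by
  have h1 := omega_conv χ.2 hf f'
  have h0 : (χ : G → ℂ) 1 ≠ 0 := by
    rw [charDegree_spec]; exact_mod_cast (charDegree_pos χ).ne'
  unfold omega at h1 ⊢
  rw [div_mul_div_comm, div_eq_div_iff h0 (mul_ne_zero h0 h0)] at h1
  rw [div_mul_eq_mul_div, eq_div_iff h0]
  apply mul_right_cancel₀ h0
  linear_combination h1

theorem trF_mul_left (χ : IrrCharacter G) {z : MonoidAlgebra (kM M) G} (hz : Fixed ⊤ z)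
    (w : MonoidAlgebra (kM M) G) : trF (χ : G → ℂ) (z * w) = lam χ z * trF (χ : G → ℂ) w := by
  have h1 : z * w = redc M (conv (lft z) (lft w)) := by
    rw [redc_conv (rv_lft _) (rv_lft _), redc_lft, redc_lft]
  rw [h1, trF_redc (rv_irr χ) (rv_conv (rv_lft _) (rv_lft _)), sum_conv_mul χ (cf_lft hz),
    rd_mul (mlr_omega χ (cf_lft hz) (rv_lft _))
      (mlr_sum _ _ fun g _ => mlr_mul (rv_lft w g) (rv_irr χ g)),
    ← trF_redc (rv_irr χ) (rv_lft w), redc_lft]
  rfl

theorem trF_cj (χ : IrrCharacter G) (u : G) (z : MonoidAlgebra (kM M) G) :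
    trF (χ : G → ℂ) (Blk.cj u z) = trF (χ : G → ℂ) z := by
  unfold trF
  refine (Fintype.sum_equiv (MulAut.conj u).toEquiv _ _ fun g => ?_).symm
  have h1 : (MulAut.conj u).toEquiv g = u * g * u⁻¹ := rfl
  rw [h1, irr_isClassFunction χ g u, cj_coeff]
  congr 2
  group

/-- characters only see the Brauer image of `P`-fixed elements -/
theorem trF_br {p : ℕ} [Fact p.Prime] [CharP (kM M) p] {P : Subgroup G} (hP : IsPGroup p P)
    (χ : IrrCharacter G) {z : MonoidAlgebra (kM M) G} (hz : Fixed P z) :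
    trF (χ : G → ℂ) (br P z) = trF (χ : G → ℂ) z := by
  classical
  unfold trF
  let _ : MulAction P G := MulAction.compHom G (MulAut.conj.comp P.subtype)
  have hsmul : ∀ (u : P) (g : G), u • g = u * g * (u : G)⁻¹ := fun u g => rfl
  have h1 := sum_eq_sum_fixed (k := kM M) hP (X := G)
    (fun h => z.coeff h * rd M ((χ : G → ℂ) h)) (by
      intro u g
      rw [hsmul, hz.coeff_conj u.2, irr_isClassFunction χ g u])
  rw [h1]
  have hfix : ∀ g : G, (∀ u : P, u • g = g) ↔ g ∈ Subgroup.centralizer (P : Set G) := by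
    intro g
    rw [Subgroup.mem_centralizer_iff]
    constructor
    · intro h u hu
      have := h ⟨u, hu⟩
      rw [hsmul] at this
      calc u * g = u * g * u⁻¹ * u := by group
        _ = g * u := by rw [this]
    · intro h u
      rw [hsmul, h u u.2]; group
  rw [Finset.sum_filter]
  refine Finset.sum_congr rfl fun h _ => ?_
  by_cases hh : h ∈ Subgroup.centralizer (P : Set G)
  · rw [if_pos ((hfix h).2 hh), br, trunc_coeff_of_mem _ hh]
  · rw [if_neg (fun h2 => hh ((hfix h).1 h2)), br, trunc_coeff_of_notMem _ hh, zero_mul]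

end basic

section trace

variable {G : Type u} [Group G] [Fintype G] {M : Ideal AlgInt} [M.IsPrime]
variable {p : ℕ} [hp : Fact p.Prime] {B : Set (IrrCharacter G)}

/-- value at an element fixed by the defect group -/
theorem gp'_mul_trF (hM : IsPModular p M) (hB : IsPBlock M B) {D : Subgroup G}
    (hD : Nat.card D = p ^ blockDefect p B) {w : MonoidAlgebra (kM M) G} (hw : Fixed D w)
    {χ : IrrCharacter G} (hχ : χ ∈ B) :
    ((gp' G p : ℕ) : kM M) * trF (χ : G → ℂ) w =
      ((mdeg p B χ : ℕ) : kM M) * lam χ (relTr D ⊤ w) := by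
  classical
  haveI := Fintype.ofFinite (G ⧸ D)
  have hp0 : (p : ℂ) ≠ 0 := by exact_mod_cast hp.out.ne_zero
  set W : G → ℂ := lft w with hW
  have hWfix : ∀ g : G, ∀ u ∈ D, W (u * g * u⁻¹) = W g := by
    intro g u hu
    simp only [hW, lft]
    rw [hw.coeff_conj hu]
  set F : G → ℂ := fun g => ∑ q : G ⧸ D, W (q.out⁻¹ * g * q.out) with hF
  have hRV : RV M F := fun g => mlr_sum _ _ fun q _ => rv_lft w _
  have hDF : ∀ g, (Nat.card D : ℂ) * F g = ∑ u : G, W (u⁻¹ * g * u) := by
    intro g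
    rw [sum_eq_sum_quotient D (fun u => W (u⁻¹ * g * u))]
    intro u c hc
    have := hWfix (u⁻¹ * g * u) c⁻¹ (D.inv_mem hc)
    rw [← this]
    congr 1
    group
  have hDc : (Nat.card D : ℂ) ≠ 0 := by exact_mod_cast Nat.card_pos.ne'
  have hcf : IsClassFunction G F := by
    intro g h
    apply mul_left_cancel₀ hDc
    rw [hDF, hDF]
    refine Fintype.sum_equiv (Equiv.mulLeft h⁻¹) _ _ fun u => ?_
    rw [Equiv.coe_mulLeft]
    congr 1
    group
  have hred : redc M F = relTr D ⊤ w := by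
    apply Blk.ga_ext; intro g
    rw [redc_coeff, relTr_coeff, rd_sum _ _ fun q _ => rv_lft w _]
    refine Finset.sum_congr rfl fun q _ => ?_
    rw [trTerm, if_pos (Subgroup.mem_top _), cj_coeff]
    exact rd_sec _
  -- the sum
  have hsum : (Nat.card D : ℂ) * ∑ g : G, F g * (χ : G → ℂ) g =
      (Nat.card G : ℂ) * ∑ g : G, W g * (χ : G → ℂ) g := by
    rw [Finset.mul_sum]
    simp only [← mul_assoc, hDF]
    calc ∑ g : G, (∑ u : G, W (u⁻¹ * g * u)) * (χ : G → ℂ) g
        = ∑ u : G, ∑ g : G, W (u⁻¹ * g * u) * (χ : G → ℂ) g := by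
          rw [Finset.sum_comm]
          exact Finset.sum_congr rfl fun g _ => Finset.sum_mul _ _ _
      _ = ∑ _u : G, ∑ g : G, W g * (χ : G → ℂ) g := by
          refine Finset.sum_congr rfl fun u _ => ?_
          refine Fintype.sum_equiv (MulAut.conj u⁻¹).toEquiv _ _ fun g => ?_
          have h1 : (MulAut.conj u⁻¹).toEquiv g = u⁻¹ * g * u := by simp
          rw [h1]
          congr 1
          have := irr_isClassFunction χ g u⁻¹
          rw [inv_inv] at this
          exact this.symm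
      _ = _ := by
          rw [Finset.sum_const, Finset.card_univ, nsmul_eq_mul, Nat.card_eq_fintype_card]
  have hdeg : (charDegree (χ : G → ℂ) : ℂ) = (p : ℂ) ^ nuMin p B * (mdeg p B χ : ℂ) := by
    exact_mod_cast mdeg_spec (p := p) hχ
  have hcardG : (Nat.card G : ℂ) = (p : ℂ) ^ nuMin p B * ((p : ℂ) ^ blockDefect p B * (gp' G p : ℂ)) := by
    rw [← ppow_mul_gp' (G := G) (p := p), ← defect_add_nuMin (p := p) ⟨χ, hχ⟩]
    push_cast; ring
  have hdeg0 : (charDegree (χ : G → ℂ) : ℂ) ≠ 0 := by exact_mod_cast (charDegree_pos χ).ne'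
  have hmain : (gp' G p : ℂ) * ∑ g : G, W g * (χ : G → ℂ) g =
      (mdeg p B χ : ℂ) * omega (χ : G → ℂ) F := by
    have h1 : (charDegree (χ : G → ℂ) : ℂ) * omega (χ : G → ℂ) F = ∑ g : G, F g * (χ : G → ℂ) g := by
      unfold omega
      rw [charDegree_spec, mul_div_cancel₀ _ hdeg0]
    have h2 := hsum
    rw [← h1, hdeg, hcardG, hD] at h2
    push_cast at h2
    apply mul_left_cancel₀ (mul_ne_zero (pow_ne_zero (nuMin p B) hp0)
      (pow_ne_zero (blockDefect p B) hp0))
    linear_combination -h2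
  have h3 := congrArg (rd M) hmain
  rw [rd_mul (mlr_natCast _) (mlr_sum _ _ fun g _ => mlr_mul (rv_lft w g) (rv_irr χ g)),
    rd_mul (mlr_natCast _) (mlr_omega χ hcf hRV), rd_natCast, rd_natCast,
    ← trF_redc (rv_irr χ) (rv_lft w), redc_lft, ← lam_redc χ hcf hRV, hred] at h3
  exact h3

end trace

section restrict

variable {G : Type u} [Group G] [Fintype G] {M : Ideal AlgInt} [M.IsPrime]
variable {C : Subgroup G} [Fintype C]

theorem irr_res_eq [Fintype (IrrCharacter C)] (χ : IrrCharacter G) (c : C) :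
    (χ : G → ℂ) c = ∑ η : IrrCharacter C, (resMult χ η : ℂ) * (η : C → ℂ) c := by
  have h1 : IsClassFunction C (fun c : C => (χ : G → ℂ) c) := by
    intro g h
    have := irr_isClassFunction χ (g : G) (h : G)
    push_cast
    exact this
  have h2 := classFun_eq_sum h1
  have h3 := congrFun h2 c
  simp only [resMult_spec] at h3
  rw [h3]
  simp [Finset.sum_apply, Pi.smul_apply]

theorem trF_restrict [Fintype (IrrCharacter C)] (χ : IrrCharacter G)
    {z : MonoidAlgebra (kM M) G} (hz : Supp C z) :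
    trF (χ : G → ℂ) z = ∑ η : IrrCharacter C, ((resMult χ η : ℕ) : kM M) *
      trF (η : C → ℂ) (res C z) := by
  classical
  have h1 : trF (χ : G → ℂ) z = ∑ c : C, z.coeff (c : G) * rd M ((χ : G → ℂ) c) := by
    unfold trF
    rw [← Finset.sum_subset (s₁ := Finset.univ.filter (fun g : G => g ∈ C))]
    · refine (Finset.sum_bij (fun (c : C) _ => (c : G)) ?_ ?_ ?_ ?_).symm
      · intro c _; exact Finset.mem_filter.mpr ⟨Finset.mem_univ _, c.2⟩
      · intro c _ c' _ h; exact Subtype.ext h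
      · intro g hg; exact ⟨⟨g, (Finset.mem_filter.mp hg).2⟩, Finset.mem_univ _, rfl⟩
      · intro c _; rfl
    · exact Finset.filter_subset _ _
    · intro g _ hg
      have : g ∉ C := fun h => hg (Finset.mem_filter.mpr ⟨Finset.mem_univ _, h⟩)
      rw [hz g this, zero_mul]
  rw [h1]
  unfold trF
  simp only [Finset.mul_sum]
  rw [Finset.sum_comm]
  refine Finset.sum_congr rfl fun c _ => ?_
  rw [irr_res_eq χ c, rd_sum _ _ fun η _ => mlr_mul (mlr_natCast _) (rv_irr η c), Finset.mul_sum]
  refine Finset.sum_congr rfl fun η _ => ?_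
  rw [rd_mul (mlr_natCast _) (rv_irr η c), rd_natCast]
  have : (res C z).coeff c = z.coeff (c : G) := rfl
  rw [this]
  ring

end restrict

section main

variable {G : Type u} [Group G] [Fintype G] {M : Ideal AlgInt}
variable {p : ℕ} [hp : Fact p.Prime] {B : Set (IrrCharacter G)}

theorem mdeg_not_dvd {χ : IrrCharacter G} (hχ : χ ∈ B) (h0 : blockHeight p B (χ : G → ℂ) = 0) :
    ¬ p ∣ mdeg p B χ := by
  intro h
  have h1 : nu p χ = nuMin p B := by rw [nu_eq_height_add hχ, h0, add_zero]
  have h2 : p ^ (nu p χ + 1) ∣ charDegree (χ : G → ℂ) := by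
    rw [mdeg_spec (p := p) hχ, ← h1, pow_succ]
    exact Nat.mul_dvd_mul_left _ h
  exact Nat.pow_succ_factorization_not_dvd (charDegree_pos χ).ne' hp.out h2

/-- characters of height zero do not vanish on the local idempotents of pairs -/
theorem exists_trF_ne [M.IsPrime] (hM : IsPModular p M) (hB : IsPBlock M B)
    {χ : IrrCharacter G} (hχ : χ ∈ B) (h0 : blockHeight p B (χ : G → ℂ) = 0) {Q : Subgroup G}
    {g : MonoidAlgebra (kM M) G} (hQ : haveI := charP_kM hM; MPairOf p (eB M B) Q g) :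
    ∃ z : MonoidAlgebra (kM M) G, Supp (Subgroup.centralizer (Q : Set G)) z ∧ g * z = z ∧
      trF (χ : G → ℂ) z ≠ 0 := by
  classical
  haveI := charP_kM hM
  obtain ⟨D, hD⟩ := exists_defectGroup hM hB
  have hcardD := card_defectGroup hM hB hD
  have hDef := (isDefectGroup_iff hM hB D).1 hD
  obtain ⟨a, -, haD, hat⟩ := hDef.tr
  have hEB := isBlk_eB hB
  have hgp : ((gp' G p : ℕ) : kM M) ≠ 0 := by
    rw [Ne, CharP.cast_eq_zero_iff (kM M) p]; exact not_dvd_gp'
  have hmd : ((mdeg p B χ : ℕ) : kM M) ≠ 0 := by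
    rw [Ne, CharP.cast_eq_zero_iff (kM M) p]; exact mdeg_not_dvd hχ h0
  have ha : trF (χ : G → ℂ) a ≠ 0 := by
    intro h
    have h1 := gp'_mul_trF hM hB hcardD haD hχ
    rw [h, mul_zero, hat, lam_eB hB, if_pos hχ, mul_one] at h1
    exact hmd h1.symm
  rw [← trF_br hDef.isPGroup χ haD] at ha
  obtain ⟨s, hs, hs1⟩ := exists_all_blks (kM M) (Subgroup.centralizer (D : Set G))
  have h1 : br D a = ∑ f ∈ s, f * br D a := by rw [← Finset.sum_mul, hs1, one_mul]
  rw [h1, trF_sum] at ha
  obtain ⟨f, hf, hfne⟩ := Finset.exists_ne_zero_of_sum_ne_zero ha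
  have hfb := (hs f).mp hf
  set z₀ := f * br D a with hz₀
  have hz₀S : Supp (Subgroup.centralizer (D : Set G)) z₀ := hfb.supp.mul (supp_br D a)
  have hz₀f : f * z₀ = z₀ := by rw [hz₀, ← mul_assoc, hfb.idem]
  have hfix0 : Fixed D z₀ := hz₀S.fixed_of_centralizer
  have hEBD : Fixed D (eB M B) := hEB.fixed.mono le_top
  have hpair : MPairOf p (eB M B) D f := by
    refine ⟨⟨hDef.isPGroup, hfb⟩, hEB, ?_⟩
    have hbf : Fixed (Subgroup.centralizer (D : Set G)) (br D (eB M B)) :=
      (hEB.fixed.mono le_top).br (centralizer_le_normalizer D)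
    have hcomm : br D (eB M B) * f = f * br D (eB M B) := mul_comm_of_fixed hbf hfb.supp
    rcases hfb.prim (br D (eB M B)) (supp_br D _) hbf
      (by rw [← br_mul hDef.isPGroup hEBD hEBD, hEB.idem]) with h2 | h2
    · rw [hcomm, h2]
    · exfalso
      apply hfne
      have h3 : trF (χ : G → ℂ) (eB M B * z₀) = trF (χ : G → ℂ) z₀ := by
        rw [trF_mul_left χ hEB.fixed, lam_eB hB, if_pos hχ, one_mul]
      rw [← h3, ← trF_br hDef.isPGroup χ (hEBD.mul hfix0), br_mul hDef.isPGroup hEBD hfix0,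
        br_of_supp hz₀S, hz₀, ← mul_assoc, hcomm, h2, zero_mul]
      unfold trF
      simp
  have hmax := MPairOf.mmax hpair hDef
  obtain ⟨u, hu⟩ := hmax.exists_conj_le hpair hQ
  -- descend
  have hdesc : ∀ (R : Subgroup G) (e : MonoidAlgebra (kM M) G), MLe p R e D f →
      ∃ z : MonoidAlgebra (kM M) G, Supp (Subgroup.centralizer (R : Set G)) z ∧ e * z = z ∧
        trF (χ : G → ℂ) z ≠ 0 := by
    intro R e hle
    have key : ∀ a : MIdx (kM M) G, Relation.ReflTransGen
        (fun a b : MIdx (kM M) G => MNorm p a.1 a.2 b.1 b.2) a (D, f) →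
        ∃ z : MonoidAlgebra (kM M) G, Supp (Subgroup.centralizer (a.1 : Set G)) z ∧
          a.2 * z = z ∧ trF (χ : G → ℂ) z ≠ 0 := by
      intro a ha
      induction ha using Relation.ReflTransGen.head_induction_on with
      | refl => exact ⟨z₀, hz₀S, hz₀f, hfne⟩
      | head h1 hchain ih =>
        rename_i a' c'
        obtain ⟨z, hz1, hz2, hz3⟩ := ih
        have hzfix : Fixed c'.1 z := hz1.fixed_of_centralizer
        refine ⟨a'.2 * z, h1.left.blk.supp.mul (hz1.mono (centralizer_le_of_le h1.le)), ?_, ?_⟩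
        · rw [← mul_assoc, h1.left.blk.idem]
        · have h2 : trF (χ : G → ℂ) (a'.2 * z) = trF (χ : G → ℂ) z := by
            rw [← trF_br h1.right.isPGroup χ (h1.fixed.mul hzfix),
              br_mul h1.right.isPGroup h1.fixed hzfix, br_of_supp hz1]
            nth_rewrite 1 [← hz2]
            rw [← mul_assoc, h1.brmul, hz2]
          rw [h2]; exact hz3
    exact key (R, e) hle
  obtain ⟨z, hz1, hz2, hz3⟩ := hdesc _ _ hu
  refine ⟨Blk.cj u⁻¹ z, ?_, ?_, ?_⟩
  · have h2 := hz1.cj u⁻¹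
    rw [← map_conj_centralizer, map_conj_map_conj, inv_mul_cancel] at h2
    have h3 : (Subgroup.centralizer (Q : Set G)).map (MulAut.conj (1 : G)).toMonoidHom =
        Subgroup.centralizer (Q : Set G) := by
      ext x; rw [mem_map_conj_iff]; simp
    rwa [h3] at h2
  · have h2 := congrArg (Blk.cj u⁻¹) hz2
    rw [Blk.cj_mul, cj_cj, inv_mul_cancel, cj_one_left] at h2
    exact h2
  · rw [trF_cj]; exact hz3

/-- **the key nonvanishing statement for arbitrary subsections** -/
theorem not_dvd_resSum_all (hM : IsPModular p M) {x : G}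
    (hx : ∃ k : ℕ, orderOf x = p ^ k) {C : Subgroup G} [Fintype C]
    (hC : C = Subgroup.centralizer ({x} : Set G))
    {e : Set (IrrCharacter C)} (hind : IsInducedBlock M C e B)
    {χ : IrrCharacter G} (hχ : χ ∈ B) (h0 : blockHeight p B (χ : G → ℂ) = 0) :
    ¬ (p : ℤ) ∣ resSum p e χ := by
  classical
  haveI := isPrime_of_isPModular hM
  haveI := charP_kM hM
  haveI := Fintype.ofFinite (IrrCharacter C)
  have hC' : C = Subgroup.centralizer ((Subgroup.zpowers x : Subgroup G) : Set G) :=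
    hC.trans (centralizer_zpowers_eq x).symm
  clear hC
  subst hC'
  have hB := hind.2.1
  have hpair := mpairOf_of_isInducedBlock hM hx hind
  have hE := isBlk_EB (M := M) hind.1
  obtain ⟨D, hD⟩ := exists_defectGroup hM hind.1
  have hcardD := card_defectGroup hM hind.1 hD
  have hDef := (isDefectGroup_iff' hM hind.1 D).1 hD
  set Q := D.map (Subgroup.centralizer ((Subgroup.zpowers x : Subgroup G) : Set G)).subtype with hQ
  have hQp := hDef.isPGroup
  have hQC := hDef.le
  have hxC : Subgroup.zpowers x ≤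
      Subgroup.centralizer ((Subgroup.zpowers x : Subgroup G) : Set G) := by
    rw [Subgroup.zpowers_le, Subgroup.mem_centralizer_iff]
    intro h hh
    obtain ⟨n, rfl⟩ := Subgroup.mem_zpowers_iff.mp hh
    exact ((Commute.refl x).zpow_left n).eq
  have hCN := centralizer_le_normalizer (Subgroup.zpowers x)
  have hxQ : Subgroup.zpowers x ≤ Q := hE.normal_le_def hDef hxC hCN hpair.1.isPGroup
  have hQT : Q ≤ stab (Subgroup.normalizer ((Subgroup.zpowers x : Subgroup G) : Set G))
      (EB M _ e) := fun u hu => ⟨hCN (hQC hu), hE.fixed u (hQC hu)⟩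
  obtain ⟨g, hg⟩ := hpair.1.exists_norm_of_br_ne hQp hxQ hQT hDef.br_ne
  have hPg : MPairOf p (eB M B) Q g := (hg.mle.pairOf_iff hg.right).2 hpair
  obtain ⟨z, hz1, hz2, hz3⟩ := exists_trF_ne hM hB hχ h0 hPg
  have hzfix : Fixed Q z := hz1.fixed_of_centralizer
  have hEfix : Fixed Q (EB M _ e) := hE.fixed.mono hQC
  set w := EB M _ e * z with hw
  have hwfix : Fixed Q w := hEfix.mul hzfix
  have hzC : Supp (Subgroup.centralizer ((Subgroup.zpowers x : Subgroup G) : Set G)) z :=
    hz1.mono (centralizer_le_of_le hxQ)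
  have hwS : Supp (Subgroup.centralizer ((Subgroup.zpowers x : Subgroup G) : Set G)) w :=
    hE.supp.mul hzC
  have hwne : trF (χ : G → ℂ) w ≠ 0 := by
    have h2 : trF (χ : G → ℂ) w = trF (χ : G → ℂ) z := by
      rw [hw, ← trF_br hQp χ (hEfix.mul hzfix), br_mul hQp hEfix hzfix, br_of_supp hz1]
      nth_rewrite 1 [← hz2]
      rw [← mul_assoc, hg.brmul, hz2]
    rw [h2]; exact hz3
  -- transfer to `C`
  set w' := res (Subgroup.centralizer ((Subgroup.zpowers x : Subgroup G) : Set G)) w with hw'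
  set z' := res (Subgroup.centralizer ((Subgroup.zpowers x : Subgroup G) : Set G)) z with hz'
  have hwz : w' = eB M e * z' := by
    apply incl_injective
    rw [incl_mul, hw', hz', incl_res hwS, incl_res hzC, hw, EB_eq]
  have hw'fix : Fixed D w' := by
    rw [Blk.fixed_iff]
    intro u hu y
    have h3 := hwfix.coeff_conj (u := (u : G)) ⟨u, hu, rfl⟩ (y : G)
    exact h3
  have hEe := isBlk_eB (M := M) hind.1
  obtain ⟨η₀, hη₀⟩ := block_nonempty hind.1
  have hval : ∀ η : IrrCharacter (Subgroup.centralizer ((Subgroup.zpowers x : Subgroup G) : Set G)),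
      ((gp' (Subgroup.centralizer ((Subgroup.zpowers x : Subgroup G) : Set G)) p : ℕ) : kM M) *
        trF (η : _ → ℂ) w' = if η ∈ e then ((mdeg p e η : ℕ) : kM M) *
          lam η₀ (relTr D ⊤ w') else 0 := by
    intro η
    split_ifs with hη
    · rw [gp'_mul_trF hM hind.1 hcardD hw'fix hη]
      congr 1
      exact lam_eq_of_sameBlock (BlkC.sameBlock_of_mem hind.1 hη hη₀) (fixed_relTr le_top hw'fix)
    · rw [hwz, trF_mul_left η hEe.fixed, lam_eB hind.1, if_neg hη, zero_mul, mul_zero]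
  have hfin : ((gp' (Subgroup.centralizer ((Subgroup.zpowers x : Subgroup G) : Set G)) p : ℕ) : kM M) *
      trF (χ : G → ℂ) w = ((resSum p e χ : ℤ) : kM M) * lam η₀ (relTr D ⊤ w') := by
    rw [trF_restrict χ hwS, Finset.mul_sum]
    have h3 : ∀ η : IrrCharacter (Subgroup.centralizer ((Subgroup.zpowers x : Subgroup G) : Set G)),
        ((gp' (Subgroup.centralizer ((Subgroup.zpowers x : Subgroup G) : Set G)) p : ℕ) : kM M) *
          (((resMult χ η : ℕ) : kM M) * trF (η : _ → ℂ) w') = if η ∈ Bfin e then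
            ((resMult χ η : ℕ) : kM M) * (((mdeg p e η : ℕ) : kM M) *
              lam η₀ (relTr D ⊤ w')) else 0 := by
      intro η
      rw [mul_left_comm, hval η]
      by_cases hη : η ∈ e
      · rw [if_pos hη, if_pos (mem_Bfin.mpr hη)]
      · rw [if_neg hη, if_neg (fun h => hη (mem_Bfin.mp h)), mul_zero]
    rw [Finset.sum_congr rfl fun η _ => h3 η, Finset.sum_ite_mem, Finset.univ_inter]
    unfold resSum
    push_cast
    rw [Finset.sum_mul]
    exact Finset.sum_congr rfl fun η _ => by ring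
  intro hdvd
  have h4 : ((resSum p e χ : ℤ) : kM M) = 0 := (CharP.intCast_eq_zero_iff (kM M) p _).mpr hdvd
  rw [h4, zero_mul] at hfin
  rcases mul_eq_zero.mp hfin with h5 | h5
  · rw [CharP.cast_eq_zero_iff (kM M) p] at h5
    exact not_dvd_gp' h5
  · exact hwne h5

end main

end Cfsg.Agent.H4
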