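import Cfsg.Agent.H68.HupH
import Cfsg.Agent.S1901
import Cfsg.Agent.H76.PSolvable
import Cfsg.Agent.ZJ.SolvFact
import Cfsg.Agent.Transfer.NPC

/-!
# Solvable groups transitive on nonzero vectors with `p`-groups as point stabilizers (owner: helper4)
-/

set_option autoImplicit false

namespace Cfsg.Agent.H4.TransStab

open Subgroup Cfsg Cfsg.Agent.H68 Cfsg.Agent.H68.Hup

universe u v

section General
variable {H : Type*} [Group H] [Finite H] {p : ℕ} [hp : Fact p.Prime]

/-- homomorphism onto a commutative group with `p'`-kernel -/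
theorem npc_of_hom {C : Type*} [Group C] (hC : ∀ a b : C, a * b = b * a) (f : H →* C)
    (hker : ¬ p ∣ Nat.card f.ker) :
    HasNormalPComplement p H ∧ ∀ Q : Sylow p H, IsMulCommutative (Q : Subgroup H) := by
  have hpp := hp.out
  have hH : Nat.card H ≠ 0 := Nat.card_pos.ne'
  set m := Nat.card H / p ^ (Nat.card H).factorization p with hm
  have hmul : p ^ (Nat.card H).factorization p * m = Nat.card H := Nat.ordProj_mul_ordCompl_eq_self _ _
  have hmcop : Nat.Coprime p m := Nat.coprime_ordCompl hpp hH
  have hkerp : ∀ x : H, f x = 1 → ∀ j : ℕ, x ^ p ^ j = 1 → x = 1 := by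
    intro x hx j hj
    have hxk : x ∈ f.ker := hx
    have h1 : orderOf (⟨x, hxk⟩ : f.ker) ∣ Nat.card f.ker := orderOf_dvd_natCard _
    rw [Subgroup.orderOf_mk] at h1
    have h2 : orderOf x ∣ p ^ j := orderOf_dvd_of_pow_eq_one hj
    obtain ⟨i, -, hi⟩ := (Nat.dvd_prime_pow hpp).mp h2
    rcases Nat.eq_zero_or_pos i with h0 | h0
    · rw [h0, pow_zero, orderOf_eq_one_iff] at hi
      exact hi
    · exfalso
      apply hker
      refine dvd_trans ?_ h1
      rw [hi]
      exact dvd_pow_self p h0.ne'
  constructor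
  · let K : Subgroup H :=
      { carrier := {h | f h ^ m = 1}
        one_mem' := by simp
        mul_mem' := by
          intro a b ha hb
          have h1 : Commute (f a) (f b) := hC _ _
          change f (a * b) ^ m = 1
          rw [map_mul, h1.mul_pow]
          have ha' : f a ^ m = 1 := ha
          have hb' : f b ^ m = 1 := hb
          rw [ha', hb', one_mul]
        inv_mem' := by
          intro a ha
          change f a⁻¹ ^ m = 1
          have ha' : f a ^ m = 1 := ha
          rw [map_inv, inv_pow, ha', inv_one] }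
    have hKn : K.Normal := by
      constructor
      intro x hx g
      change f (g * x * g⁻¹) ^ m = 1
      have hx' : f x ^ m = 1 := hx
      rw [map_mul, map_mul, hC (f g) (f x), mul_assoc, ← map_mul, mul_inv_cancel, map_one, mul_one, hx']
    have hKp : (Nat.card K).Coprime p := by
      rw [Nat.coprime_comm, hpp.coprime_iff_not_dvd]
      intro hd
      obtain ⟨x, hx⟩ := exists_prime_orderOf_dvd_card' p hd
      have h1 : f (x : H) ^ m = 1 := x.2
      have h2 : (x : H) ^ p = 1 := by
        have := pow_orderOf_eq_one x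
        rw [hx] at this
        exact congrArg Subtype.val this
      have h3 : f (x : H) = 1 := by
        have h4 : f (x : H) ^ p = 1 := by rw [← map_pow, h2, map_one]
        have h5 : orderOf (f (x : H)) ∣ 1 := by
          rw [← Nat.Coprime.gcd_eq_one hmcop]
          exact Nat.dvd_gcd (orderOf_dvd_of_pow_eq_one h4) (orderOf_dvd_of_pow_eq_one h1)
        exact orderOf_eq_one_iff.mp (Nat.dvd_one.mp h5)
      have h4 := hkerp (x : H) h3 1 (by rw [pow_one, h2])
      have h5 : x = 1 := Subtype.ext h4
      rw [h5, orderOf_one] at hx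
      exact hpp.one_lt.ne hx
    have hKi : ∃ k, K.index = p ^ k := by
      have h1 : IsPGroup p (H ⧸ K) := by
        intro g
        induction g using QuotientGroup.induction_on with
        | H g =>
          refine ⟨(Nat.card H).factorization p, ?_⟩
          have h2 : g ^ p ^ (Nat.card H).factorization p ∈ K := by
            change f (g ^ p ^ (Nat.card H).factorization p) ^ m = 1
            rw [← map_pow, ← pow_mul, hmul, pow_card_eq_one', map_one]
          exact (QuotientGroup.eq_one_iff _).mpr h2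
      obtain ⟨k, hk⟩ := IsPGroup.iff_card.mp h1
      exact ⟨k, hk⟩
    obtain ⟨k, hk⟩ := hKi
    exact Transfer.hasNPC_of_normal hKn hKp hk
  · intro Q
    refine ⟨⟨fun a b => ?_⟩⟩
    apply Subtype.ext
    have h1 : f ((a : H) * b * (b * a : H)⁻¹) = 1 := by
      rw [map_mul, map_mul, map_inv, map_mul, hC (f a) (f b), mul_inv_cancel]
    have h2 : ((a * b * (b * a)⁻¹ : (Q : Subgroup H)) : H) = (a : H) * b * (b * a : H)⁻¹ := rfl
    obtain ⟨j, hj⟩ := Q.2 (a * b * (b * a)⁻¹)
    have h3 := hkerp _ h1 j (by rw [← h2]; exact congrArg Subtype.val hj)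
    exact mul_inv_eq_one.mp h3

/-- counting fixed points of conjugation -/
theorem count (Q : Subgroup H) [hQ : Q.Normal] {u : H} {r : ℕ} [hr : Fact r.Prime] (hu : orderOf u = r) :
    ∃ C : Subgroup Q, (∀ y : Q, y ∈ C ↔ u * (y : H) = y * u) ∧ Nat.card C ≡ Nat.card Q [MOD r] := by
  let C : Subgroup Q := (centralizer ({u} : Set H)).subgroupOf Q
  have hmem : ∀ y : Q, y ∈ C ↔ u * (y : H) = y * u := by
    intro y
    rw [mem_subgroupOf, mem_centralizer_singleton_iff]
    exact eq_comm
  refine ⟨C, hmem, ?_⟩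
  let act : MulAction (zpowers u) Q :=
    MulAction.compHom Q ((MulAut.conjNormal : H →* MulAut Q).comp (zpowers u).subtype)
  have hp : IsPGroup r (zpowers u) := IsPGroup.of_card (n := 1) (by rw [Nat.card_zpowers, hu, pow_one])
  have h1 := hp.card_modEq_card_fixedPoints Q
  have h2 : Nat.card (MulAction.fixedPoints (zpowers u) Q) = Nat.card C := by
    apply Nat.card_congr
    refine Equiv.subtypeEquivRight ?_
    intro y
    rw [hmem, MulAction.mem_fixedPoints]
    have h3 : ∀ (g : zpowers u), g • y = y ↔ (g : H) * y = y * g := by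
      intro g
      have h4 : ((g • y : Q) : H) = (g : H) * y * (g : H)⁻¹ := MulAut.conjNormal_apply (g : H) y
      rw [Subtype.ext_iff, h4, mul_inv_eq_iff_eq_mul]
    constructor
    · intro h
      exact (h3 ⟨u, mem_zpowers u⟩).mp (h _)
    · intro h g
      rw [h3]
      obtain ⟨k, hk⟩ := g.2
      have h5 : Commute u (y : H) := h
      rw [← hk]
      exact h5.zpow_left k
  rw [h2] at h1
  exact h1.symm

end General

section Ring

theorem ringAut_comm {F : Type*} [Field F] [Finite F] (σ τ : F ≃+* F) : σ * τ = τ * σ := by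
  obtain ⟨ζ, hζ⟩ := IsCyclic.exists_generator (α := Fˣ)
  obtain ⟨s, hs⟩ := hζ (Units.map (σ : F →* F) ζ)
  obtain ⟨t, ht⟩ := hζ (Units.map (τ : F →* F) ζ)
  have hs' : σ (ζ : F) = (ζ : F) ^ s := by
    have := congrArg (fun x : Fˣ => (x : F)) hs
    simpa using this.symm
  have ht' : τ (ζ : F) = (ζ : F) ^ t := by
    have := congrArg (fun x : Fˣ => (x : F)) ht
    simpa using this.symm
  apply RingEquiv.ext
  intro x
  by_cases hx : x = 0
  · rw [hx, map_zero, map_zero]
  obtain ⟨k, hk⟩ := hζ (Units.mk0 x hx)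
  have hk' : x = (ζ : F) ^ k := by
    have := congrArg (fun x : Fˣ => (x : F)) hk
    simpa using this.symm
  change σ (τ x) = τ (σ x)
  rw [hk', map_zpow₀, map_zpow₀, map_zpow₀, map_zpow₀, hs', ht',
    map_zpow₀, map_zpow₀, hs', ht', ← zpow_mul, ← zpow_mul, ← zpow_mul, ← zpow_mul]
  congr 1
  ring

end Ring

section Main

variable {H : Type u} [Group H] [Finite H] {V : Type u} [AddCommGroup V] [Finite V] [Nontrivial V]
  [DistribMulAction H V] {p : ℕ} [hp : Fact p.Prime]

omit [Finite V] [Nontrivial V] in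
theorem card_eq (htr : TransV H V) (hst : ∀ v : V, v ≠ 0 → IsPGroup p (MulAction.stabilizer H v)) [Finite V] [Nontrivial V] :
    ∃ b : ℕ, Nat.card H = (Nat.card V - 1) * p ^ b := by
  obtain ⟨v, hv⟩ := exists_ne (0 : V)
  have h1 : MulAction.orbit H v = {w : V | w ≠ 0} := by
    ext w
    rw [MulAction.mem_orbit_iff, Set.mem_setOf_eq]
    constructor
    · rintro ⟨g, rfl⟩
      intro h
      exact hv ((smul_eq_zero_iff_eq g).mp h)
    · intro hw
      exact htr v w hv hw
  have h2 : Nat.card (MulAction.orbit H v) = Nat.card V - 1 := by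
    rw [h1, Nat.card_coe_set_eq]
    have h3 : ({w : V | w ≠ 0} : Set V) = Set.univ \ {0} := by
      ext w; simp
    rw [h3, Set.ncard_sdiff_singleton_of_mem (Set.mem_univ _), Set.ncard_univ]
  obtain ⟨b, hb⟩ := IsPGroup.iff_card.mp (hst v hv)
  refine ⟨b, ?_⟩
  rw [← h2, Nat.card_congr (MulAction.orbitEquivQuotientStabilizer H v), ← hb, mul_comm]
  exact (Subgroup.card_mul_index _).symm.trans (by rw [Subgroup.index_eq_card])

omit [Finite H] [Finite V] [Nontrivial V] in
/-- involutions act as `-1` -/
theorem neg_of_sq (hp2 : p ≠ 2) (hst : ∀ v : V, v ≠ 0 → IsPGroup p (MulAction.stabilizer H v)) {t : H}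
    (ht : t * t = 1) (ht1 : t ≠ 1) (v : V) : t • v = -v := by
  by_contra hne
  have h1 : v + t • v ≠ 0 := by
    intro h
    exact hne (eq_neg_of_add_eq_zero_right h)
  have h2 : t ∈ MulAction.stabilizer H (v + t • v) := by
    rw [MulAction.mem_stabilizer_iff, smul_add, ← mul_smul, ht, one_smul, add_comm]
  obtain ⟨j, hj⟩ := hst _ h1 ⟨t, h2⟩
  have hj' : t ^ p ^ j = 1 := congrArg Subtype.val hj
  have h3 : orderOf t ∣ 1 := by
    have h4 : Nat.Coprime 2 (p ^ j) :=
      Nat.Coprime.pow_right _ ((Nat.coprime_primes Nat.prime_two hp.out).mpr hp2.symm)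
    rw [← Nat.Coprime.gcd_eq_one h4]
    exact Nat.dvd_gcd (orderOf_dvd_of_pow_eq_one (by rw [pow_two, ht])) (orderOf_dvd_of_pow_eq_one hj')
  exact ht1 (orderOf_eq_one_iff.mp (Nat.dvd_one.mp h3))

omit [Finite H] [Finite V] [Nontrivial V] in
theorem central_of_sq (hf : FaithV H V) (hp2 : p ≠ 2)
    (hst : ∀ v : V, v ≠ 0 → IsPGroup p (MulAction.stabilizer H v)) {t : H}
    (ht : t * t = 1) (h : H) : h * t = t * h := by
  by_cases ht1 : t = 1
  · rw [ht1, one_mul, mul_one]
  have h1 := hf ((h * t) * (t * h)⁻¹) (fun v => by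
    have h2 : ∀ w : V, (t * h)⁻¹ • w = h⁻¹ • (-w) := by
      intro w
      have h3 : (t * h)⁻¹ = h⁻¹ * t := by
        rw [mul_inv_rev]
        congr 1
        exact inv_eq_of_mul_eq_one_left ht
      rw [h3, mul_smul, neg_of_sq hp2 hst ht ht1]
    rw [mul_smul, h2, mul_smul, neg_of_sq hp2 hst ht ht1, smul_neg, smul_neg, smul_neg, neg_neg, smul_inv_smul])
  exact mul_inv_eq_one.mp h1

/-- an element of small prime order centralizes a small normal `2`-subgroup -/
theorem count_two (hf : FaithV H V) (hp2 : p ≠ 2)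
    (hst : ∀ v : V, v ≠ 0 → IsPGroup p (MulAction.stabilizer H v)) (Q : Subgroup H) [Q.Normal]
    (hQ : IsPGroup 2 Q) {u : H} {r : ℕ} [hr : Fact r.Prime] (hu : orderOf u = r)
    (hnum : ∀ i j : ℕ, Nat.card Q = 2 ^ i → 1 ≤ j → j ≤ i → 2 ^ j ≡ 2 ^ i [MOD r] → j = i) :
    ∀ y ∈ Q, u * y = y * u := by
  obtain ⟨C, hC, hmod⟩ := count Q (r := r) hu
  obtain ⟨i, hi⟩ := IsPGroup.iff_card.mp hQ
  by_cases hQ1 : i = 0
  · rw [hQ1, pow_zero, Subgroup.card_eq_one] at hi
    intro y hy
    rw [hi, mem_bot] at hy
    rw [hy, one_mul, mul_one]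
  have hdvd : Nat.card C ∣ 2 ^ i := by rw [← hi]; exact C.card_subgroup_dvd_card
  obtain ⟨j, hji, hj⟩ := (Nat.dvd_prime_pow Nat.prime_two).mp hdvd
  have hj1 : 1 ≤ j := by
    -- an involution of Q
    have h2 : 2 ∣ Nat.card Q := by rw [hi]; exact dvd_pow_self 2 hQ1
    obtain ⟨t, ht⟩ := exists_prime_orderOf_dvd_card' (G := Q) 2 h2
    have ht2 : (t : H) * t = 1 := by
      have := pow_orderOf_eq_one t
      rw [ht, pow_two] at this
      exact congrArg Subtype.val this
    have htC : t ∈ C := by
      rw [hC]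
      exact central_of_sq hf hp2 hst ht2 u
    rcases Nat.eq_zero_or_pos j with h0 | h0
    · exfalso
      rw [h0, pow_zero, Subgroup.card_eq_one] at hj
      rw [hj, mem_bot] at htC
      rw [htC, orderOf_one] at ht
      exact absurd ht (by norm_num)
    · exact h0
  have h3 := hnum i j hi hj1 hji (by rw [← hj, ← hi]; exact hmod)
  have h4 : C = ⊤ := by
    apply Subgroup.eq_top_of_card_eq
    rw [hj, hi, h3]
  intro y hy
  have h5 : (⟨y, hy⟩ : Q) ∈ C := by rw [h4]; exact mem_top _
  exact (hC _).mp h5


/-- the exceptional case `|V| = 81` -/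
theorem case81 (hsol : Group.IsSolvable H) (hf : FaithV H V) (htr : TransV H V)
    (hst : ∀ v : V, v ≠ 0 → IsPGroup 3 (MulAction.stabilizer H v)) (hOp : pCore 3 H = ⊥)
    (hV : Nat.card V = 81) : ¬ 3 ∣ Nat.card H := by
  intro h3
  have : Fact (Nat.Prime 3) := ⟨Nat.prime_three⟩
  have hp5 : Nat.Prime 5 := by norm_num
  have : Fact (Nat.Prime 5) := ⟨hp5⟩
  obtain ⟨b, hb⟩ := card_eq htr hst
  rw [hV] at hb
  have h5 : 5 ∣ Nat.card H := by rw [hb]; exact Dvd.dvd.mul_right (by norm_num) _
  obtain ⟨u, hu⟩ := exists_prime_orderOf_dvd_card' (G := H) 3 h3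
  obtain ⟨w, hw⟩ := exists_prime_orderOf_dvd_card' (G := H) 5 h5
  have hQ2 : IsPGroup 2 (pCore 2 H) := Solv.pCore_isPGroup 2
  by_cases hK : pPrimeCore 2 H = ⊥
  · have hcent := H76.centralizer_pCore_le (ZJ.isPSolvable_of_isSolvable (G := H) 2 hsol) hK
    have h1 := count_two hf (by norm_num) hst (pCore 2 H) hQ2 hw (by
      intro i j hi hj hji hmod
      have h2 : 2 ^ i ∣ 16 := by
        have h3 : 2 ^ i ∣ (81 - 1) * 3 ^ b := by rw [← hi, ← hb]; exact card_subgroup_dvd_card _
        have h4 : Nat.Coprime (2 ^ i) (5 * 3 ^ b) :=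
          Nat.Coprime.pow_left _ (Nat.Coprime.mul_right (by norm_num) (Nat.Coprime.pow_right _ (by norm_num)))
        apply h4.dvd_of_dvd_mul_right
        rw [show 16 * (5 * 3 ^ b) = (81 - 1) * 3 ^ b by ring]
        exact h3
      have h5 : i ≤ 4 := by
        have := (Nat.pow_dvd_pow_iff_le_right (x := 2) (k := i) (l := 4) (by norm_num)).mp (by simpa using h2)
        exact this
      unfold Nat.ModEq at hmod
      interval_cases i <;> interval_cases j <;> first | rfl | (exfalso; revert hmod; decide))
    have h2 : w ∈ pCore 2 H := hcent (by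
      rw [mem_centralizer_iff]
      intro y hy
      exact (h1 y hy).symm)
    obtain ⟨j, hj⟩ := hQ2 ⟨w, h2⟩
    have hj' : w ^ 2 ^ j = 1 := congrArg Subtype.val hj
    have h6 := orderOf_dvd_of_pow_eq_one hj'
    rw [hw] at h6
    exact absurd ((Nat.prime_dvd_prime_iff_eq hp5 Nat.prime_two).mp (hp5.dvd_of_dvd_pow h6)) (by norm_num)
  · set K := pPrimeCore 2 H with hKdef
    have hK2 : (Nat.card K).Coprime 2 := Solv.pPrimeCore_card_coprime 2
    have : Nontrivial K := (nontrivial_iff_ne_bot K).mpr hK
    have hKs : Group.IsSolvable K := inferInstance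
    have hsol3 : IsPSolvable 3 K := ZJ.isPSolvable_of_isSolvable (G := K) 3 hKs
    have h3K : pPrimeCore 3 K ≠ ⊥ := by
      refine (S1901.exists_core_ne_bot hsol3).resolve_left (not_not.mpr ?_)
      have h1 := Solv.map_subtype_pCore_le 3 K
      rw [hOp, le_bot_iff, map_eq_bot_iff_of_injective _ K.subtype_injective] at h1
      exact h1
    set M := pPrimeCore 3 H ⊓ K with hM
    have hMn : M.Normal := inferInstance
    have hM1 : M ≠ ⊥ := by
      intro h0
      apply h3K
      have h1 := Solv.map_subtype_pPrimeCore_le 3 K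
      have h2 : (pPrimeCore 3 K).map K.subtype ≤ M := le_inf h1 (by
        rintro _ ⟨x, _, rfl⟩
        exact x.2)
      rw [h0, le_bot_iff, map_eq_bot_iff_of_injective _ K.subtype_injective] at h2
      exact h2
    have hMcard : Nat.card M = 5 := by
      have h1 : Nat.card M ∣ 5 * (16 * 3 ^ b) := by
        rw [show 5 * (16 * 3 ^ b) = (81 - 1) * 3 ^ b by ring, ← hb]
        exact card_subgroup_dvd_card _
      have h2 : (Nat.card M).Coprime (16 * 3 ^ b) := by
        refine Nat.Coprime.mul_right ?_ (Nat.Coprime.pow_right _ ?_)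
        · rw [show (16 : ℕ) = 2 ^ 4 by norm_num]
          exact Nat.Coprime.pow_right _ (Nat.Coprime.coprime_dvd_left (card_dvd_of_le inf_le_right) hK2)
        · exact Nat.Coprime.coprime_dvd_left (card_dvd_of_le inf_le_left) (Solv.pPrimeCore_card_coprime 3)
      have h3 : Nat.card M ∣ 5 := h2.dvd_of_dvd_mul_right h1
      rcases (Nat.dvd_prime hp5).mp h3 with h4 | h4
      · exact absurd (Subgroup.card_eq_one.mp h4) hM1
      · exact h4
    -- u centralizes M
    obtain ⟨C, hC, hmod⟩ := count M (r := 3) hu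
    have hCtop : C = ⊤ := by
      apply Subgroup.eq_top_of_card_eq
      have h1 : Nat.card C ∣ 5 := by rw [← hMcard]; exact C.card_subgroup_dvd_card
      rcases (Nat.dvd_prime hp5).mp h1 with h4 | h4
      · rw [h4, hMcard] at hmod
        exact absurd hmod (by decide)
      · rw [h4, hMcard]
    have hcomm : ∀ y ∈ M, u * y = y * u := by
      intro y hy
      have h5 : (⟨y, hy⟩ : M) ∈ C := by rw [hCtop]; exact mem_top _
      exact (hC _).mp h5
    -- fixed points of u on V
    let W : AddSubgroup V :=
      { carrier := {v | u • v = v}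
        zero_mem' := smul_zero u
        add_mem' := by
          intro a b ha hb
          have ha' : u • a = a := ha
          have hb' : u • b = b := hb
          change u • (a + b) = a + b
          rw [smul_add, ha', hb']
        neg_mem' := by
          intro a ha
          have ha' : u • a = a := ha
          change u • (-a) = -a
          rw [smul_neg, ha'] }
    have hup : IsPGroup 3 (zpowers u) := IsPGroup.of_card (n := 1) (by rw [Nat.card_zpowers, hu, pow_one])
    have hWfix : Nat.card (MulAction.fixedPoints (zpowers u) V) = Nat.card W := by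
      apply Nat.card_congr
      refine Equiv.subtypeEquivRight ?_
      intro v
      rw [MulAction.mem_fixedPoints]
      constructor
      · intro h
        exact h ⟨u, mem_zpowers u⟩
      · intro h g
        obtain ⟨k, hk⟩ := g.2
        have h1 : u ∈ MulAction.stabilizer H v := h
        have h2 := zpow_mem h1 k
        have h3 : (g : H) • v = v := by
          rw [← hk]
          exact h2
        exact h3
    have h1 := hup.card_modEq_card_fixedPoints V
    rw [hWfix, hV] at h1
    have hWd : Nat.card W ∣ 3 ^ 4 := by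
      have := AddSubgroup.card_addSubgroup_dvd_card W
      rw [hV] at this
      exact this
    obtain ⟨j, hj4, hj⟩ := (Nat.dvd_prime_pow Nat.prime_three).mp hWd
    have hj0 : j ≠ 0 := by
      intro h0
      rw [h0, pow_zero] at hj
      rw [hj] at h1
      exact absurd h1 (by decide)
    have hjne : j ≠ 4 := by
      intro h0
      have hWtop : W = ⊤ := by
        apply AddSubgroup.eq_top_of_card_eq
        rw [hj, h0, hV]
        norm_num
      have h2 : u = 1 := hf u (fun v => by
        have : v ∈ W := by rw [hWtop]; exact AddSubgroup.mem_top v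
        exact this)
      rw [h2, orderOf_one] at hu
      exact absurd hu (by norm_num)
    -- M acts on W
    have hMW : ∀ m : M, ∀ v : V, v ∈ W → (m : H) • v ∈ W := by
      intro m v hv
      have hv' : u • v = v := hv
      change u • ((m : H) • v) = (m : H) • v
      rw [← mul_smul, hcomm m m.2, mul_smul, hv']
    let act : MulAction M W :=
      { smul := fun m v => ⟨(m : H) • (v : V), hMW m v v.2⟩
        one_smul := fun v => Subtype.ext (one_smul H (v : V))
        mul_smul := fun a b v => Subtype.ext (mul_smul (a : H) (b : H) (v : V)) }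
    have hM5 : IsPGroup 5 M := IsPGroup.of_card (n := 1) (by rw [hMcard, pow_one])
    have h2 := hM5.card_modEq_card_fixedPoints W
    have h4 : Nat.card (MulAction.fixedPoints M W) = 1 := by
      rw [Nat.card_eq_one_iff_unique]
      refine ⟨⟨fun a b => ?_⟩, ⟨⟨0, fun m => Subtype.ext (smul_zero (m : H))⟩⟩⟩
      have key : ∀ a : MulAction.fixedPoints M W, ((a : W) : V) = 0 := by
        intro a
        by_contra hne
        have : Nontrivial M := (nontrivial_iff_ne_bot M).mpr hM1
        obtain ⟨m, hm⟩ := exists_ne (1 : M)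
        have h5 : (m : H) ∈ MulAction.stabilizer H ((a : W) : V) := by
          have := a.2 m
          exact congrArg Subtype.val this
        obtain ⟨k, hk⟩ := hst _ hne ⟨m, h5⟩
        have hk' : (m : H) ^ 3 ^ k = 1 := congrArg Subtype.val hk
        have h6 : orderOf (m : H) ∣ 5 := by
          rw [← hMcard, Subgroup.orderOf_coe]
          exact orderOf_dvd_natCard m
        have h7 : orderOf (m : H) ∣ 1 := by
          rw [← Nat.Coprime.gcd_eq_one (Nat.Coprime.pow_right k (show Nat.Coprime 5 3 by norm_num))]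
          exact Nat.dvd_gcd h6 (orderOf_dvd_of_pow_eq_one hk')
        exact hm (Subtype.ext (orderOf_eq_one_iff.mp (Nat.dvd_one.mp h7)))
      apply Subtype.ext
      apply Subtype.ext
      rw [key a, key b]
    rw [h4, hj] at h2
    unfold Nat.ModEq at h2
    interval_cases j <;> first | exact absurd rfl hj0 | exact absurd rfl hjne | (revert h2; decide)

/-- the exceptional case `|V| = 9` -/
theorem case9 (hsol : Group.IsSolvable H) (hf : FaithV H V) (htr : TransV H V)
    (hst : ∀ v : V, v ≠ 0 → IsPGroup 3 (MulAction.stabilizer H v)) (hOp : pCore 3 H = ⊥)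
    (hV : Nat.card V = 9) (hle : Nat.card H ∣ 48) :
    HasNormalPComplement 3 H ∧ ∀ Q : Sylow 3 H, IsMulCommutative (Q : Subgroup H) := by
  have : Fact (Nat.Prime 3) := ⟨Nat.prime_three⟩
  obtain ⟨b, hb⟩ := card_eq htr hst
  rw [hV] at hb
  have hb1 : b ≤ 1 := by
    have h1 : 3 ^ b ∣ 3 ^ 1 := by
      have h2 : (9 - 1) * 3 ^ b ∣ 48 := by rw [← hb]; exact hle
      have h3 : 8 * 3 ^ b ∣ 8 * 6 := by simpa using h2
      have h4 : 3 ^ b ∣ 6 := Nat.dvd_of_mul_dvd_mul_left (by norm_num) h3
      have h5 : Nat.Coprime (3 ^ b) 2 := Nat.Coprime.pow_left _ (by norm_num)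
      exact h5.dvd_of_dvd_mul_left (by simpa using h4)
    exact (Nat.pow_dvd_pow_iff_le_right (by norm_num)).mp h1
  rcases Nat.eq_zero_or_pos b with h0 | h0
  · rw [h0] at hb
    refine npc_of_hom (C := Unit) (fun _ _ => rfl) 1 ?_
    rw [MonoidHom.ker_one, Subgroup.card_top, hb]
    norm_num
  have hb' : b = 1 := by omega
  rw [hb'] at hb
  have hcard : Nat.card H = 24 := by rw [hb]; norm_num
  have h3 : 3 ∣ Nat.card H := by rw [hcard]; norm_num
  obtain ⟨u, hu⟩ := exists_prime_orderOf_dvd_card' (G := H) 3 h3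
  have hQ2 : IsPGroup 2 (pCore 2 H) := Solv.pCore_isPGroup 2
  obtain ⟨i, hi⟩ := IsPGroup.iff_card.mp hQ2
  have hidvd : 2 ^ i ∣ 8 := by
    have h3 : 2 ^ i ∣ 8 * 3 := by
      rw [← hi, show 8 * 3 = 24 by norm_num, ← hcard]; exact card_subgroup_dvd_card _
    exact (Nat.Coprime.pow_left _ (by norm_num)).dvd_of_dvd_mul_right h3
  have hi3 : i ≤ 3 :=
    (Nat.pow_dvd_pow_iff_le_right (x := 2) (k := i) (l := 3) (by norm_num)).mp (by simpa using hidvd)
  have hK : pPrimeCore 2 H = ⊥ := by
    have h1 : (Nat.card (pPrimeCore 2 H)).Coprime 2 := Solv.pPrimeCore_card_coprime 2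
    have h2 : Nat.card (pPrimeCore 2 H) ∣ 3 * 8 := by
      rw [show 3 * 8 = 24 by norm_num, ← hcard]; exact card_subgroup_dvd_card _
    have h4 : Nat.card (pPrimeCore 2 H) ∣ 3 := by
      apply Nat.Coprime.dvd_of_dvd_mul_right ?_ h2
      rw [show (8 : ℕ) = 2 ^ 3 by norm_num]
      exact h1.pow_right _
    rcases (Nat.dvd_prime Nat.prime_three).mp h4 with h5 | h5
    · exact Subgroup.card_eq_one.mp h5
    · exfalso
      have h6 : pPrimeCore 2 H ≤ pCore 3 H := Solv.le_pCore inferInstance
        (IsPGroup.of_card (n := 1) (by rw [h5, pow_one]))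
      rw [hOp, le_bot_iff] at h6
      rw [h6, Subgroup.card_bot] at h5
      exact absurd h5 (by norm_num)
  have hcent := H76.centralizer_pCore_le (ZJ.isPSolvable_of_isSolvable (G := H) 2 hsol) hK
  have hi' : i = 3 := by
    by_contra hne
    have h1 := count_two hf (by norm_num) hst (pCore 2 H) hQ2 hu (by
      intro i' j hi' hj hji hmod
      have h2 : i' = i := by
        rw [hi] at hi'
        exact (Nat.pow_right_injective le_rfl hi').symm
      subst h2
      unfold Nat.ModEq at hmod
      interval_cases i' <;> interval_cases j <;> first | rfl | (exfalso; revert hmod; decide) | exact absurd rfl hne)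
    have h2 : u ∈ pCore 2 H := hcent (by
      rw [mem_centralizer_iff]
      intro y hy
      exact (h1 y hy).symm)
    obtain ⟨j, hj⟩ := hQ2 ⟨u, h2⟩
    have hj' : u ^ 2 ^ j = 1 := congrArg Subtype.val hj
    have h6 := orderOf_dvd_of_pow_eq_one hj'
    rw [hu] at h6
    exact absurd ((Nat.prime_dvd_prime_iff_eq Nat.prime_three Nat.prime_two).mp
      (Nat.prime_three.dvd_of_dvd_pow h6)) (by norm_num)
  have hidx : Nat.card (H ⧸ pCore 2 H) = 3 := by
    have h1 := (pCore 2 H).card_mul_index
    rw [hi, hi', hcard] at h1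
    have h2 : (pCore 2 H).index = 3 := by omega
    rw [← h2]; rfl
  have hcyc : IsCyclic (H ⧸ pCore 2 H) := isCyclic_of_prime_card hidx
  refine npc_of_hom (C := H ⧸ pCore 2 H) (fun a b => ?_) (QuotientGroup.mk' _) ?_
  · obtain ⟨g, hg⟩ := hcyc.exists_generator
    obtain ⟨k, hk⟩ := hg a
    obtain ⟨l, hl⟩ := hg b
    rw [← hk, ← hl]
    exact (Commute.refl g).zpow_zpow k l
  · rw [QuotientGroup.ker_mk', hi, hi']
    norm_num

theorem trans_main {n : ℕ} (hn : Nat.card V = p ^ n) (hsol : Group.IsSolvable H) (hf : FaithV H V)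
    (htr : TransV H V) (hst : ∀ v : V, v ≠ 0 → IsPGroup p (MulAction.stabilizer H v))
    (hOp : pCore p H = ⊥) :
    HasNormalPComplement p H ∧ ∀ Q : Sylow p H, IsMulCommutative (Q : Subgroup H) := by
  obtain ⟨A, hA⟩ := exists_maxAb H
  have hpp := hp.out
  rcases structure_thm hn hsol hf htr hA with ⟨F, i1, i2, i3, h, h1⟩ |
    ⟨F, i1, i2, i3, B, h, hFq, hFn, hBn, hB, hq2, hBc, h1⟩
  · -- semilinear case
    refine npc_of_hom (C := F ≃+* F) ringAut_comm h.sg ?_
    intro hd
    obtain ⟨x, hx⟩ := exists_prime_orderOf_dvd_card' (G := h.sg.ker) p hd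
    have hxlin : ∀ (c : F) (v : V), (x : H) • (c • v) = c • ((x : H) • v) :=
      h.linear ((h.mem_ker hf x).mp x.2)
    obtain ⟨v0, hv0⟩ := exists_ne (0 : V)
    have : Module.Finite F V := Module.Finite.of_finite
    obtain ⟨c, hc⟩ := (finrank_eq_one_iff_of_nonzero' v0 hv0).mp h1 ((x : H) • v0)
    have hxc : ∀ v : V, (x : H) • v = c • v := by
      intro v
      obtain ⟨d, rfl⟩ := (finrank_eq_one_iff_of_nonzero' v0 hv0).mp h1 v
      rw [hxlin, ← hc, smul_comm]
    have hpow : ∀ (k : ℕ) (v : V), ((x : H) ^ k) • v = c ^ k • v := by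
      intro k
      induction k with
      | zero => intro v; rw [pow_zero, pow_zero, one_smul, one_smul]
      | succ k ih => intro v; rw [pow_succ, pow_succ, mul_smul, hxc, ih, smul_smul]
    have hxp : (x : H) ^ p = 1 := by
      have := pow_orderOf_eq_one x
      rw [hx] at this
      exact congrArg Subtype.val this
    have hcp : c ^ p = 1 := by
      apply smul_left_cancel_vec (V := V)
      intro v
      rw [← hpow, hxp, one_smul, one_smul]
    have hchar : CharP F p := by
      have h2 : Nat.card F = p ^ n := by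
        have := card_V_eq (F := F) (V := V)
        rw [h1, pow_one, hn] at this
        exact this.symm
      have := Fintype.ofFinite F
      obtain ⟨q, hq⟩ := CharP.exists F
      obtain ⟨k, hqp, hk⟩ := FiniteField.card F q
      rw [← Nat.card_eq_fintype_card, h2] at hk
      have h3 : q ∣ p ^ n := by rw [hk]; exact dvd_pow_self q k.pos.ne'
      have h4 : q = p := (Nat.prime_dvd_prime_iff_eq hqp hpp).mp (hqp.dvd_of_dvd_pow h3)
      rw [← h4]; exact hq
    have hc1 : c = 1 := by
      have h2 : (c - 1) ^ p = 0 := by rw [sub_pow_char, one_pow, hcp, sub_self]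
      exact sub_eq_zero.mp (pow_eq_zero_iff hpp.ne_zero |>.mp h2)
    have hx1 : (x : H) = 1 := hf _ (fun v => by rw [hxc, hc1, one_smul])
    have hx2 : x = 1 := Subtype.ext hx1
    rw [hx2, orderOf_one] at hx
    exact hpp.one_lt.ne hx
  · have hAd := h.card_dvd hf
    rw [hFq] at hAd
    have hApos : 0 < Nat.card A := Nat.card_pos
    have hAcop : Nat.Coprime p (Nat.card A) := by
      have h2 : Nat.Coprime p (p - 1) := by
        have := Nat.coprime_self_sub_right (m := 1) (n := p) hpp.one_lt.le
        rw [this]; exact Nat.coprime_one_right p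
      exact Nat.Coprime.coprime_dvd_right hAd h2
    rcases h1 with ⟨h2, h3, h4⟩ | ⟨h2, h3⟩
    · by_cases hp3 : p = 3
      · subst hp3
        refine case9 hsol hf htr hst hOp (by rw [hn, h2]; norm_num) ?_
        rw [← B.card_mul_index, hBc, h2]
        have h5 : Nat.card A ∣ 2 := by simpa using hAd
        exact (Nat.mul_dvd_mul (Nat.mul_dvd_mul_left _ h5) h4).trans (by norm_num)
      · have hp5 : 5 ≤ p := by
          have h5 := hpp.two_le
          by_contra hlt
          push Not at hlt
          interval_cases p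
          · exact hq2 rfl
          · exact hp3 rfl
          · exact absurd hpp (by norm_num)
        refine npc_of_hom (C := Unit) (fun _ _ => rfl) 1 ?_
        rw [MonoidHom.ker_one, Subgroup.card_top, ← B.card_mul_index, hBc, h2]
        intro hd
        have h6 : Nat.Coprime p 6 := by
          rw [hpp.coprime_iff_not_dvd]
          intro h7
          have h8 := Nat.le_of_dvd (by norm_num) h7
          interval_cases p <;> omega
        have h7 : Nat.Coprime p 4 := by
          rw [hpp.coprime_iff_not_dvd]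
          intro h7
          have h8 := Nat.le_of_dvd (by norm_num) h7
          omega
        have h8 : Nat.Coprime p (2 ^ 2 * Nat.card A * B.index) :=
          Nat.Coprime.mul_right (Nat.Coprime.mul_right (by simpa using h7) hAcop)
            (Nat.Coprime.coprime_dvd_right h4 h6)
        exact (hpp.coprime_iff_not_dvd.mp h8) hd
    · subst h3
      have h5 := case81 hsol hf htr hst hOp (by rw [hn, h2]; norm_num)
      refine npc_of_hom (C := Unit) (fun _ _ => rfl) 1 ?_
      rw [MonoidHom.ker_one, Subgroup.card_top]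
      exact h5

end Main

end Cfsg.Agent.H4.TransStab
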