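import Cfsg.Agent.H4.SmallBlk
import Cfsg.Agent.BlkInd.FirstMain

/-!
# 2-blocks of defect one (owner: helper4)
-/

set_option autoImplicit false
set_option linter.style.haveILetI false
set_option linter.unusedSectionVars false

namespace Cfsg.Agent.H4

open scoped ComplexConjugate
open Cfsg Cfsg.Agent.CharBase Cfsg.Agent.Blk Cfsg.Agent.BlkInd Cfsg.Agent.BlkC

universe u

variable {G : Type u} [Group G] [Fintype G] {M : Ideal AlgInt}
variable {B : Set (IrrCharacter G)}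

/-- the local data at a block of defect one -/
theorem loc_two (hM : IsPModular 2 M) (hB : IsPBlock M B) (hd : blockDefect 2 B = 1) {x : G}
    (hx : ∃ k : ℕ, orderOf x = 2 ^ k) (hx1 : x ≠ 1) {C : Subgroup G} [Fintype C]
    (hC : C = Subgroup.centralizer ({x} : Set G)) {b : Set (IrrCharacter C)}
    (hind : IsInducedBlock M C b B) : orderOf x = 2 ∧ blockDefect 2 b = 1 ∧
      (∀ D : Subgroup C, IsDefectGroup 2 M b D → D = Subgroup.zpowers ⟨x, mem_self hC⟩) ∧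
      UB 2 (2 ^ blockDefect 2 b) b := by
  haveI := isPrime_of_isPModular hM
  have key : ∀ D : Subgroup C, IsDefectGroup 2 M b D → Nat.card D = 2 ∧
      D = Subgroup.zpowers ⟨x, mem_self hC⟩ := by
    intro D hD
    obtain ⟨E, hE, hDE⟩ := defect_le_of_induced hM hind hD
    have hEc : Nat.card E = 2 := by rw [card_defectGroup hM hB hE, hd, pow_one]
    have h1 : Nat.card D ≤ 2 := by
      rw [← hEc, Nat.card_congr (D.equivMapOfInjective C.subtype C.subtype_injective).toEquiv]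
      exact Subgroup.card_le_of_le hDE
    have h2 := self_mem_defect hM hx hC hind.1 hD
    have h3 : Subgroup.zpowers (⟨x, mem_self hC⟩ : C) ≤ D := Subgroup.zpowers_le.mpr h2
    have h4 : 2 ≤ Nat.card (Subgroup.zpowers (⟨x, mem_self hC⟩ : C)) := by
      rw [Nat.card_zpowers, ← Subgroup.orderOf_coe]
      change 2 ≤ orderOf x
      have h5 : orderOf x ≠ 1 := fun h => hx1 (orderOf_eq_one_iff.mp h)
      have h6 := orderOf_pos x
      omega
    have h5 := Subgroup.card_le_of_le h3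
    exact ⟨by omega, (Subgroup.eq_of_le_of_card_ge h3 (by omega)).symm⟩
  obtain ⟨D, hD⟩ := exists_defectGroup hM hind.1
  obtain ⟨hc, hz⟩ := key D hD
  have hdb : blockDefect 2 b = 1 := by
    have := card_defectGroup hM hind.1 hD
    rw [hc] at this
    have h2 : 2 ^ 1 = 2 ^ blockDefect 2 b := by rw [← this]; norm_num
    exact (Nat.pow_right_injective (le_refl 2) h2).symm
  refine ⟨?_, hdb, fun D hD => (key D hD).2, ?_⟩
  · rw [hz, Nat.card_zpowers, ← Subgroup.orderOf_coe] at hc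
    exact hc
  · have h1 : D ≤ Subgroup.center C := by
      rw [hz, Subgroup.zpowers_le]
      exact mem_center_self hC
    have := UB_of_central hM hind.1 hD h1
    rw [hc] at this
    rw [hdb]
    exact this

variable [∀ x : G, Fintype (Subgroup.centralizer ({x} : Set G))]

theorem hF_two (hM : IsPModular 2 M) (hB : IsPBlock M B) (hd : blockDefect 2 B = 1) {X : Finset G}
    (hX : IsNTRep 2 X) :
    ∀ x ∈ X, ∀ b ∈ indB M (Subgroup.centralizer ({x} : Set G)) B, ∃ f, SqData x b B f ∧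
      ∀ θ ∈ b, ∀ (χ : IrrCharacter G) (y : Subgroup.centralizer ({x} : Set G)), ¬ 2 ∣ orderOf y →
        dpart 2 x b (χ : G → ℂ) y = (f χ : ℂ) * (θ : Subgroup.centralizer ({x} : Set G) → ℂ) y := by
  intro x hx b hb
  rw [mem_indB] at hb
  obtain ⟨h1, h2, -, h4⟩ := loc_two hM hB hd (hX.pel x hx) (hX.ne_one x hx) rfl hb
  exact sqData_of_unit hM h1 rfl hb h4 (by rw [h2, hd]) (heights_zero hM hB (by omega))

theorem block_two (hM : IsPModular 2 M) (hB : IsPBlock M B) (hd : blockDefect 2 B = 1) :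
    Nat.card B = 2 ∧ blockRank 2 B = 1 := by
  obtain ⟨X, hX⟩ := exists_isNTRep G 2
  obtain ⟨h1, h2, -⟩ := core_one hM hB hd hX (fun x hx b hb => by
    obtain ⟨f, hf, -⟩ := hF_two hM hB hd hX x hx b hb
    exact ⟨f, hf⟩)
  exact ⟨h1, h2⟩

omit [∀ x : G, Fintype (Subgroup.centralizer ({x} : Set G))] in
theorem exists_isNTRep_mem {p : ℕ} {x : G} (hx : ∃ k : ℕ, orderOf x = p ^ k) (hx1 : x ≠ 1) :
    ∃ X : Finset G, IsNTRep p X ∧ x ∈ X := by
  classical
  obtain ⟨X, hX⟩ := exists_isNTRep G p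
  obtain ⟨x₀, ⟨hx₀, hc⟩, huniq⟩ := hX.rep x hx hx1
  refine ⟨insert x (X.erase x₀), ⟨?_, ?_, ?_⟩, Finset.mem_insert_self _ _⟩
  · intro y hy
    rcases Finset.mem_insert.mp hy with rfl | hy
    · exact hx
    · exact hX.pel y (Finset.mem_of_mem_erase hy)
  · intro y hy
    rcases Finset.mem_insert.mp hy with rfl | hy
    · exact hx1
    · exact hX.ne_one y (Finset.mem_of_mem_erase hy)
  · intro g hg hg1
    obtain ⟨y, ⟨hy, hgy⟩, hu⟩ := hX.rep g hg hg1
    by_cases hyx : y = x₀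
    · subst hyx
      refine ⟨x, ⟨Finset.mem_insert_self _ _, hgy.trans hc.symm⟩, ?_⟩
      rintro z ⟨hz, hgz⟩
      rcases Finset.mem_insert.mp hz with rfl | hz
      · rfl
      · exfalso
        have h1 := hu z ⟨Finset.mem_of_mem_erase hz, hgz⟩
        exact (Finset.ne_of_mem_erase hz) h1
    · refine ⟨y, ⟨Finset.mem_insert_of_mem (Finset.mem_erase.mpr ⟨hyx, hy⟩), hgy⟩, ?_⟩
      rintro z ⟨hz, hgz⟩
      rcases Finset.mem_insert.mp hz with rfl | hz
      · exfalso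
        apply hyx
        exact huniq y ⟨hy, hgz.symm.trans hgy⟩
      · exact hu z ⟨Finset.mem_of_mem_erase hz, hgz⟩

/-- **S4513** -/
theorem block_two_values (hM : IsPModular 2 M) (hB : IsPBlock M B) (hd : blockDefect 2 B = 1)
    {x : G} (hx : orderOf x = 2) {b : Set (IrrCharacter (Subgroup.centralizer ({x} : Set G)))}
    (hb : IsInducedBlock M (Subgroup.centralizer ({x} : Set G)) b B)
    {θ : IrrCharacter (Subgroup.centralizer ({x} : Set G))} (hθ : θ ∈ b) :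
    Nat.card B = 2 ∧ (∀ χ ∈ B, ∀ ψ ∈ B, ∀ g : G, ¬ 2 ∣ orderOf g → (χ : G → ℂ) g = (ψ : G → ℂ) g) ∧
      ∃ χ₁ ∈ B, ∃ χ₂ ∈ B, χ₁ ≠ χ₂ ∧ ∃ ε₁ ε₂ : ℤ, (ε₁ = 1 ∨ ε₁ = -1) ∧ (ε₂ = 1 ∨ ε₂ = -1) ∧
        ε₁ * ε₂ = -1 ∧ ∀ y : ↥(Subgroup.centralizer ({x} : Set G)), ¬ 2 ∣ orderOf y →
          (χ₁ : G → ℂ) (x * y) = (ε₁ : ℂ) * (θ : ↥(Subgroup.centralizer ({x} : Set G)) → ℂ) y ∧
          (χ₂ : G → ℂ) (x * y) = (ε₂ : ℂ) * (θ : ↥(Subgroup.centralizer ({x} : Set G)) → ℂ) y := by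
  classical
  haveI := isPrime_of_isPModular hM
  have hxp : ∃ k : ℕ, orderOf x = 2 ^ k := ⟨1, by rw [hx, pow_one]⟩
  have hx1 : x ≠ 1 := by rintro rfl; rw [orderOf_one] at hx; omega
  obtain ⟨X, hX, hxX⟩ := exists_isNTRep_mem hxp hx1
  obtain ⟨hk, hl, hS, hf1⟩ := core_one hM hB hd hX (fun x hx b hb => by
    obtain ⟨f, hf, -⟩ := hF_two hM hB hd hX x hx b hb
    exact ⟨f, hf⟩)
  obtain ⟨f, hf, hval⟩ := hF_two hM hB hd hX x hxX b (mem_indB.mpr hb)
  have hsq := hf1 x hxX b (mem_indB.mpr hb) f hf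
  have hind : indB M (Subgroup.centralizer ({x} : Set G)) B = {b} := by
    obtain ⟨s, hs⟩ := Finset.card_eq_one.mp hS
    ext b'
    rw [Finset.mem_singleton]
    constructor
    · intro hb'
      have h1 : (⟨x, b'⟩ : Σ x : G, Set (IrrCharacter (Subgroup.centralizer ({x} : Set G)))) ∈
        subs M X B := Finset.mem_sigma.mpr ⟨hxX, hb'⟩
      have h2 : (⟨x, b⟩ : Σ x : G, Set (IrrCharacter (Subgroup.centralizer ({x} : Set G)))) ∈
        subs M X B := Finset.mem_sigma.mpr ⟨hxX, mem_indB.mpr hb⟩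
      rw [hs, Finset.mem_singleton] at h1 h2
      have h3 := h1.trans h2.symm
      exact eq_of_heq (Sigma.mk.inj_iff.mp h3).2
    · rintro rfl; exact mem_indB.mpr hb
  have hv : ∀ χ ∈ B, ∀ y : ↥(Subgroup.centralizer ({x} : Set G)), ¬ 2 ∣ orderOf y →
      (χ : G → ℂ) (x * y) = (f χ : ℂ) * (θ : ↥(Subgroup.centralizer ({x} : Set G)) → ℂ) y := by
    intro χ hχ y hy
    rw [← sum_dpart hM hxp rfl hB hχ hy, hind, Finset.sum_singleton, hval θ hθ χ y hy]
  -- two characters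
  have hc2 : (Bfin B).card = 2 := by rw [← natCard_eq_Bfin]; exact hk
  obtain ⟨χ₁, χ₂, hne, hBf⟩ := Finset.card_eq_two.mp hc2
  have h1B : χ₁ ∈ B := mem_Bfin.mp (by rw [hBf]; simp)
  have h2B : χ₂ ∈ B := mem_Bfin.mp (by rw [hBf]; simp)
  have hpm : ∀ χ ∈ B, f χ = 1 ∨ f χ = -1 := fun χ hχ => sq_eq_one_iff.mp (hsq χ hχ)
  have horth : ∀ g : G, ¬ 2 ∣ orderOf g →
      (f χ₁ : ℂ) * (χ₁ : G → ℂ) g + (f χ₂ : ℂ) * (χ₂ : G → ℂ) g = 0 := by
    intro g hg
    have h1 := blockKernel_eq_zero hM hB hg (y := x) (by rw [hx])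
    rw [blockKernel_eq_Bfin, hBf, Finset.sum_pair hne] at h1
    have h3 : ∀ χ ∈ B, (χ : G → ℂ) x = (f χ : ℂ) * (θ : ↥(Subgroup.centralizer ({x} : Set G)) → ℂ) 1 := by
      intro χ hχ
      have := hv χ hχ 1 (by rw [orderOf_one]; norm_num)
      rwa [Subgroup.coe_one, mul_one] at this
    have hθ1 : (θ : ↥(Subgroup.centralizer ({x} : Set G)) → ℂ) 1 ≠ 0 := irr_one_ne_zero θ.2
    have hθc : conj ((θ : ↥(Subgroup.centralizer ({x} : Set G)) → ℂ) 1) ≠ 0 := by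
      rwa [Ne, map_eq_zero]
    rw [h3 χ₁ h1B, h3 χ₂ h2B, map_mul, map_mul, map_intCast, map_intCast] at h1
    apply mul_right_cancel₀ hθc
    rw [zero_mul, ← h1]
    ring
  have hdeg : ∀ χ : IrrCharacter G, ∃ n : ℕ, 0 < n ∧ (χ : G → ℂ) 1 = n :=
    fun χ => ⟨_, charDegree_pos χ, charDegree_spec χ⟩
  obtain ⟨n₁, hn₁, e₁⟩ := hdeg χ₁
  obtain ⟨n₂, hn₂, e₂⟩ := hdeg χ₂
  have ho1 := horth 1 (by rw [orderOf_one]; norm_num)
  rw [e₁, e₂] at ho1
  have ho2 : f χ₁ * n₁ + f χ₂ * n₂ = 0 := by exact_mod_cast ho1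
  have hsign : f χ₂ = - f χ₁ := by
    rcases hpm χ₁ h1B with h | h <;> rcases hpm χ₂ h2B with h' | h' <;> rw [h, h'] at ho2 ⊢ <;>
      first | rfl | (exfalso; omega) | norm_num
  have heq : ∀ g : G, ¬ 2 ∣ orderOf g → (χ₁ : G → ℂ) g = (χ₂ : G → ℂ) g := by
    intro g hg
    have h1 := horth g hg
    rw [hsign] at h1
    have hf0 : (f χ₁ : ℂ) ≠ 0 := by
      rcases hpm χ₁ h1B with h | h <;> rw [h] <;> norm_num
    apply mul_left_cancel₀ hf0
    push_cast at h1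
    linear_combination h1
  refine ⟨hk, ?_, χ₁, h1B, χ₂, h2B, hne, f χ₁, f χ₂, hpm χ₁ h1B, hpm χ₂ h2B, ?_, ?_⟩
  · intro χ hχ ψ hψ g hg
    have h1 : χ ∈ Bfin B := mem_Bfin.mpr hχ
    have h2 : ψ ∈ Bfin B := mem_Bfin.mpr hψ
    rw [hBf, Finset.mem_insert, Finset.mem_singleton] at h1 h2
    rcases h1 with rfl | rfl <;> rcases h2 with rfl | rfl
    · rfl
    · exact heq g hg
    · exact (heq g hg).symm
    · rfl
  · rw [hsign]
    rcases hpm χ₁ h1B with h | h <;> rw [h] <;> norm_num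
  · intro y hy
    exact ⟨hv χ₁ h1B y hy, hv χ₂ h2B y hy⟩

end Cfsg.Agent.H4
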