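import Cfsg.Agent.H4.TransStab
import Cfsg.Agent.H4.CharKer
import Cfsg.Agent.Char.AvgN
import Cfsg.Agent.Char.Clifford
import Cfsg.Agent.Char.HallExt
import Cfsg.Agent.BlkC.Basic

/-!
# Irreducible characters which do not vanish on exactly two classes (owner: helper4)
-/

set_option autoImplicit false

namespace Cfsg.Agent.H4.TwoClass

open Subgroup Cfsg Cfsg.Agent.CharBase Cfsg.Agent.Char Cfsg.Agent.H4
open scoped ComplexConjugate

universe u

variable {G : Type u} [Group G]

/-- averages over a normalized subgroup are algebraic integers -/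
theorem isIntegral_avg [Finite G] {χ : G → ℂ} (hχ : IsCharacter G χ) (R : Subgroup G) [Fintype R] {x : G}
    (hx : x ∈ normalizer (R : Set G)) :
    IsIntegral ℤ ((Nat.card R : ℂ)⁻¹ * ∑ n : R, χ ((n : G) * x)) := by
  classical
  set L := normalizer (R : Set G) with hL
  have : Fintype L := Fintype.ofFinite L
  have : Fintype (R.subgroupOf L) := Fintype.ofFinite _
  have : Fintype (IrrCharacter L) := Fintype.ofFinite _
  have hRL : R ≤ L := le_normalizer
  have hn : (R.subgroupOf L).Normal := normal_in_normalizer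
  have hψ : IsCharacter L (fun l : L => χ l) := isCharacter_restrict hχ L
  have hsum := classFun_eq_sum (isClassFunction_of_isCharacter hψ)
  have h1 : (Nat.card R : ℂ)⁻¹ * ∑ n : R, χ ((n : G) * x) = avgN (R.subgroupOf L) (fun l : L => χ l) ⟨x, hx⟩ := by
    rw [avgN_apply, Nat.card_congr (subgroupOfEquivOfLe hRL).toEquiv]
    congr 1
    refine (Fintype.sum_equiv (subgroupOfEquivOfLe hRL).toEquiv _ _ fun n => ?_).symm
    rfl
  rw [h1, hsum, avgN_sum, Finset.sum_apply]
  refine IsIntegral.sum _ fun η _ => ?_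
  rw [avgN_smul, Pi.smul_apply, smul_eq_mul]
  refine IsIntegral.mul ?_ ?_
  · obtain ⟨a, ha⟩ := classInner_natCast hψ (irr_isCharacter η)
    rw [ha]
    exact BR.isIntegral_natCast_complex a
  · rcases avgN_irr (R.subgroupOf L) η.2 with h | h
    · rw [h]; exact isIntegral_zero
    · rw [h]; exact irr_isIntegral η _

/-- nonzero exactly on the classes of `1` and `x` -/
structure TC (χ : IrrCharacter G) (x : G) : Prop where
  ne : x ≠ 1
  supp : ∀ g, (χ : G → ℂ) g ≠ 0 ↔ g = 1 ∨ IsConj x g
  big : 2 < Nat.card G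

theorem sum_supp [Fintype G] {x : G} (hx : x ≠ 1) (f : G → ℂ) (hf : IsClassFunction G f)
    (h0 : ∀ g, g ≠ 1 → ¬ IsConj x g → f g = 0) :
    ∑ g, f g = f 1 + (centralizer ({x} : Set G)).index * f x := by
  classical
  have h1 : ∀ g, f g = (if g = 1 then f 1 else 0) + (if IsConj x g then f x else 0) := by
    intro g
    by_cases hg : g = 1
    · rw [if_pos hg, hg, if_neg, add_zero]
      intro hc
      exact hx (isConj_one_left.mp hc)
    · rw [if_neg hg, zero_add]
      by_cases hc : IsConj x g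
      · rw [if_pos hc]
        exact (classFun_eq_of_isConj hf hc).symm
      · rw [if_neg hc]
        exact h0 g hg hc
  rw [Finset.sum_congr rfl fun g _ => h1 g, Finset.sum_add_distrib, Finset.sum_ite_eq' Finset.univ (1 : G),
    if_pos (Finset.mem_univ _), ← Finset.sum_filter, Finset.sum_const, card_filter_isConj, nsmul_eq_mul]

section
variable [Fintype G] {χ : IrrCharacter G} {x : G}

/-- notation for the size of the class of `x` -/
noncomputable abbrev kk (x : G) : ℕ := (centralizer ({x} : Set G)).index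

theorem kk_pos [Finite G] (x : G) : 0 < kk x := Nat.pos_of_ne_zero index_ne_zero_of_finite

theorem TC.ne_one (h : TC χ x) : (χ : G → ℂ) ≠ fun _ => 1 := by
  intro h1
  have h2 := sum_supp h.ne (fun _ : G => (1 : ℂ)) (fun _ _ => rfl) (fun g hg hc => by
    exfalso
    have h3 := (h.supp g).mp (by rw [h1]; exact one_ne_zero)
    exact h3.elim hg hc)
  rw [Finset.sum_const, Finset.card_univ, nsmul_eq_mul, mul_one, mul_one, ← Nat.card_eq_fintype_card] at h2
  have h3 : Nat.card G = 1 + kk x := by exact_mod_cast h2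
  have h4 : kk x ∣ Nat.card G := index_dvd_card _
  have h5 : kk x ∣ 1 := by
    rw [h3] at h4
    exact (Nat.dvd_add_left dvd_rfl).mp h4
  have h6 := Nat.dvd_one.mp h5
  have := h.big
  omega

theorem TC.sum_eq (h : TC χ x) : (χ : G → ℂ) 1 + kk x * (χ : G → ℂ) x = 0 := by
  have h1 := sum_supp h.ne (χ : G → ℂ) (irr_isClassFunction χ) (fun g hg hc => by
    by_contra h0
    exact ((h.supp g).mp h0).elim hg hc)
  rw [← h1]
  have h2 : classInner (χ : G → ℂ) (fun _ => (1 : ℂ)) = 0 := by
    refine classInner_irr_of_ne (χ := χ) (ψ := oneIrr G) ?_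
    intro h3
    exact h.ne_one (congrArg Subtype.val h3)
  unfold classInner at h2
  have h3 : (Nat.card G : ℂ)⁻¹ ≠ 0 := inv_ne_zero (by exact_mod_cast Nat.card_pos.ne')
  have h4 := (mul_eq_zero.mp h2).resolve_left h3
  simpa using h4

theorem TC.val (h : TC χ x) : (χ : G → ℂ) x = -((charDegree (χ : G → ℂ) : ℂ) / kk x) := by
  have h1 := h.sum_eq
  rw [BlkC.charDegree_spec] at h1
  have h2 : (kk x : ℂ) ≠ 0 := by exact_mod_cast (kk_pos x).ne'
  field_simp
  linear_combination h1

theorem TC.card_eq (h : TC χ x) :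
    (kk x : ℂ) * Nat.card G = (charDegree (χ : G → ℂ) : ℂ) ^ 2 * (kk x + 1) := by
  have h1 := sum_supp h.ne (fun g => (χ : G → ℂ) g * conj ((χ : G → ℂ) g))
    (fun g y => by simp only [irr_isClassFunction χ g y])
    (fun g hg hc => by
      by_contra h0
      have h2 : (χ : G → ℂ) g ≠ 0 := left_ne_zero_of_mul h0
      exact ((h.supp g).mp h2).elim hg hc)
  have h2 := classInner_irr_self χ
  unfold classInner at h2
  have hG : (Nat.card G : ℂ) ≠ 0 := by exact_mod_cast Nat.card_pos.ne'
  rw [inv_mul_eq_one₀ hG, h1] at h2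
  have hk : (kk x : ℂ) ≠ 0 := by exact_mod_cast (kk_pos x).ne'
  rw [h2, h.val, BlkC.charDegree_spec]
  simp only [map_neg, map_div₀, Complex.conj_natCast]
  field_simp

/-- all other characters contain `x` in their kernel -/
theorem TC.other (h : TC χ x) (ψ : IrrCharacter G) (hψ : ψ ≠ χ) : (ψ : G → ℂ) x = (ψ : G → ℂ) 1 := by
  classical
  have : Fintype (IrrCharacter G) := Fintype.ofFinite _
  have hG : (Nat.card G : ℂ) ≠ 0 := by exact_mod_cast Nat.card_pos.ne'
  have hk : (kk x : ℂ) ≠ 0 := by exact_mod_cast (kk_pos x).ne'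
  set d : ℂ := (charDegree (χ : G → ℂ) : ℂ) with hd
  have e1 := sum_degree_mul (G := G) x
  rw [if_neg h.ne] at e1
  have e2 := sum_sq_degree (G := G)
  have e3 := column_orthogonality_of_isConj (IsConj.refl x)
  have e4 : ∑ ψ : IrrCharacter G, (ψ : G → ℂ) 1 * conj ((ψ : G → ℂ) x) = 0 := by
    have h1 := congrArg conj e1
    rw [map_sum, map_zero] at h1
    rw [← h1]
    refine Finset.sum_congr rfl fun ψ _ => ?_
    rw [map_mul, BlkC.charDegree_spec ψ, Complex.conj_natCast]
  have e5 : ∑ ψ : IrrCharacter G, ((ψ : G → ℂ) 1 - (ψ : G → ℂ) x) * conj ((ψ : G → ℂ) 1 - (ψ : G → ℂ) x) =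
      Nat.card G + Nat.card (centralizer ({x} : Set G)) := by
    have h1 : ∀ ψ : IrrCharacter G, ((ψ : G → ℂ) 1 - (ψ : G → ℂ) x) * conj ((ψ : G → ℂ) 1 - (ψ : G → ℂ) x) =
        ((ψ : G → ℂ) 1) ^ 2 - (ψ : G → ℂ) 1 * (ψ : G → ℂ) x - (ψ : G → ℂ) 1 * conj ((ψ : G → ℂ) x) +
          (ψ : G → ℂ) x * conj ((ψ : G → ℂ) x) := by
      intro ψ
      rw [map_sub, BlkC.charDegree_spec ψ, Complex.conj_natCast]
      ring
    rw [Finset.sum_congr rfl fun ψ _ => h1 ψ, Finset.sum_add_distrib, Finset.sum_sub_distrib,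
      Finset.sum_sub_distrib, e1, e2, e3, e4]
    ring
  have e6 : ((χ : G → ℂ) 1 - (χ : G → ℂ) x) * conj ((χ : G → ℂ) 1 - (χ : G → ℂ) x) =
      Nat.card G + Nat.card (centralizer ({x} : Set G)) := by
    have h1 := h.card_eq
    have h2 : (kk x : ℂ) * Nat.card (centralizer ({x} : Set G)) = Nat.card G := by
      have := (centralizer ({x} : Set G)).index_mul_card
      exact_mod_cast this
    rw [h.val, BlkC.charDegree_spec, map_sub, map_neg, map_div₀, Complex.conj_natCast, Complex.conj_natCast]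
    have h3 : (Nat.card (centralizer ({x} : Set G)) : ℂ) = Nat.card G / kk x := by
      rw [← h2]; field_simp
    have h4 : (Nat.card G : ℂ) = d ^ 2 * (kk x + 1) / kk x := by
      rw [← h1]; field_simp
    rw [h3, h4]
    field_simp
    ring
  have e7 : ∑ ψ ∈ Finset.univ.erase χ, Complex.normSq ((ψ : G → ℂ) 1 - (ψ : G → ℂ) x) = 0 := by
    have h1 := Finset.add_sum_erase (Finset.univ : Finset (IrrCharacter G))
      (fun ψ : IrrCharacter G => ((ψ : G → ℂ) 1 - (ψ : G → ℂ) x) * conj ((ψ : G → ℂ) 1 - (ψ : G → ℂ) x))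
      (Finset.mem_univ χ)
    rw [e5, e6] at h1
    have h2 : ∑ ψ ∈ Finset.univ.erase χ, ((ψ : G → ℂ) 1 - (ψ : G → ℂ) x) * conj ((ψ : G → ℂ) 1 - (ψ : G → ℂ) x) = 0 := by
      linear_combination h1
    have h3 : ((∑ ψ ∈ Finset.univ.erase χ, Complex.normSq ((ψ : G → ℂ) 1 - (ψ : G → ℂ) x) : ℝ) : ℂ) = 0 := by
      push_cast
      rw [← h2]
      refine Finset.sum_congr rfl fun ψ _ => ?_
      rw [Complex.mul_conj]
    exact_mod_cast h3
  rw [Finset.sum_eq_zero_iff_of_nonneg (fun ψ _ => Complex.normSq_nonneg _)] at e7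
  have h1 := e7 ψ (Finset.mem_erase.mpr ⟨hψ, Finset.mem_univ _⟩)
  rw [Complex.normSq_eq_zero, sub_eq_zero] at h1
  exact h1.symm

/-- the minimal normal subgroup -/
def nsub (χ : IrrCharacter G) : Subgroup G := ⨅ ψ : {ψ : IrrCharacter G // ψ ≠ χ}, charKer ψ.1

theorem mem_nsub {g : G} : g ∈ nsub χ ↔ ∀ ψ : IrrCharacter G, ψ ≠ χ → (ψ : G → ℂ) g = (ψ : G → ℂ) 1 := by
  unfold nsub
  rw [mem_iInf]
  constructor
  · intro h ψ hψ
    exact h ⟨ψ, hψ⟩
  · intro h ψ
    exact h ψ.1 ψ.2

instance nsub_normal : (nsub χ).Normal := by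
  unfold nsub
  exact normal_iInf_normal fun ψ => inferInstance

theorem TC.mem_iff (h : TC χ x) (g : G) : g ∈ nsub χ ↔ g = 1 ∨ IsConj x g := by
  classical
  constructor
  · intro hg
    by_cases hg1 : g = 1
    · exact Or.inl hg1
    rw [mem_nsub] at hg
    rw [← h.supp]
    intro h0
    have : Fintype (IrrCharacter G) := Fintype.ofFinite _
    have e1 := sum_degree_mul (G := G) g
    rw [if_neg hg1] at e1
    have e2 := sum_sq_degree (G := G)
    rw [← Finset.add_sum_erase _ _ (Finset.mem_univ χ)] at e1 e2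
    have e3 : ∑ ψ ∈ Finset.univ.erase χ, (ψ : G → ℂ) 1 * (ψ : G → ℂ) g =
        ∑ ψ ∈ Finset.univ.erase χ, (ψ : G → ℂ) 1 ^ 2 := by
      refine Finset.sum_congr rfl fun ψ hψ => ?_
      rw [hg ψ (Finset.ne_of_mem_erase hψ), pow_two]
    rw [e3, h0, mul_zero, zero_add] at e1
    rw [e1, add_zero] at e2
    have e4 := h.card_eq
    rw [BlkC.charDegree_spec] at e2
    have hk : 0 < kk x := kk_pos x
    have e5 : kk x * Nat.card G = charDegree (χ : G → ℂ) ^ 2 * (kk x + 1) := by exact_mod_cast e4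
    have e6 : charDegree (χ : G → ℂ) ^ 2 = Nat.card G := by exact_mod_cast e2
    rw [e6] at e5
    have hG : 0 < Nat.card G := Nat.card_pos
    nlinarith
  · rintro (rfl | hc)
    · exact one_mem _
    · have hx : x ∈ nsub χ := mem_nsub.mpr (fun ψ hψ => h.other ψ hψ)
      obtain ⟨c, hc⟩ := isConj_iff.mp hc
      rw [← hc]
      exact nsub_normal.conj_mem x hx c

theorem TC.card_nsub (h : TC χ x) : Nat.card (nsub χ) = kk x + 1 := by
  classical
  have h1 : (nsub χ : Set G) = insert 1 {g | IsConj x g} := by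
    ext g
    rw [SetLike.mem_coe, h.mem_iff, Set.mem_insert_iff, Set.mem_ofPred_eq]
  have h2 : Nat.card (nsub χ) = (nsub χ : Set G).ncard := rfl
  rw [h2, h1, Set.ncard_insert_of_notMem]
  · congr 1
    exact card_isConj_eq_index x
  · intro hc
    exact h.ne (isConj_one_left.mp hc)

/-- every nontrivial normal subgroup contains `nsub` -/
theorem TC.le_of_normal (h : TC χ x) (L : Subgroup G) [hL : L.Normal] (hL1 : L ≠ ⊥) : nsub χ ≤ L := by
  classical
  have : Fintype L := Fintype.ofFinite L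
  have hxL : x ∈ L := by
    by_contra hx
    have h0 : ∀ y : L, y ≠ 1 → (χ : G → ℂ) y = 0 := by
      intro y hy
      by_contra h1
      rcases (h.supp y).mp h1 with h2 | h2
      · exact hy (Subtype.ext h2)
      · obtain ⟨c, hc⟩ := isConj_iff.mp h2
        apply hx
        have h3 : x = c⁻¹ * y * c := by rw [← hc]; group
        rw [h3]
        have := hL.conj_mem (y : G) y.2 c⁻¹
        rwa [inv_inv] at this
    have h1 : classInner (fun y : L => (χ : G → ℂ) y) (fun _ => (1 : ℂ)) ≠ 0 := by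
      unfold classInner
      refine mul_ne_zero (inv_ne_zero (by exact_mod_cast Nat.card_pos.ne')) ?_
      rw [Finset.sum_eq_single (1 : L)]
      · rw [map_one, mul_one]
        exact irr_one_ne_zero χ.2
      · intro b _ hb
        change (χ : G → ℂ) b * _ = 0
        rw [h0 b hb, zero_mul]
      · intro h2
        exact absurd (Finset.mem_univ _) h2
    have h2 := restrict_eq_smul_of_invariant L χ.2 (oneIrr L).2 h1 (fun g => rfl)
    have : Nontrivial L := (nontrivial_iff_ne_bot L).mpr hL1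
    obtain ⟨y, hy⟩ := exists_ne (1 : L)
    have h3 := congrFun h2 y
    have h4 := congrFun h2 1
    change (χ : G → ℂ) y = _ at h3
    rw [h0 y hy] at h3
    have h5 : (χ : G → ℂ) 1 = 0 := by
      have h6 : (χ : G → ℂ) ((1 : L) : G) = 0 := by
        rw [h4]
        exact h3.symm
      exact h6
    exact irr_one_ne_zero χ.2 h5
  intro g hg
  rcases (h.mem_iff g).mp hg with rfl | hc
  · exact one_mem _
  · obtain ⟨c, hc⟩ := isConj_iff.mp hc
    rw [← hc]
    exact hL.conj_mem x hxL c

theorem TC.exists_prime (h : TC χ x) : ∃ p : ℕ, p.Prime ∧ orderOf x = p := by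
  have h1 : Nat.card (nsub χ) ≠ 1 := by
    rw [h.card_nsub]
    have := kk_pos x
    omega
  obtain ⟨p, hp, hd⟩ := Nat.exists_prime_and_dvd h1
  have : Fact p.Prime := ⟨hp⟩
  obtain ⟨y, hy⟩ := exists_prime_orderOf_dvd_card' p hd
  refine ⟨p, hp, ?_⟩
  have hy1 : (y : G) ≠ 1 := by
    intro h2
    have : y = 1 := Subtype.ext h2
    rw [this, orderOf_one] at hy
    exact hp.one_lt.ne hy
  rcases (h.mem_iff y).mp y.2 with h2 | h2
  · exact absurd h2 hy1
  · rw [← hy, ← orderOf_coe]
    exact BlkC.orderOf_conj_eq h2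

variable {p : ℕ} [hp : Fact p.Prime]

theorem TC.pow_eq (h : TC χ x) (hx : orderOf x = p) {g : G} (hg : g ∈ nsub χ) : g ^ p = 1 := by
  rcases (h.mem_iff g).mp hg with rfl | hc
  · exact one_pow _
  · rw [← hx, BlkC.orderOf_conj_eq hc]
    exact pow_orderOf_eq_one g

theorem TC.isPGroup (h : TC χ x) (hx : orderOf x = p) : IsPGroup p (nsub χ) := by
  intro g
  exact ⟨1, Subtype.ext (by rw [pow_one]; exact h.pow_eq hx g.2)⟩

theorem TC.comm (h : TC χ x) (hx : orderOf x = p) : ∀ a ∈ nsub χ, ∀ b ∈ nsub χ, a * b = b * a := by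
  have h1 : nsub χ ≠ ⊥ := by
    intro h0
    have h2 := h.card_nsub
    rw [h0, card_bot] at h2
    have := kk_pos x
    omega
  have : Nontrivial (nsub χ) := (nontrivial_iff_ne_bot _).mpr h1
  have hZ := (h.isPGroup hx).center_nontrivial
  obtain ⟨z, hz⟩ := exists_ne (1 : center (nsub χ))
  have hz1 : ((z : nsub χ) : G) ≠ 1 := by
    intro h2
    exact hz (Subtype.ext (Subtype.ext h2))
  have hzx : IsConj x ((z : nsub χ) : G) := ((h.mem_iff _).mp (z : nsub χ).2).resolve_left hz1
  intro a ha b hb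
  rcases (h.mem_iff a).mp ha with rfl | hc
  · rw [one_mul, mul_one]
  · obtain ⟨c, hc⟩ := isConj_iff.mp (hzx.symm.trans hc)
    have h3 : c⁻¹ * b * c ∈ nsub χ := by
      have := (nsub_normal (χ := χ)).conj_mem b hb c⁻¹
      rwa [inv_inv] at this
    have h4 : ((z : nsub χ) : G) * (c⁻¹ * b * c) = (c⁻¹ * b * c) * (z : nsub χ) :=
      (congrArg Subtype.val (mem_center_iff.mp z.2 ⟨_, h3⟩)).symm
    rw [← hc]
    calc c * ((z : nsub χ) : G) * c⁻¹ * b = c * (((z : nsub χ) : G) * (c⁻¹ * b * c)) * c⁻¹ := by group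
      _ = c * ((c⁻¹ * b * c) * (z : nsub χ)) * c⁻¹ := by rw [h4]
      _ = b * (c * ((z : nsub χ) : G) * c⁻¹) := by group

/-- the centralizer of `x` is a `p`-group -/
theorem TC.centralizer (h : TC χ x) (hx : orderOf x = p) : IsPGroup p (Subgroup.centralizer ({x} : Set G)) := by
  classical
  have hpp := hp.out
  set C := Subgroup.centralizer ({x} : Set G) with hC
  obtain ⟨n, hn⟩ := IsPGroup.iff_card.mp (h.isPGroup hx)
  rw [h.card_nsub] at hn
  -- d = k m
  have hk := kk_pos x
  have hkC : (kk x : ℂ) ≠ 0 := by exact_mod_cast hk.ne'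
  obtain ⟨m, hm⟩ : kk x ∣ charDegree (χ : G → ℂ) := by
    apply HE.nat_dvd_of_isIntegral hk.ne'
    have h1 := (irr_isIntegral χ x).neg
    rw [h.val, neg_neg] at h1
    exact h1
  have hval : (χ : G → ℂ) x = -(m : ℂ) := by
    rw [h.val, hm]
    push_cast
    field_simp
  have hcardC : Nat.card C = m ^ 2 * p ^ n := by
    have e4 := h.card_eq
    have e5 : kk x * Nat.card G = charDegree (χ : G → ℂ) ^ 2 * (kk x + 1) := by exact_mod_cast e4
    rw [← (Subgroup.centralizer ({x} : Set G)).index_mul_card, hm, hn] at e5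
    have e6 : kk x * (kk x * Nat.card C) = kk x * (kk x * (m ^ 2 * p ^ n)) := by
      rw [e5]; ring
    exact Nat.eq_of_mul_eq_mul_left hk (Nat.eq_of_mul_eq_mul_left hk e6)
  have hm0 : m ≠ 0 := by
    rintro rfl
    have : 0 < Nat.card C := Nat.card_pos
    rw [hcardC] at this
    simp at this
  have hmpow : ∀ r : ℕ, r.Prime → r ≠ p → ¬ r ∣ m := by
    intro r hr hrp hrm
    have : Fact r.Prime := ⟨hr⟩
    obtain ⟨S⟩ : Nonempty (Sylow r C) := inferInstance
    set R : Subgroup G := (S : Subgroup C).map C.subtype with hR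
    have : Fintype R := Fintype.ofFinite R
    have hRr : IsPGroup r R := S.isPGroup'.map _
    have hRcard : Nat.card R = r ^ (2 * m.factorization r) := by
      rw [hR, card_map_of_injective C.subtype_injective, S.card_eq_multiplicity, hcardC,
        Nat.factorization_mul (pow_ne_zero _ hm0) (pow_ne_zero _ hpp.ne_zero), Finsupp.add_apply,
        Nat.factorization_pow, hpp.factorization_pow, Finsupp.single_eq_of_ne hrp]
      simp
    have hRx : ∀ y ∈ R, y * x = x * y := by
      rintro _ ⟨y, _, rfl⟩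
      exact mem_centralizer_singleton_iff.mp y.2
    have hxn : x ∈ normalizer (R : Set G) := by
      apply Subgroup.centralizer_le_normalizer
      rw [mem_centralizer_iff]
      exact hRx
    have h1 := isIntegral_avg (irr_isCharacter χ) R hxn
    have h2 : ∑ y : R, (χ : G → ℂ) ((y : G) * x) = -(m : ℂ) := by
      rw [Finset.sum_eq_single (1 : R)]
      · rw [coe_one, one_mul, hval]
      · intro y _ hy
        by_contra h3
        have h4 : ((y : G) * x) ^ p = 1 := by
          rcases (h.supp _).mp h3 with h5 | h5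
          · rw [h5, one_pow]
          · rw [← hx, BlkC.orderOf_conj_eq h5]
            exact pow_orderOf_eq_one _
        have h5 : Commute (y : G) x := hRx y y.2
        rw [h5.mul_pow, ← hx, pow_orderOf_eq_one x, mul_one, hx] at h4
        obtain ⟨j, hj⟩ := hRr y
        have hj' : (y : G) ^ r ^ j = 1 := congrArg Subtype.val hj
        have h6 : orderOf (y : G) ∣ 1 := by
          rw [← Nat.Coprime.gcd_eq_one (Nat.Coprime.pow_right j ((Nat.coprime_primes hpp hr).mpr hrp.symm))]
          exact Nat.dvd_gcd (orderOf_dvd_of_pow_eq_one h4) (orderOf_dvd_of_pow_eq_one hj')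
        exact hy (Subtype.ext (orderOf_eq_one_iff.mp (Nat.dvd_one.mp h6)))
      · intro h3
        exact absurd (Finset.mem_univ _) h3
    rw [h2] at h1
    have h3 : IsIntegral ℤ ((m : ℂ) / (Nat.card R : ℕ)) := by
      have := h1.neg
      convert this using 1
      field_simp
    have h4 : Nat.card R ∣ m := HE.nat_dvd_of_isIntegral Nat.card_pos.ne' h3
    rw [hRcard] at h4
    have h5 : 2 * m.factorization r ≤ m.factorization r :=
      (hr.pow_dvd_iff_le_factorization hm0).mp h4
    have h6 : 0 < m.factorization r := hr.factorization_pos_of_dvd hm0 hrm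
    omega
  -- m is a power of p
  obtain ⟨j, hj⟩ : ∃ j, m = p ^ j := by
    refine ⟨m.factorization p, ?_⟩
    apply Nat.eq_pow_of_factorization_eq_single hm0
    ext r
    by_cases hr : r = p
    · rw [hr, Finsupp.single_eq_same]
    · rw [Finsupp.single_eq_of_ne hr]
      by_cases hrp : r.Prime
      · exact Nat.factorization_eq_zero_of_not_dvd (hmpow r hrp hr)
      · exact Nat.factorization_eq_zero_of_not_prime _ hrp
  exact IsPGroup.of_card (n := j * 2 + n) (by rw [hcardC, hj, ← pow_mul, ← pow_add])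

end

end Cfsg.Agent.H4.TwoClass
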