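import Cfsg.Agent.H4.TwoClass

/-!
# Solvable groups with an irreducible character which vanishes on all but two classes (owner: helper4)
-/

set_option autoImplicit false

namespace Cfsg.Agent.H4.TwoClass

open Subgroup Cfsg Cfsg.Agent.CharBase Cfsg.Agent.Char Cfsg.Agent.H4
open scoped ComplexConjugate

universe u

variable {G : Type u} [Group G] [Fintype G] {χ : IrrCharacter G} {x : G} {p : ℕ} [hp : Fact p.Prime]

theorem TC.nsub_ne_bot (h : TC χ x) : nsub χ ≠ ⊥ := by
  intro h0
  have h2 := h.card_nsub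
  rw [h0, card_bot] at h2
  have := kk_pos x
  omega

theorem TC.pCore_ne_bot (h : TC χ x) (hx : orderOf x = p) : pCore p G ≠ ⊥ := by
  intro h0
  have h1 := Solv.le_pCore (nsub_normal (χ := χ)) (h.isPGroup hx)
  rw [h0, le_bot_iff] at h1
  exact h.nsub_ne_bot h1

theorem TC.pCore_eq_bot (h : TC χ x) (hx : orderOf x = p) {q : ℕ} (hq : q.Prime) (hqp : q ≠ p) :
    pCore q G = ⊥ := by
  by_contra h0
  have h1 := h.le_of_normal (pCore q G) h0
  have hxn : x ∈ nsub χ := (h.mem_iff x).mpr (Or.inr (IsConj.refl x))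
  obtain ⟨j, hj⟩ := Solv.pCore_isPGroup q (G := G) ⟨x, h1 hxn⟩
  have hj' : x ^ q ^ j = 1 := congrArg Subtype.val hj
  have h2 := orderOf_dvd_of_pow_eq_one hj'
  rw [hx] at h2
  exact hqp ((Nat.prime_dvd_prime_iff_eq hp.out hq).mp (hp.out.dvd_of_dvd_pow h2)).symm

theorem TC.centralizer_isPGroup (h : TC χ x) (hx : orderOf x = p) {a : G} (ha : a ∈ nsub χ) (ha1 : a ≠ 1) :
    ∀ g : G, g * a = a * g → ∃ j : ℕ, g ^ p ^ j = 1 := by
  intro g hg
  obtain ⟨c, hc⟩ := isConj_iff.mp (((h.mem_iff a).mp ha).resolve_left ha1)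
  have h1 : c⁻¹ * g * c ∈ Subgroup.centralizer ({x} : Set G) := by
    rw [mem_centralizer_singleton_iff]
    have h2 : x = c⁻¹ * a * c := by rw [← hc]; group
    rw [h2]
    calc c⁻¹ * g * c * (c⁻¹ * a * c) = c⁻¹ * (g * a) * c := by group
      _ = c⁻¹ * (a * g) * c := by rw [hg]
      _ = c⁻¹ * a * c * (c⁻¹ * g * c) := by group
  obtain ⟨j, hj⟩ := h.centralizer hx ⟨_, h1⟩
  refine ⟨j, ?_⟩
  have h2 : (c⁻¹ * g * c) ^ p ^ j = 1 := congrArg Subtype.val hj
  have h3 : g = c * (c⁻¹ * g * c) * c⁻¹ := by group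
  rw [h3, conj_pow, h2]
  group

theorem TC.centralizer_eq (h : TC χ x) (hx : orderOf x = p) :
    Subgroup.centralizer (nsub χ : Set G) = pCore p G := by
  have hxn : x ∈ nsub χ := (h.mem_iff x).mpr (Or.inr (IsConj.refl x))
  apply le_antisymm
  · apply Solv.le_pCore inferInstance
    apply (h.centralizer hx).to_le
    intro g hg
    rw [mem_centralizer_iff] at hg
    rw [mem_centralizer_singleton_iff]
    exact (hg x hxn).symm
  · set O := pCore p G with hO
    have hOp : IsPGroup p O := Solv.pCore_isPGroup p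
    have hO1 := h.pCore_ne_bot hx
    have : Nontrivial O := (nontrivial_iff_ne_bot O).mpr hO1
    have hZ := hOp.center_nontrivial
    have h1 : (center O).map O.subtype ≠ ⊥ := by
      intro h0
      rw [map_eq_bot_iff_of_injective _ O.subtype_injective] at h0
      exact (nontrivial_iff_ne_bot _).mp hZ h0
    have h2 := h.le_of_normal _ h1
    intro g hg
    rw [mem_centralizer_iff]
    intro a ha
    obtain ⟨z, hz, rfl⟩ := h2 ha
    exact (congrArg Subtype.val (mem_center_iff.mp hz ⟨g, hg⟩)).symm

/-- the conjugation action on `nsub` of the quotient by the `p`-core -/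
noncomputable def act (χ : IrrCharacter G) (O : Subgroup G) [O.Normal] (hO : ∀ g ∈ O, ∀ a ∈ nsub χ, g * a = a * g) :
    G ⧸ O →* MulAut (nsub χ) :=
  QuotientGroup.lift O (MulAut.conjNormal : G →* MulAut (nsub χ)) (by
    intro g hg
    rw [MonoidHom.mem_ker]
    apply MulEquiv.ext
    intro a
    apply Subtype.ext
    rw [MulAut.conjNormal_apply, hO g hg a a.2, mul_inv_cancel_right]
    rfl)

theorem act_mk (χ : IrrCharacter G) (O : Subgroup G) [O.Normal] (hO : ∀ g ∈ O, ∀ a ∈ nsub χ, g * a = a * g)
    (g : G) (a : nsub χ) : ((act χ O hO (QuotientGroup.mk g) a : nsub χ) : G) = g * a * g⁻¹ := by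
  have h1 : act χ O hO (QuotientGroup.mk g) = (MulAut.conjNormal g : MulAut (nsub χ)) := rfl
  rw [h1, MulAut.conjNormal_apply]

theorem TC.quot (h : TC χ x) (hx : orderOf x = p) (hsol : Group.IsSolvable G) :
    HasNormalPComplement p (G ⧸ pCore p G) ∧
      ∀ Q : Sylow p (G ⧸ pCore p G), IsMulCommutative (Q : Subgroup (G ⧸ pCore p G)) := by
  set O := pCore p G with hO
  have hcen : Subgroup.centralizer (nsub χ : Set G) = O := h.centralizer_eq hx
  have hOc : ∀ g ∈ O, ∀ a ∈ nsub χ, g * a = a * g := by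
    intro g hg a ha
    rw [← hcen, mem_centralizer_iff] at hg
    exact (hg a ha).symm
  letI : CommGroup (nsub χ) := { (inferInstance : Group (nsub χ)) with
    mul_comm := fun a b => Subtype.ext (h.comm hx a a.2 b b.2) }
  letI : DistribMulAction (G ⧸ O) (Additive (nsub χ)) :=
    { smul := fun q v => Additive.ofMul (act χ O hOc q v.toMul)
      one_smul := fun v => by
        change Additive.ofMul (act χ O hOc 1 v.toMul) = v
        rw [map_one]; rfl
      mul_smul := fun a b v => by
        change Additive.ofMul (act χ O hOc (a * b) v.toMul) = _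
        rw [map_mul]; rfl
      smul_zero := fun a => by
        change Additive.ofMul (act χ O hOc a 1) = _
        rw [map_one]; rfl
      smul_add := fun a v w => by
        change Additive.ofMul (act χ O hOc a (v.toMul * w.toMul)) = _
        rw [map_mul]; rfl }
  have hsmul : ∀ (g : G) (v : Additive (nsub χ)),
      ((((QuotientGroup.mk g : G ⧸ O) • v).toMul : nsub χ) : G) = g * (v.toMul : nsub χ) * g⁻¹ := by
    intro g v
    exact act_mk χ O hOc g v.toMul
  have hext : ∀ v w : Additive (nsub χ), ((v.toMul : nsub χ) : G) = (w.toMul : nsub χ) → v = w := by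
    intro v w hvw
    exact Subtype.ext hvw
  have hne : ∀ v : Additive (nsub χ), v ≠ 0 → ((v.toMul : nsub χ) : G) ≠ 1 := by
    intro v hv h1
    apply hv
    apply hext
    rw [h1]; rfl
  have hnt : Nontrivial (Additive (nsub χ)) := by
    have : Nontrivial (nsub χ) := (nontrivial_iff_ne_bot _).mpr h.nsub_ne_bot
    exact inferInstanceAs (Nontrivial (nsub χ))
  have hfin : Finite (Additive (nsub χ)) := inferInstanceAs (Finite (nsub χ))
  obtain ⟨n, hn⟩ := IsPGroup.iff_card.mp (h.isPGroup hx)
  refine TransStab.trans_main (V := Additive (nsub χ)) (n := n) hn inferInstance ?_ ?_ ?_ ?_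
  · -- faithful
    intro q
    induction q using QuotientGroup.induction_on with
    | H g =>
      intro hq
      have h1 : g ∈ O := by
        rw [← hcen, mem_centralizer_iff]
        intro a ha
        have h2 := congrArg (fun v : Additive (nsub χ) => ((v.toMul : nsub χ) : G)) (hq (Additive.ofMul ⟨a, ha⟩))
        simp only [hsmul] at h2
        exact (mul_inv_eq_iff_eq_mul.mp h2).symm
      exact (QuotientGroup.eq_one_iff g).mpr h1
  · -- transitive
    intro v w hv hw
    have h1 := ((h.mem_iff _).mp (v.toMul).2).resolve_left (hne v hv)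
    have h2 := ((h.mem_iff _).mp (w.toMul).2).resolve_left (hne w hw)
    obtain ⟨c, hc⟩ := isConj_iff.mp (h1.symm.trans h2)
    refine ⟨QuotientGroup.mk c, hext _ _ ?_⟩
    rw [hsmul]
    exact hc
  · -- stabilizers
    intro v hv q
    obtain ⟨q, hq⟩ := q
    induction q using QuotientGroup.induction_on with
    | H g =>
      have hq' : (QuotientGroup.mk g : G ⧸ O) • v = v := hq
      have h2 := congrArg (fun v : Additive (nsub χ) => ((v.toMul : nsub χ) : G)) hq'
      simp only [hsmul] at h2
      obtain ⟨j, hj⟩ := h.centralizer_isPGroup hx (v.toMul).2 (hne v hv) g (mul_inv_eq_iff_eq_mul.mp h2)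
      refine ⟨j, ?_⟩
      apply Subtype.ext
      change ((QuotientGroup.mk g : G ⧸ O)) ^ p ^ j = 1
      rw [← QuotientGroup.mk_pow, hj]
      rfl
  · exact Solv.pCore_quotient_pCore p

end Cfsg.Agent.H4.TwoClass
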